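/-
`SU_4(q)` is generated by its transvections.
-/
import Cfsg.Agent.Lib.Classical.UnitaryPSU
import Cfsg.Agent.Lib.Transvec.UnitarySub

set_option autoImplicit false

namespace CfsgLib.SUFour

open Matrix Cfsg CfsgLib.Transvec CfsgLib.Transvec.Unitary
open scoped MatrixGroups

variable {F : Type*} [Field F] [Fintype F] {n q : ℕ} {σ : F ≃+* F}

/-- For `4 ≤ n` the special unitary group lies in every group containing all unitary transvections. -/
theorem su_le_of_transv (hF : Fintype.card F = q ^ 2) (hσ : ∀ x, σ x = x ^ q) (hinv : ∀ x, σ (σ x) = x)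
    (hne : σ ≠ RingEquiv.refl F) (hn : 4 ≤ n) {M : Subgroup (GL (Fin n) F)}
    (hU : ∀ v, Cfsg.hermForm n F q v v = 0 → ∀ c, c + σ c = 0 → uT (Cfsg.hermForm n F q) v c ∈ M) :
    Cfsg.GU n F q ⊓ Cfsg.Geo.specialLinear (Fin n) F ≤ M := by
  intro g hg
  refine transvGroup_le_of (isUnitaryForm_hermForm hσ hinv hne) hU ?_
  rw [← CfsgLib.Classical.Unitary.range_suToGL hF hσ hinv hne (by omega) (by omega)]
  exact ⟨⟨⟨(g : Matrix (Fin n) (Fin n) F), (mem_specialLinear_iff g).mp hg.2⟩, fun u v => hg.1 u v⟩,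
    Units.ext rfl⟩

end CfsgLib.SUFour
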