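/-
Two complementary totally isotropic planes in four-dimensional unitary space: overgroups of their common
stabiliser.
-/
import Cfsg.Agent.Lib.Transvec.UnitaryPair

set_option autoImplicit false
set_option linter.all false

namespace CfsgLib.SUFour

open Matrix CfsgLib.Transvec CfsgLib.Transvec.Unitary
open scoped MatrixGroups

variable {ι : Type} [Fintype ι] [DecidableEq ι] {F : Type*} [Field F] [Finite F] {σ : F ≃+* F}
  {f : (ι → F) → (ι → F) → F}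

/-- A root element with a sum as second end. -/
lemma uX_add_right (hf : Cfsg.Geo.IsUnitaryForm σ f) {c a b : ι → F} (hc : f c c = 0) (ha : f a a = 0)
    (hb : f b b = 0) (hab : f (b + a) (b + a) = 0) (hca : f c a = 0) (hcb : f c b = 0) (μ : F) :
    uX σ f c (b + a) μ = uX σ f c b μ * uX σ f c a μ * uT f c (μ * σ μ * f a b) := gl_ext fun x => by
  have hcab : f c (b + a) = 0 := by rw [add_right' hf, hcb, hca, add_zero]
  simp only [mul_mulVec, uX_mulVec hf hab hcab, uX_mulVec hf hb hcb, uX_mulVec hf ha hca, uT_mulVec hf hc,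
    hf.add_left, sub_left' hf, hf.smul_left, hc, hca, hcb, (eq_zero_comm hf).mp hca, (eq_zero_comm hf).mp hcb,
    add_right' hf]
  module

/-- A root element with proportional ends is a transvection. -/
lemma uX_self (hf : Cfsg.Geo.IsUnitaryForm σ f) {c : ι → F} (hc : f c c = 0) (j μ : F) :
    uX σ f c (j • c) μ = uT f c (μ * σ j - σ μ * j) := gl_ext fun x => by
  rw [uX_mulVec hf (by rw [hf.smul_left, smul_right' hf, hc, mul_zero, mul_zero]) (by rw [smul_right' hf, hc, mul_zero]),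
    uT_mulVec hf hc, smul_right' hf]
  module

/-- The data of two complementary totally isotropic planes. -/
structure Planes (σ : F ≃+* F) (f : (ι → F) → (ι → F) → F) (M : Subgroup (GL ι F)) (A B : Submodule F (ι → F))
    (pA pB : (ι → F) →ₗ[F] (ι → F)) : Prop where
  projA : ∀ x, pA x ∈ A
  projB : ∀ x, pB x ∈ B
  split : ∀ x, pA x + pB x = x
  singA : ∀ x ∈ A, ∀ y ∈ A, f x y = 0
  singB : ∀ x ∈ B, ∀ y ∈ B, f x y = 0
  perpA : ∀ c ∈ A, ∃ d ∈ B, d ≠ 0 ∧ f c d = 0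
  perpB : ∀ d ∈ B, ∃ c ∈ A, c ≠ 0 ∧ f d c = 0
  lineA : ∀ d ∈ B, d ≠ 0 → ∀ c ∈ A, c ≠ 0 → f c d = 0 → ∀ x ∈ A, f x d = 0 → x ∈ Submodule.span F {c}
  lineB : ∀ c ∈ A, c ≠ 0 → ∀ d ∈ B, d ≠ 0 → f d c = 0 → ∀ x ∈ B, f x c = 0 → x ∈ Submodule.span F {d}
  mem : ∀ c ∈ A, ∀ d ∈ B, f c d = 0 → ∀ μ, uX σ f c d μ ∈ M
  tor : ∀ e ∈ A, ∀ g ∈ B, f e g = 1 → ∀ r : F, r ≠ 0 → σ r = r → ∃ h ∈ M, Iso f h ∧
    ∀ z, (h : Matrix ι ι F) *ᵥ z = z + ((r - 1) * f z g) • e + ((r⁻¹ - 1) * f z e) • g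

namespace Planes

variable {M : Subgroup (GL ι F)} {A B : Submodule F (ι → F)} {pA pB : (ι → F) →ₗ[F] (ι → F)}

lemma symm (hf : Cfsg.Geo.IsUnitaryForm σ f) (H : Planes σ f M A B pA pB) : Planes σ f M B A pB pA where
  projA := H.projB
  projB := H.projA
  split x := by rw [add_comm]; exact H.split x
  singA := H.singB
  singB := H.singA
  perpA := H.perpB
  perpB := H.perpA
  lineA := H.lineB
  lineB := H.lineA
  mem c hc d hd h μ := by
    rw [uX_comm hf (H.singA d hd d hd) (H.singB c hc c hc) ((eq_zero_comm hf).mp h)]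
    exact H.mem d hd c hc ((eq_zero_comm hf).mp h) _
  tor e he g hg heg r hr hσr := by
    obtain ⟨h, hh, hi, hz⟩ := H.tor g hg e he (by rw [hf.herm, heg, map_one]) r⁻¹ (inv_ne_zero hr)
      (by rw [map_inv₀, hσr])
    refine ⟨h, hh, hi, fun z => ?_⟩
    rw [hz, inv_inv]
    abel

lemma f_left (hf : Cfsg.Geo.IsUnitaryForm σ f) (H : Planes σ f M A B pA pB) (x : ι → F) {c : ι → F} (hc : c ∈ A) :
    f x c = f (pB x) c := by
  conv_lhs => rw [← H.split x]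
  rw [hf.add_left, H.singA _ (H.projA x) _ hc, zero_add]

lemma inter (hf : Cfsg.Geo.IsUnitaryForm σ f) (H : Planes σ f M A B pA pB) {x : ι → F} (hA : x ∈ A) (hB : x ∈ B) :
    x = 0 := by
  by_contra hx
  obtain ⟨y, hy⟩ := (hf.nondegenerate x hx).1
  refine hy ?_
  rw [H.f_left hf y hA]
  exact H.singB _ (H.projB y) _ hB

lemma pA_ne (H : Planes σ f M A B pA pB) {x : ι → F} (hx : x ∉ B) : pA x ≠ 0 := fun h0 =>
  hx (by rw [← H.split x, h0, zero_add]; exact H.projB x)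

lemma pB_ne (H : Planes σ f M A B pA pB) {x : ι → F} (hx : x ∉ A) : pB x ≠ 0 := fun h0 =>
  hx (by rw [← H.split x, h0, add_zero]; exact H.projA x)

lemma isotropic (hf : Cfsg.Geo.IsUnitaryForm σ f) (H : Planes σ f M A B pA pB) {a b : ι → F} (ha : a ∈ A)
    (hb : b ∈ B) : f (a + b) (a + b) = f a b + σ (f a b) := by
  rw [hf.add_left, add_right' hf, add_right' hf, H.singA a ha a ha, H.singB b hb b hb, ← hf.herm, zero_add, add_zero]

/-- The plane of one vector is paired faithfully. -/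
lemma exists_one (hf : Cfsg.Geo.IsUnitaryForm σ f) (H : Planes σ f M A B pA pB) {d : ι → F} (hd : d ∈ B)
    (hd0 : d ≠ 0) : ∃ a ∈ A, f a d = 1 := by
  obtain ⟨z, hz⟩ := (hf.nondegenerate d hd0).1
  have e : f (pA z) d = f z d := by
    conv_rhs => rw [← H.split z]
    rw [hf.add_left, H.singB _ (H.projB z) _ hd, add_zero]
  exact ⟨(f z d)⁻¹ • pA z, A.smul_mem _ (H.projA z), by rw [hf.smul_left, e, inv_mul_cancel₀ hz]⟩

/-- A conjugated root group with one end in a half and the other off the opposite half. -/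
lemma key (hf : Cfsg.Geo.IsUnitaryForm σ f) (H : Planes σ f M A B pA pB) {k : GL ι F} (hk : k ∈ M)
    (hki : Iso f k) {x y : ι → F} (hx : x ∈ A) (hx0 : x ≠ 0) (hy : y ∈ B) (hxy : f x y = 0)
    (hkx : (k : Matrix ι ι F) *ᵥ x ∈ A) (hky : (k : Matrix ι ι F) *ᵥ y ∉ B) :
    ∃ v, v ≠ 0 ∧ UFull σ f M v := by
  obtain ⟨c, hc⟩ : ∃ c, c = (k : Matrix ι ι F) *ᵥ x := ⟨_, rfl⟩
  obtain ⟨d, hd⟩ : ∃ d, d = (k : Matrix ι ι F) *ᵥ y := ⟨_, rfl⟩
  rw [← hc] at hkx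
  rw [← hd] at hky
  have hc0 : c ≠ 0 := hc ▸ mulVec_ne_zero k hx0
  have hcd : f c d = 0 := by rw [hc, hd, hki, hxy]
  have hdd : f d d = 0 := by rw [hd, hki, H.singB y hy y hy]
  obtain ⟨a, ha⟩ : ∃ a, a = pA d := ⟨_, rfl⟩
  obtain ⟨b, hb⟩ : ∃ b, b = pB d := ⟨_, rfl⟩
  have haA : a ∈ A := ha ▸ H.projA d
  have hbB : b ∈ B := hb ▸ H.projB d
  have hdab : d = b + a := by rw [ha, hb, add_comm, H.split]
  have hcc := H.singA c hkx c hkx
  have haa := H.singA a haA a haA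
  have hbb := H.singB b hbB b hbB
  have hca : f c a = 0 := H.singA c hkx a haA
  have hcb : f c b = 0 := by
    have := hcd
    rwa [hdab, add_right' hf, hca, add_zero] at this
  have hN : ∀ μ, uX σ f c a μ * uT f c (μ * σ μ * f a b) ∈ M := by
    intro μ
    have h1 := M.mul_mem (M.inv_mem (H.mem c hkx b hbB hcb μ))
      (show uX σ f c d μ ∈ M by
        rw [hc, hd, ← conj_uX hf hki hxy]
        exact M.mul_mem (M.mul_mem hk (H.mem x hx y hy hxy μ)) (M.inv_mem hk))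
    rwa [hdab, uX_add_right hf hcc haa hbb (hdab ▸ hdd) hca hcb μ, mul_assoc (uX σ f c b μ),
      inv_mul_cancel_left] at h1
  refine ⟨c, hc0, hcc, fun s hs => ?_⟩
  obtain ⟨t, ht⟩ := exists_sub_conj hf hs
  by_cases hac : a ∈ Submodule.span F {c}
  · obtain ⟨j, hj⟩ := Submodule.mem_span_singleton.mp hac
    have hj0 : j ≠ 0 := fun h0 => H.pA_ne hky (by rw [← ha, ← hj, h0, zero_smul])
    have hσj0 : σ j ≠ 0 := (map_ne_zero_iff _ σ.injective).mpr hj0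
    have h1 := hN (t / σ j)
    have hab : f a b = 0 := by rw [← hj, hf.smul_left, hcb, mul_zero]
    rw [hab, mul_zero, show uT f c (0 : F) = 1 from gl_ext fun z => by rw [uT_mulVec hf hcc]; simp, mul_one, ← hj,
      uX_self hf hcc, map_div₀, hf.involutive, div_mul_cancel₀ _ hσj0, div_mul_cancel₀ _ hj0, ht] at h1
    exact h1
  · obtain ⟨b₀, hb₀, hb₀0, hcb₀⟩ := H.perpA c hkx
    have hab₀ : f a b₀ ≠ 0 := fun h0 => hac (H.lineA b₀ hb₀ hb₀0 c hkx hc0 hcb₀ a haA h0)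
    obtain ⟨b', hb'⟩ : ∃ b', b' = σ (f a b₀)⁻¹ • b₀ := ⟨_, rfl⟩
    have hb'B : b' ∈ B := hb' ▸ B.smul_mem _ hb₀
    have hcb' : f c b' = 0 := by rw [hb', smul_right' hf, hcb₀, mul_zero]
    have hab' : f a b' = 1 := by rw [hb', smul_right' hf, hf.involutive, inv_mul_cancel₀ hab₀]
    have hb'b' := H.singB b' hb'B b' hb'B
    have hh := H.mem c hkx b' hb'B hcb' 1
    have hi := iso_uX hf hcc hb'b' hcb' 1
    have hhc : (uX σ f c b' 1 : Matrix ι ι F) *ᵥ c = c := by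
      rw [uX_mulVec hf hb'b' hcb', hcc, hcb']; simp
    have hha : (uX σ f c b' 1 : Matrix ι ι F) *ᵥ a = a + c := by
      rw [uX_mulVec hf hb'b' hcb', hab', H.singA a haA c hkx]; simp
    have h1 := M.mul_mem (M.inv_mem (hN t)) (M.mul_mem (M.mul_mem hh (hN t)) (M.inv_mem hh))
    have e1 : uX σ f c b' 1 * (uX σ f c a t * uT f c (t * σ t * f a b)) * (uX σ f c b' 1)⁻¹ =
        (uX σ f c a t * uT f c (t * σ t * f a b)) * uT f c s := by
      rw [show uX σ f c b' 1 * (uX σ f c a t * uT f c (t * σ t * f a b)) * (uX σ f c b' 1)⁻¹ =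
        (uX σ f c b' 1 * uX σ f c a t * (uX σ f c b' 1)⁻¹) *
          (uX σ f c b' 1 * uT f c (t * σ t * f a b) * (uX σ f c b' 1)⁻¹) by group,
        conj_uX hf hi hca, conj_uT hf hi hcc, hhc, hha]
      refine gl_ext fun z => ?_
      have hs' := H.singA _ (A.add_mem haA hkx) _ (A.add_mem haA hkx)
      simp only [mul_mulVec, uX_mulVec hf hs' (by rw [add_right' hf, hca, hcc, add_zero]),
        uX_mulVec hf haa hca, uT_mulVec hf hcc, add_right' hf, hf.add_left, hf.smul_left, sub_left' hf, hcc, hca,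
        (eq_zero_comm hf).mp hca, haa, ← ht]
      module
    rwa [e1, inv_mul_cancel_left] at h1

/-- An element fixing one half and moving the other. -/
lemma of_fix (hf : Cfsg.Geo.IsUnitaryForm σ f) (H : Planes σ f M A B pA pB) {k : GL ι F}
    (hk : k ∈ M) (hki : Iso f k) (hA : ∀ x ∈ A, (k : Matrix ι ι F) *ᵥ x ∈ A) {y : ι → F} (hy : y ∈ B)
    (hky : (k : Matrix ι ι F) *ᵥ y ∉ B) : ∃ v, v ≠ 0 ∧ UFull σ f M v := by
  obtain ⟨x, hx, hx0, hyx⟩ := H.perpB y hy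
  exact H.key hf hk hki hx hx0 hy ((eq_zero_comm hf).mp hyx) (hA x hx) hky

/-- An element mapping some vector of a half into that half, without preserving both halves. -/
lemma of_pure (hf : Cfsg.Geo.IsUnitaryForm σ f) (H : Planes σ f M A B pA pB) {r₁ r₂ : F} (hr₁ : r₁ ≠ 0)
    (hr₂ : r₂ ≠ 0) (hσ₁ : σ r₁ = r₁) (hσ₂ : σ r₂ = r₂) (h₁1 : r₁ ≠ 1) (h₂1 : r₂ ≠ 1) (h12 : r₁ ≠ r₂)
    {g : GL ι F} (hg : g ∈ M) (hgi : Iso f g) {x : ι → F} (hx : x ∈ A) (hx0 : x ≠ 0)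
    (hgx : (g : Matrix ι ι F) *ᵥ x ∈ A)
    (hns : ¬ ((∀ z ∈ A, (g : Matrix ι ι F) *ᵥ z ∈ A) ∧ ∀ z ∈ B, (g : Matrix ι ι F) *ᵥ z ∈ B)) :
    ∃ v, v ≠ 0 ∧ UFull σ f M v := by
  obtain ⟨d₀, hd₀, hd₀0, hxd₀⟩ := H.perpA x hx
  by_cases hd : (g : Matrix ι ι F) *ᵥ d₀ ∈ B
  swap
  · exact H.key hf hg hgi hx hx0 hd₀ hxd₀ hgx hd
  by_cases hA : ∀ z ∈ A, (g : Matrix ι ι F) *ᵥ z ∈ A
  · obtain ⟨y, hy, hgy⟩ : ∃ y ∈ B, (g : Matrix ι ι F) *ᵥ y ∉ B := by
      by_contra h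
      simp only [not_exists, not_and, not_not] at h
      exact hns ⟨hA, h⟩
    exact H.of_fix hf hg hgi hA hy hgy
  obtain ⟨d, hdd⟩ : ∃ d, d = (g : Matrix ι ι F) *ᵥ d₀ := ⟨_, rfl⟩
  rw [← hdd] at hd
  obtain ⟨a, ha, had⟩ := H.exists_one hf hd (hdd ▸ mulVec_ne_zero g hd₀0)
  -- the conjugated torus fixes B
  have hfix : ∀ r : F, r ≠ 0 → σ r = r → (∃ v, v ≠ 0 ∧ UFull σ f M v) ∨
      ∀ z ∈ A, ∃ w ∈ A, (g : Matrix ι ι F) *ᵥ w = ((r - 1) * f z d₀) • a +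
        ((r⁻¹ - 1) * f ((g : Matrix ι ι F) *ᵥ z) a) • d := by
    intro r hr hσr
    obtain ⟨h, hh, hi, hform⟩ := H.tor a ha d hd had r hr hσr
    have hkM : g⁻¹ * h * g ∈ M := M.mul_mem (M.mul_mem (M.inv_mem hg) hh) hg
    have hki : Iso f (g⁻¹ * h * g) := (hgi.inv.mul hi).mul hgi
    have hk : ∀ z, ((g⁻¹ * h * g : GL ι F) : Matrix ι ι F) *ᵥ z =
        z + ((g⁻¹ : GL ι F) : Matrix ι ι F) *ᵥ (((r - 1) * f ((g : Matrix ι ι F) *ᵥ z) d) • a +
          ((r⁻¹ - 1) * f ((g : Matrix ι ι F) *ᵥ z) a) • d) := fun z => by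
      rw [mul_mulVec, mul_mulVec, hform, add_assoc, mulVec_add, inv_mulVec_cancel]
    have hd' : ((g⁻¹ : GL ι F) : Matrix ι ι F) *ᵥ d = d₀ := by rw [hdd, inv_mulVec_cancel]
    by_cases hA' : ∀ z ∈ A, ((g⁻¹ * h * g : GL ι F) : Matrix ι ι F) *ᵥ z ∈ A
    · refine Or.inr fun z hz => ⟨_, A.sub_mem (hA' z hz) hz, ?_⟩
      rw [hk, add_sub_cancel_left, mulVec_inv_cancel, hdd, hgi]
    · refine Or.inl ?_
      simp only [not_forall] at hA'
      obtain ⟨z, hz, hkz⟩ := hA'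
      refine (H.symm hf).of_fix hf hkM hki (fun y hy => ?_) hz hkz
      rw [hk, show f ((g : Matrix ι ι F) *ᵥ y) d = 0 by rw [hdd, hgi, H.singB y hy d₀ hd₀], mul_zero, zero_smul,
        zero_add, mulVec_smul, hd']
      exact B.add_mem hy (B.smul_mem _ hd₀)
  rcases hfix r₁ hr₁ hσ₁ with h | h₁
  · exact h
  rcases hfix r₂ hr₂ hσ₂ with h | h₂
  · exact h
  have h1' : r₁ - 1 ≠ 0 := sub_ne_zero.mpr h₁1
  have h2' : r₂ - 1 ≠ 0 := sub_ne_zero.mpr h₂1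
  have hzero : ∀ z ∈ A, f ((g : Matrix ι ι F) *ᵥ z) a = 0 := by
    intro z hz
    obtain ⟨w₁, hw₁, e₁⟩ := h₁ z hz
    obtain ⟨w₂, hw₂, e₂⟩ := h₂ z hz
    have e3 : (g : Matrix ι ι F) *ᵥ ((r₂ - 1)⁻¹ • w₂ - (r₁ - 1)⁻¹ • w₁) =
        (g : Matrix ι ι F) *ᵥ (((r₁⁻¹ - r₂⁻¹) * f ((g : Matrix ι ι F) *ᵥ z) a) • d₀) := by
      rw [mulVec_sub, mulVec_smul, mulVec_smul, mulVec_smul, e₁, e₂, ← hdd]
      match_scalars <;> field_simp <;> ring
    have e4 := mulVec_injective g e3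
    have e5 := H.inter hf (A.sub_mem (A.smul_mem _ hw₂) (A.smul_mem _ hw₁)) (e4 ▸ B.smul_mem _ hd₀)
    rw [e4, smul_eq_zero] at e5
    rcases mul_eq_zero.mp (e5.resolve_right hd₀0) with h3 | h3
    · exact absurd (inv_injective (sub_eq_zero.mp h3)) h12
    · exact h3
  obtain ⟨a₀, ha₀, ha₀d⟩ := H.exists_one hf hd₀ hd₀0
  obtain ⟨w, hw, hgw⟩ : ∃ w ∈ A, (g : Matrix ι ι F) *ᵥ w = a := by
    obtain ⟨w₁, hw₁, e₁⟩ := h₁ a₀ ha₀
    refine ⟨(r₁ - 1)⁻¹ • w₁, A.smul_mem _ hw₁, ?_⟩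
    rw [mulVec_smul, e₁, hzero a₀ ha₀, ha₀d, mul_one, mul_zero, zero_smul, add_zero, smul_smul,
      inv_mul_cancel₀ h1', one_smul]
  refine absurd (fun z hz => ?_) hA
  have hwd : f w d₀ = 1 := by rw [← hgi, hgw, ← hdd, had]
  obtain ⟨j, hj⟩ := Submodule.mem_span_singleton.mp (H.lineA d₀ hd₀ hd₀0 x hx hx0 hxd₀ (z - f z d₀ • w)
    (A.sub_mem hz (A.smul_mem _ hw)) (by rw [sub_left' hf, hf.smul_left, hwd, mul_one, sub_self]))
  rw [show z = j • x + f z d₀ • w by rw [hj, sub_add_cancel], mulVec_add, mulVec_smul, mulVec_smul, hgw]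
  exact A.add_mem (A.smul_mem _ hgx) (A.smul_mem _ ha)

/-- An element under which no vector of a half stays in a half. -/
lemma of_mixed (hf : Cfsg.Geo.IsUnitaryForm σ f) (H : Planes σ f M A B pA pB) {r₁ r₂ : F} (hr₁ : r₁ ≠ 0)
    (hr₂ : r₂ ≠ 0) (hσ₁ : σ r₁ = r₁) (hσ₂ : σ r₂ = r₂) (h₁1 : r₁ ≠ 1) (h₂1 : r₂ ≠ 1) (h12 : r₁ ≠ r₂)
    {a₁ : ι → F} (ha₁ : a₁ ∈ A) (ha₁0 : a₁ ≠ 0) {g : GL ι F} (hg : g ∈ M) (hgi : Iso f g)
    (hmix : ∀ x, x ≠ 0 → (x ∈ A ∨ x ∈ B) → (g : Matrix ι ι F) *ᵥ x ∉ A ∧ (g : Matrix ι ι F) *ᵥ x ∉ B) :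
    ∃ v, v ≠ 0 ∧ UFull σ f M v := by
  obtain ⟨z, hz⟩ : ∃ z : (ι → F) → ι → F, ∀ c, z c = ((g⁻¹ : GL ι F) : Matrix ι ι F) *ᵥ c := ⟨_, fun _ => rfl⟩
  have hgz : ∀ c, (g : Matrix ι ι F) *ᵥ z c = c := fun c => by rw [hz, mulVec_inv_cancel]
  have hne : ∀ c ∈ A, c ≠ 0 → pA (z c) ≠ 0 ∧ pB (z c) ≠ 0 := by
    intro c hc hc0
    have hz0 : z c ≠ 0 := by rw [hz]; exact mulVec_ne_zero _ hc0
    exact ⟨H.pA_ne fun hm => (hmix _ hz0 (Or.inr hm)).1 (by rwa [hgz]),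
      H.pB_ne fun hm => (hmix _ hz0 (Or.inl hm)).1 (by rwa [hgz])⟩
  have hzz : ∀ c ∈ A, ∀ c' ∈ A, f (pA (z c)) (pB (z c')) + σ (f (pA (z c')) (pB (z c))) = 0 := by
    intro c hc c' hc'
    have e2 : f (z c) (z c') = 0 := by rw [hz, hz, hgi.inv, H.singA c hc c' hc']
    rw [← H.split (z c), ← H.split (z c'), hf.add_left, add_right' hf, add_right' hf,
      H.singA _ (H.projA _) _ (H.projA _), H.singB _ (H.projB _) _ (H.projB _),
      hf.herm (pB (z c)) (pA (z c'))] at e2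
    linear_combination e2
  obtain ⟨c, hc, hc0, hinv⟩ : ∃ c ∈ A, c ≠ 0 ∧ f (pA (z c)) (pB (z c)) ≠ 0 := by
    by_contra hcon
    have hq : ∀ c ∈ A, f (pA (z c)) (pB (z c)) = 0 := fun c hc => by
      by_cases hc0 : c = 0
      · rw [hc0, hz, mulVec_zero, map_zero, zero_left' hf]
      by_contra hne'
      exact hcon ⟨c, hc, hc0, hne'⟩
    have hall : ∀ c ∈ A, ∀ c' ∈ A, f (pA (z c)) (pB (z c')) = 0 := by
      intro c hc c' hc'
      obtain ⟨θ, hθ⟩ : ∃ θ : F, σ θ ≠ θ := by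
        by_contra h
        simp only [not_exists, not_not] at h
        exact hf.ne_refl (RingEquiv.ext h)
      have hpol : ∀ l : F, σ l * f (pA (z c)) (pB (z c')) + l * f (pA (z c')) (pB (z c)) = 0 := by
        intro l
        have e1 := hq _ (A.add_mem hc (A.smul_mem l hc'))
        rw [hz, mulVec_add, mulVec_smul, ← hz, ← hz, map_add, map_add, map_smul, map_smul, hf.add_left,
          add_right' hf, add_right' hf, smul_right' hf, smul_right' hf, hf.smul_left, hf.smul_left, hq c hc,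
          hq c' hc'] at e1
        linear_combination e1
      have h1 := hpol 1
      rw [map_one] at h1
      have h2 : (σ θ - θ) * f (pA (z c)) (pB (z c')) = 0 := by linear_combination hpol θ - θ * h1
      exact (mul_eq_zero.mp h2).resolve_left (sub_ne_zero.mpr hθ)
    obtain ⟨hx, hy⟩ := hne a₁ ha₁ ha₁0
    obtain ⟨a₂, ha₂, ha₂0, ha₂i⟩ : ∃ a₂ ∈ A, a₂ ≠ 0 ∧ a₂ ∉ Submodule.span F {a₁} := by
      obtain ⟨b, hb, hb0, hab⟩ := H.perpA a₁ ha₁
      obtain ⟨a, ha, had⟩ := H.exists_one hf hb hb0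
      refine ⟨a, ha, fun h0 => ?_, fun hm => ?_⟩
      · rw [h0, zero_left' hf] at had; exact zero_ne_one had
      · obtain ⟨j, hj⟩ := Submodule.mem_span_singleton.mp hm
        rw [← hj, hf.smul_left, hab, mul_zero] at had
        exact zero_ne_one had
    obtain ⟨hx₂, -⟩ := hne a₂ ha₂ ha₂0
    -- the two A-components agree up to a scalar
    obtain ⟨j, hj⟩ := Submodule.mem_span_singleton.mp (H.lineA _ (H.projB (z a₁)) hy _ (H.projA _) hx
      (hall a₁ ha₁ a₁ ha₁) _ (H.projA (z a₂)) (hall a₂ ha₂ a₁ ha₁))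
    have hd0 : a₂ - j • a₁ ≠ 0 := fun h0 => ha₂i (by
      rw [sub_eq_zero.mp h0]; exact Submodule.smul_mem _ _ (Submodule.mem_span_singleton_self a₁))
    refine (hne _ (A.sub_mem ha₂ (A.smul_mem j ha₁)) hd0).1 ?_
    rw [hz, mulVec_sub, mulVec_smul, ← hz, ← hz, map_sub, map_smul, hj, sub_self]
  obtain ⟨hx0, hy0⟩ := hne c hc hc0
  obtain ⟨x, hx⟩ : ∃ x, x = pA (z c) := ⟨_, rfl⟩
  obtain ⟨y, hy⟩ : ∃ y, y = pB (z c) := ⟨_, rfl⟩
  rw [← hx] at hx0 hinv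
  rw [← hy] at hy0 hinv
  have hskew := hzz c hc c hc
  rw [← hx, ← hy] at hskew
  have hxA : x ∈ A := hx ▸ H.projA _
  have hyB : y ∈ B := hy ▸ H.projB _
  have hzc : z c = x + y := by rw [hx, hy, H.split]
  have hyx : f y x = -f x y := by rw [hf.herm]; linear_combination hskew
  obtain ⟨g₀, hg₀, hg₀0, hxg⟩ := H.perpA x hxA
  obtain ⟨e₀, he₀, he₀0, hye⟩ := H.perpB y hyB
  have heg : f e₀ g₀ ≠ 0 := fun h0 => by
    obtain ⟨j, hj⟩ := Submodule.mem_span_singleton.mp (H.lineA g₀ hg₀ hg₀0 x hxA hx0 hxg e₀ he₀ h0)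
    rw [← hj, smul_right' hf, mul_eq_zero, hyx, neg_eq_zero, map_eq_zero_iff _ σ.injective] at hye
    exact he₀0 (by rw [← hj, hye.resolve_right hinv, zero_smul])
  obtain ⟨e, he⟩ : ∃ e, e = (f e₀ g₀)⁻¹ • e₀ := ⟨_, rfl⟩
  have heA : e ∈ A := he ▸ A.smul_mem _ he₀
  have heg1 : f e g₀ = 1 := by rw [he, hf.smul_left, inv_mul_cancel₀ heg]
  have hze : f (z c) e = 0 := by
    rw [hzc, hf.add_left, H.singA x hxA e heA, he, smul_right' hf, hye, mul_zero, add_zero]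
  have hzg : f (z c) g₀ = 0 := by rw [hzc, hf.add_left, hxg, H.singB y hyB g₀ hg₀, add_zero]
  obtain ⟨E, hE⟩ : ∃ E, E = (g : Matrix ι ι F) *ᵥ e := ⟨_, rfl⟩
  obtain ⟨G, hG⟩ : ∃ G, G = (g : Matrix ι ι F) *ᵥ g₀ := ⟨_, rfl⟩
  obtain ⟨d, hd, hd0, hcd⟩ := H.perpA c hc
  have hstep : ∀ r : F, r ≠ 0 → σ r = r → (∃ v, v ≠ 0 ∧ UFull σ f M v) ∨
      ((r - 1) * f d G) • E + ((r⁻¹ - 1) * f d E) • G ∈ B := by
    intro r hr hσr
    obtain ⟨h, hh, hi, hform⟩ := H.tor e heA g₀ hg₀ heg1 r hr hσr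
    have hk : ∀ v, ((g * h * g⁻¹ : GL ι F) : Matrix ι ι F) *ᵥ v =
        v + ((r - 1) * f v G) • E + ((r⁻¹ - 1) * f v E) • G := fun v => by
      rw [mul_mulVec, mul_mulVec, hform, mulVec_add, mulVec_add, mulVec_smul, mulVec_smul, mulVec_inv_cancel,
        ← hE, ← hG, ← hgi (((g⁻¹ : GL ι F) : Matrix ι ι F) *ᵥ v) g₀, ← hgi (((g⁻¹ : GL ι F) : Matrix ι ι F) *ᵥ v) e,
        mulVec_inv_cancel, ← hE, ← hG]
    by_cases hkd : ((g * h * g⁻¹ : GL ι F) : Matrix ι ι F) *ᵥ d ∈ B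
    · refine Or.inr ?_
      have := B.sub_mem hkd hd
      rw [hk] at this
      convert this using 1
      abel
    · refine Or.inl (H.key hf (M.mul_mem (M.mul_mem hg hh) (M.inv_mem hg)) ((hgi.mul hi).mul hgi.inv) hc hc0 hd hcd
        ?_ hkd)
      rw [hk, hG, hE, ← hgz c, hgi, hgi, hze, hzg, hgz]
      simpa using hc
  rcases hstep r₁ hr₁ hσ₁ with h | h₁
  · exact h
  rcases hstep r₂ hr₂ hσ₂ with h | h₂
  · exact h
  exfalso
  have h1' : r₁ - 1 ≠ 0 := sub_ne_zero.mpr h₁1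
  have h2' : r₂ - 1 ≠ 0 := sub_ne_zero.mpr h₂1
  have hmE : E ∉ B := by
    rw [hE]
    exact (hmix e (fun h0 => by rw [h0, zero_left' hf] at heg1; exact zero_ne_one heg1) (Or.inl heA)).2
  have hmG : G ∉ B := by rw [hG]; exact (hmix g₀ hg₀0 (Or.inr hg₀)).2
  have hdE : f d E = 0 := by
    by_contra h0
    refine hmG ?_
    have hr : r₁⁻¹ - r₂⁻¹ ≠ 0 := sub_ne_zero.mpr fun h => h12 (inv_injective h)
    have h3 := B.smul_mem ((r₁⁻¹ - r₂⁻¹) * f d E)⁻¹ (B.sub_mem (B.smul_mem (r₂ - 1)⁻¹ h₂) (B.smul_mem (r₁ - 1)⁻¹ h₁))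
    have e3 : (r₂ - 1)⁻¹ • (((r₂ - 1) * f d G) • E + ((r₂⁻¹ - 1) * f d E) • G) -
        (r₁ - 1)⁻¹ • (((r₁ - 1) * f d G) • E + ((r₁⁻¹ - 1) * f d E) • G) = ((r₁⁻¹ - r₂⁻¹) * f d E) • G := by
      match_scalars <;> field_simp <;> ring
    rwa [e3, inv_smul_smul₀ (mul_ne_zero hr h0)] at h3
  have hdG : f d G = 0 := by
    by_contra h0
    refine hmE ?_
    rw [hdE, mul_zero, zero_smul, add_zero] at h₁
    have h3 := B.smul_mem ((r₁ - 1) * f d G)⁻¹ h₁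
    rwa [inv_smul_smul₀ (mul_ne_zero h1' h0)] at h3
  obtain ⟨w, hw⟩ : ∃ w, w = z d := ⟨_, rfl⟩
  have hwe : f w e = 0 := by rw [← hgi, hw, hgz, ← hE, hdE]
  have hwg : f w g₀ = 0 := by rw [← hgi, hw, hgz, ← hG, hdG]
  have hzw : f (z c) w = 0 := by rw [← hgi, hgz, hw, hgz, hcd]
  rw [← H.split w] at hwe hwg hzw
  rw [hf.add_left, H.singA _ (H.projA w) e heA, zero_add] at hwe
  rw [hf.add_left, H.singB _ (H.projB w) g₀ hg₀, add_zero] at hwg
  obtain ⟨α, hα⟩ := Submodule.mem_span_singleton.mp (H.lineA g₀ hg₀ hg₀0 x hxA hx0 hxg _ (H.projA w) hwg)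
  obtain ⟨β, hβ⟩ := Submodule.mem_span_singleton.mp (H.lineB e heA
    (fun h0 => by rw [h0, zero_left' hf] at heg1; exact zero_ne_one heg1) y hyB hy0
    (by rw [he, smul_right' hf, hye, mul_zero]) _ (H.projB w) hwe)
  rw [← hα, ← hβ, hzc, hf.add_left, add_right' hf, add_right' hf, smul_right' hf, smul_right' hf, smul_right' hf,
    smul_right' hf, H.singA x hxA x hxA, H.singB y hyB y hyB, hyx] at hzw
  have hab : σ β = σ α := sub_eq_zero.mp
    ((mul_eq_zero.mp (show (σ β - σ α) * f x y = 0 by linear_combination hzw)).resolve_right hinv)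
  have hdc : d = α • c := by
    rw [← hgz d, ← hw, ← H.split w, ← hα, ← hβ, σ.injective hab, ← smul_add, ← hzc, mulVec_smul, hgz]
  exact hd0 (H.inter hf (hdc ▸ A.smul_mem α hc) hd)

/-- An element outside the stabiliser of the pair yields a group of transvections. -/
theorem exists_full (hf : Cfsg.Geo.IsUnitaryForm σ f) (H : Planes σ f M A B pA pB) {r₁ r₂ : F} (hr₁ : r₁ ≠ 0)
    (hr₂ : r₂ ≠ 0) (hσ₁ : σ r₁ = r₁) (hσ₂ : σ r₂ = r₂) (h₁1 : r₁ ≠ 1) (h₂1 : r₂ ≠ 1) (h12 : r₁ ≠ r₂)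
    {J : GL ι F} (hJ : J ∈ M) (hJi : Iso f J)
    (hJA : ∀ x ∈ A, (J : Matrix ι ι F) *ᵥ x ∈ B) (hJB : ∀ x ∈ B, (J : Matrix ι ι F) *ᵥ x ∈ A)
    {a₁ : ι → F} (ha₁ : a₁ ∈ A) (ha₁0 : a₁ ≠ 0) {g : GL ι F} (hg : g ∈ M) (hgi : Iso f g)
    (hns : ¬ ((∀ z ∈ A, (g : Matrix ι ι F) *ᵥ z ∈ A) ∧ ∀ z ∈ B, (g : Matrix ι ι F) *ᵥ z ∈ B))
    (hns' : ¬ ((∀ z ∈ A, (g : Matrix ι ι F) *ᵥ z ∈ B) ∧ ∀ z ∈ B, (g : Matrix ι ι F) *ᵥ z ∈ A)) :
    ∃ v, v ≠ 0 ∧ UFull σ f M v := by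
  have hJA' : ∀ v, (J : Matrix ι ι F) *ᵥ v ∈ A → v ∈ B := by
    intro v hv
    rw [← H.split v, mulVec_add] at hv
    have h := H.inter hf ((A.add_mem_iff_left (hJB _ (H.projB v))).mp hv) (hJA _ (H.projA v))
    have h' : pA v = 0 := by
      by_contra hne
      exact mulVec_ne_zero J hne h
    rw [← H.split v, h', zero_add]
    exact H.projB v
  have hJB' : ∀ v, (J : Matrix ι ι F) *ᵥ v ∈ B → v ∈ A := by
    intro v hv
    rw [← H.split v, mulVec_add] at hv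
    have h := H.inter hf (hJB _ (H.projB v)) ((B.add_mem_iff_right (hJA _ (H.projA v))).mp hv)
    have h' : pB v = 0 := by
      by_contra hne
      exact mulVec_ne_zero J hne h
    rw [← H.split v, h', add_zero]
    exact H.projA v
  by_cases hp : ∃ x, x ≠ 0 ∧ (x ∈ A ∨ x ∈ B) ∧ ((g : Matrix ι ι F) *ᵥ x ∈ A ∨ (g : Matrix ι ι F) *ᵥ x ∈ B)
  swap
  · simp only [not_exists, not_and, not_or] at hp
    exact H.of_mixed hf hr₁ hr₂ hσ₁ hσ₂ h₁1 h₂1 h12 ha₁ ha₁0 hg hgi hp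
  obtain ⟨x, hx0, hx, hgx⟩ := hp
  rcases hx with hx | hx <;> rcases hgx with hgx | hgx
  · exact H.of_pure hf hr₁ hr₂ hσ₁ hσ₂ h₁1 h₂1 h12 hg hgi hx hx0 hgx hns
  · refine H.of_pure hf hr₁ hr₂ hσ₁ hσ₂ h₁1 h₂1 h12 (M.mul_mem hJ hg) (hJi.mul hgi) hx hx0
      (by rw [mul_mulVec]; exact hJB _ hgx) fun h => hns' ⟨fun z hz => hJA' _ ?_, fun z hz => hJB' _ ?_⟩
    · rw [← mul_mulVec]; exact h.1 z hz
    · rw [← mul_mulVec]; exact h.2 z hz
  · refine (H.symm hf).of_pure hf hr₁ hr₂ hσ₁ hσ₂ h₁1 h₂1 h12 (M.mul_mem hJ hg) (hJi.mul hgi) hx hx0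
      (by rw [mul_mulVec]; exact hJA _ hgx) fun h => hns' ⟨fun z hz => hJA' _ ?_, fun z hz => hJB' _ ?_⟩
    · rw [← mul_mulVec]; exact h.2 z hz
    · rw [← mul_mulVec]; exact h.1 z hz
  · exact (H.symm hf).of_pure hf hr₁ hr₂ hσ₁ hσ₂ h₁1 h₂1 h12 hg hgi hx hx0 hgx fun h => hns ⟨h.2, h.1⟩

/-- From one vector of the first half to the whole half. -/
lemma full_half (hf : Cfsg.Geo.IsUnitaryForm σ f) (H : Planes σ f M A B pA pB) {a : ι → F} (ha : a ∈ A)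
    (ha0 : a ≠ 0) (hfull : UFull σ f M a) : ∀ x ∈ A, UFull σ f M x := by
  intro x hx
  by_cases hax : x ∈ Submodule.span F {a}
  · obtain ⟨j, rfl⟩ := Submodule.mem_span_singleton.mp hax
    exact ufull_smul hf hfull j
  obtain ⟨b, hb, hb0, hxb⟩ := H.perpA (x - a) (A.sub_mem hx ha)
  have hab : f a b ≠ 0 := fun h0 => hax (H.lineA b hb hb0 a ha ha0 h0 x hx (by
    rwa [sub_left' hf, h0, sub_zero] at hxb))
  have hxx := H.singA _ (A.sub_mem hx ha) _ (A.sub_mem hx ha)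
  have hbb := H.singB b hb b hb
  have h := ufull_conj hf (H.mem _ (A.sub_mem hx ha) b hb hxb (f a b)⁻¹) (iso_uX hf hxx hbb hxb _) hfull
  rw [uX_mulVec hf hbb hxb, H.singA a ha _ (A.sub_mem hx ha), mul_zero, zero_smul, sub_zero,
    inv_mul_cancel₀ hab, one_smul, add_sub_cancel] at h
  exact h

/-- A mixed vector with non-zero invariant gives a vector of the first half. -/
lemma full_pure (hf : Cfsg.Geo.IsUnitaryForm σ f) (H : Planes σ f M A B pA pB) {t : F} (ht : t ≠ 0)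
    (hσt : σ t = t) (ht1 : t * t ≠ 1) {a b : ι → F} (ha : a ∈ A) (hb : b ∈ B) (hab : f a b ≠ 0)
    (hfull : UFull σ f M (a + b)) : ∃ c, c ∈ A ∧ c ≠ 0 ∧ UFull σ f M c := by
  obtain ⟨s, hs⟩ : ∃ s, s = f a b := ⟨_, rfl⟩
  rw [← hs] at hab
  have hskew : s + σ s = 0 := by rw [hs, ← H.isotropic hf ha hb]; exact hfull.1
  have hσs : σ s = -s := by linear_combination hskew
  have hba : f b a = -s := by rw [hf.herm, ← hs, hσs]
  have haa := H.singA a ha a ha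
  have hbb := H.singB b hb b hb
  obtain ⟨h, hh, hi, hform⟩ := H.tor a ha ((σ s)⁻¹ • b) (B.smul_mem _ hb)
    (by rw [smul_right' hf, map_inv₀, hf.involutive, ← hs, inv_mul_cancel₀ hab]) t ht hσt
  have h1 := ufull_conj hf hh hi hfull
  have himg : (h : Matrix ι ι F) *ᵥ (a + b) = t • a + t⁻¹ • b := by
    rw [hform, smul_right' hf, map_inv₀, hf.involutive, hf.add_left, hf.add_left, hbb, haa, hba, hσs, ← hs]
    match_scalars <;> field_simp <;> ring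
  rw [himg] at h1
  have hN : 1 - t * t ≠ 0 := sub_ne_zero.mpr (Ne.symm ht1)
  obtain ⟨c, hc⟩ : ∃ c : F, c = -(t * t) / (1 - t * t) * s⁻¹ := ⟨_, rfl⟩
  have hcs : c + σ c = 0 := by
    rw [hc, map_mul, map_div₀, map_neg, map_sub, map_mul, map_one, hσt, map_inv₀, hσs, inv_neg]
    ring
  have h4 := uT_add_smul hf hfull h1.1 hcs (h1.2 c hcs)
  have hk : c * f (a + b) (t • a + t⁻¹ • b) = -t := by
    rw [hf.add_left, add_right' hf, add_right' hf, smul_right' hf, smul_right' hf, smul_right' hf, smul_right' hf,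
      haa, hbb, hba, ← hs, map_inv₀, hσt, hc]
    have hN' : 1 - t ^ 2 ≠ 0 := by rwa [pow_two]
    field_simp
    ring
  rw [hk, show a + b + (-t) • (t • a + t⁻¹ • b) = (1 - t * t) • a by match_scalars <;> field_simp <;> ring] at h4
  exact ⟨_, A.smul_mem _ ha, smul_ne_zero hN fun h0 => hab (by rw [hs, h0, zero_left' hf]), h4⟩

/-- Everything is full as soon as one non-zero vector is. -/
theorem spread (hf : Cfsg.Geo.IsUnitaryForm σ f) (H : Planes σ f M A B pA pB) {t : F} (ht : t ≠ 0)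
    (hσt : σ t = t) (ht1 : t * t ≠ 1) {J : GL ι F} (hJ : J ∈ M) (hJi : Iso f J)
    (hJA : ∀ x ∈ A, (J : Matrix ι ι F) *ᵥ x ∈ B) (hJB : ∀ x ∈ B, (J : Matrix ι ι F) *ᵥ x ∈ A)
    {u : ι → F} (hu0 : u ≠ 0) (hu : UFull σ f M u) : ∀ x, f x x = 0 → UFull σ f M x := by
  obtain ⟨p, hp, hp0, hpfull⟩ : ∃ p, p ∈ A ∧ p ≠ 0 ∧ UFull σ f M p := by
    obtain ⟨a, ha⟩ : ∃ a, a = pA u := ⟨_, rfl⟩
    obtain ⟨b, hb⟩ : ∃ b, b = pB u := ⟨_, rfl⟩
    have haA : a ∈ A := ha ▸ H.projA u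
    have hbB : b ∈ B := hb ▸ H.projB u
    have hab' : u = a + b := by rw [ha, hb, H.split]
    subst hab'
    by_cases hb0 : b = 0
    · rw [hb0, add_zero] at hu hu0
      exact ⟨a, haA, hu0, hu⟩
    by_cases ha0 : a = 0
    · rw [ha0, zero_add] at hu
      exact ⟨_, hJB b hbB, mulVec_ne_zero J hb0, ufull_conj hf hJ hJi hu⟩
    by_cases hab : f a b = 0
    swap
    · exact H.full_pure hf ht hσt ht1 haA hbB hab hu
    obtain ⟨e, he, heb⟩ := H.exists_one hf hbB hb0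
    obtain ⟨g₀, hg₀, hg₀0, heg⟩ := H.perpA e he
    have hag : f a g₀ ≠ 0 := fun h0 => by
      obtain ⟨j, hj⟩ := Submodule.mem_span_singleton.mp (H.lineA g₀ hg₀ hg₀0 e he
        (fun h1 => by rw [h1, zero_left' hf] at heb; exact zero_ne_one heb) heg a haA h0)
      rw [← hj, hf.smul_left, heb, mul_one] at hab
      exact ha0 (by rw [← hj, hab, zero_smul])
    obtain ⟨l, hl⟩ : ∃ l, l = (f a g₀)⁻¹ := ⟨_, rfl⟩
    have hee := H.singA e he e he
    have hgg := H.singB g₀ hg₀ g₀ hg₀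
    have h1 := ufull_conj hf (H.mem e he g₀ hg₀ heg l) (iso_uX hf hee hgg heg l) hu
    obtain ⟨h, hh, hi, hform⟩ := H.tor e he b hbB heb t ht hσt
    have hlg : l * f a g₀ = 1 := by rw [hl, inv_mul_cancel₀ hag]
    have hbe : f b e = 1 := by rw [hf.herm, heb, map_one]
    rw [uX_mulVec hf hgg heg, hf.add_left, hf.add_left, H.singA a haA e he, H.singB b hbB g₀ hg₀, hbe,
      zero_add, add_zero, hlg, one_smul, mul_one] at h1
    have h2 := ufull_conj hf hh hi h1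
    rw [hform] at h2
    simp only [hf.add_left, sub_left' hf, hf.smul_left, hee, H.singA a haA e he, H.singB g₀ hg₀ b hbB,
      H.singB b hbB b hbB, (eq_zero_comm hf).mp heg, hab, hbe, heb] at h2
    have himg : a + b + e - σ l • g₀ + ((t - 1) * (0 + 0 + 1 - σ l * 0)) • e +
        ((t⁻¹ - 1) * (0 + 1 + 0 - σ l * 0)) • b = (a + t • e) + (t⁻¹ • b + (-σ l) • g₀) := by module
    rw [himg] at h2
    obtain ⟨c, hc0, hc⟩ := exists_skew hf.ne_refl hf.involutive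
    obtain ⟨k, hk⟩ : ∃ k, k = c * (t - 1) := ⟨_, rfl⟩
    have hσk : σ k = -k := by rw [hk, map_mul, map_sub, map_one, hσt]; linear_combination (t - 1) * hc
    have htm : t - 1 ≠ 0 := fun h0 => ht1 (by linear_combination (t + 1) * h0)
    have hval : c * f (a + b) (a + t • e + (t⁻¹ • b + (-σ l) • g₀)) = k := by
      rw [hk]
      simp only [hf.add_left, add_right' hf, smul_right' hf, H.singA a haA e he, H.singA a haA a haA,
        H.singB b hbB g₀ hg₀, H.singB b hbB b hbB, hab, (eq_zero_comm hf).mp hab, hbe, map_neg, hf.involutive, hσt]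
      linear_combination (-c) * hlg
    have h4 := uT_add_smul hf hu h2.1 hc (h2.2 c hc)
    rw [hval, show a + b + k • (a + t • e + (t⁻¹ • b + (-σ l) • g₀)) =
      ((1 + k) • a + (k * t) • e) + ((1 + k * t⁻¹) • b + (-(k * σ l)) • g₀) by module] at h4
    refine H.full_pure hf ht hσt ht1 (A.add_mem (A.smul_mem _ haA) (A.smul_mem _ he))
      (B.add_mem (B.smul_mem _ hbB) (B.smul_mem _ hg₀)) ?_ h4
    simp only [hf.add_left, add_right' hf, hf.smul_left, smul_right' hf, hab, heb, heg, map_add, map_one,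
      map_mul, map_neg, map_inv₀, hf.involutive, hσk, hσt]
    intro h0
    have htp : t + 1 ≠ 0 := fun h => ht1 (by linear_combination (t - 1) * h)
    have : k * (t + 1) = 0 := by
      linear_combination h0 - (1 + k) * k * hlg + k * k * (mul_inv_cancel₀ ht)
    exact mul_ne_zero (hk ▸ mul_ne_zero hc0 htm) htp this
  have hallA := H.full_half hf hp hp0 hpfull
  have hallB := (H.symm hf).full_half hf (hJA p hp) (mulVec_ne_zero J hp0) (ufull_conj hf hJ hJi hpfull)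
  have sum : ∀ {u v : ι → F}, UFull σ f M u → UFull σ f M v → f u v ≠ 0 → f u v + σ (f u v) = 0 →
      UFull σ f M (u + v) := by
    intro u v hu hv hne hsk
    have hc : (f u v)⁻¹ + σ (f u v)⁻¹ = 0 := by
      rw [map_inv₀, show σ (f u v) = -(f u v) by linear_combination hsk, inv_neg, add_neg_cancel]
    have h := uT_add_smul hf hu hv.1 hc (hv.2 _ hc)
    rwa [inv_mul_cancel₀ hne, one_smul] at h
  intro x hx
  rw [← H.split x] at hx ⊢
  obtain ⟨a, ha⟩ : ∃ a, a = pA x := ⟨_, rfl⟩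
  obtain ⟨b, hb⟩ : ∃ b, b = pB x := ⟨_, rfl⟩
  have haA : a ∈ A := ha ▸ H.projA x
  have hbB : b ∈ B := hb ▸ H.projB x
  rw [← ha, ← hb] at hx ⊢
  have hskew : f a b + σ (f a b) = 0 := by rw [← H.isotropic hf haA hbB]; exact hx
  by_cases hb0 : b = 0
  · rw [hb0, add_zero]; exact hallA a haA
  by_cases hab : f a b = 0
  · obtain ⟨d, hd, hd1⟩ := H.exists_one hf hbB hb0
    obtain ⟨s, hs0, hs⟩ := exists_skew hf.ne_refl hf.involutive
    have hsd : f (s • d) b = s := by rw [hf.smul_left, hd1, mul_one]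
    have hdA := A.smul_mem s hd
    have h1 := sum (hallA _ hdA) (hallB b hbB) (by rw [hsd]; exact hs0) (by rw [hsd]; exact hs)
    have h3 : f (s • d + b) (a - s • d) = s := by
      rw [hf.add_left, H.singA _ hdA _ (A.sub_mem haA hdA), sub_right' hf, hf.herm b a, hab, map_zero,
        hf.herm b (s • d), hsd]
      linear_combination (-1 : F) * hs
    have h4 := sum h1 (hallA _ (A.sub_mem haA hdA)) (by rw [h3]; exact hs0) (by rw [h3]; exact hs)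
    rwa [show s • d + b + (a - s • d) = a + b by abel] at h4
  · exact sum (hallA a haA) (hallB b hbB) hab hskew

end Planes

end CfsgLib.SUFour
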