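/-
Stabilisers of two complementary totally isotropic planes are maximal in `SU_4(q)`, `q ≥ 4`.
-/
import Cfsg.Agent.Lib.SUFour.Levi
import Cfsg.Agent.Lib.SUFour.Basic
import Cfsg.Agent.S5657

set_option autoImplicit false
set_option linter.all false

namespace CfsgLib.SUFour

open Matrix Cfsg CfsgLib.Transvec CfsgLib.Transvec.Unitary
open scoped MatrixGroups

section

variable {F : Type*} [Field F] [Fintype F] {q : ℕ} {σ : F ≃+* F}

/-- The fixed field has two elements besides zero and one. -/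
lemma exists_two_fixed (hF : Fintype.card F = q ^ 2) (hq : 4 ≤ q) (hσ : ∀ x, σ x = x ^ q)
    (hinv : ∀ x, σ (σ x) = x) :
    ∃ r₁ r₂ : F, r₁ ≠ 0 ∧ r₂ ≠ 0 ∧ σ r₁ = r₁ ∧ σ r₂ = r₂ ∧ r₁ ≠ 1 ∧ r₂ ≠ 1 ∧ r₁ ≠ r₂ := by
  classical
  obtain ⟨N, hN⟩ : ∃ N : F → F, ∀ x, N x = x * σ x := ⟨_, fun _ => rfl⟩
  have hfix : ∀ x, σ (N x) = N x := fun x => by rw [hN, map_mul, hinv, mul_comm]
  have hne0 : ∀ x, x ≠ 0 → N x ≠ 0 := fun x hx => by
    rw [hN]; exact mul_ne_zero hx ((map_ne_zero_iff _ σ.injective).mpr hx)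
  have key : ∀ a : F, ∃ r, r ≠ 0 ∧ σ r = r ∧ r ≠ 1 ∧ r ≠ a := by
    intro a
    by_contra hcon
    push Not at hcon
    obtain ⟨P, hP⟩ : ∃ P : Polynomial F,
        P = (Polynomial.X ^ (q + 1) - Polynomial.C 1) * (Polynomial.X ^ (q + 1) - Polynomial.C a) := ⟨_, rfl⟩
    have hP0 : P ≠ 0 := hP ▸ mul_ne_zero (Polynomial.X_pow_sub_C_ne_zero (by omega) _)
      (Polynomial.X_pow_sub_C_ne_zero (by omega) _)
    have hsub : (Finset.univ.erase (0 : F)) ⊆ P.roots.toFinset := by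
      intro x hx
      rw [Multiset.mem_toFinset, Polynomial.mem_roots hP0, hP]
      have h := hcon (N x) (hne0 x (Finset.ne_of_mem_erase hx)) (hfix x)
      have hpow : x ^ (q + 1) = N x := by rw [hN, hσ, pow_succ, mul_comm]
      by_cases h1 : N x = 1
      · simp [Polynomial.IsRoot, hpow, h1]
      · simp [Polynomial.IsRoot, hpow, h h1]
    have h1 := (Finset.card_le_card hsub).trans ((Multiset.toFinset_card_le _).trans (Polynomial.card_roots' _))
    rw [Finset.card_erase_of_mem (Finset.mem_univ _), Finset.card_univ, hF, hP,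
      Polynomial.natDegree_mul (Polynomial.X_pow_sub_C_ne_zero (by omega) _)
        (Polynomial.X_pow_sub_C_ne_zero (by omega) _), Polynomial.natDegree_X_pow_sub_C,
      Polynomial.natDegree_X_pow_sub_C] at h1
    have : q * 4 ≤ q ^ 2 := by rw [sq]; exact Nat.mul_le_mul_left q hq
    omega
  obtain ⟨r₁, h1, h2, h3, -⟩ := key 0
  obtain ⟨r₂, k1, k2, k3, k4⟩ := key r₁
  exact ⟨r₁, r₂, h1, k1, h2, k2, h3, k3, Ne.symm k4⟩

variable {ι : Type} [Fintype ι] [DecidableEq ι] {f : (ι → F) → (ι → F) → F}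

/-- The data of two totally isotropic planes from the dimensions. -/
lemma planes_of_dim (hf : Cfsg.Geo.IsUnitaryForm σ f) {M : Subgroup (GL ι F)} {A B : Submodule F (ι → F)}
    {pA pB : (ι → F) →ₗ[F] (ι → F)} (projA : ∀ x, pA x ∈ A) (projB : ∀ x, pB x ∈ B) (split : ∀ x, pA x + pB x = x)
    (singA : ∀ x ∈ A, ∀ y ∈ A, f x y = 0) (singB : ∀ x ∈ B, ∀ y ∈ B, f x y = 0)
    (hdA : Module.finrank F A = 2) (hdB : Module.finrank F B = 2)
    (hmem : ∀ c ∈ A, ∀ d ∈ B, f c d = 0 → ∀ μ, uX σ f c d μ ∈ M)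
    (hstab : ∀ h : GL ι F, Iso f h → (h : Matrix ι ι F).det = 1 → (∀ x ∈ A, (h : Matrix ι ι F) *ᵥ x ∈ A) →
      (∀ x ∈ B, (h : Matrix ι ι F) *ᵥ x ∈ B) → h ∈ M) :
    Planes σ f M A B pA pB := by
  have pair : ∀ (A B : Submodule F (ι → F)) (pA : (ι → F) →ₗ[F] (ι → F)) (pB : (ι → F) →ₗ[F] (ι → F)),
      (∀ x, pA x ∈ A) → (∀ x, pB x ∈ B) → (∀ x, pA x + pB x = x) →
      (∀ x ∈ B, ∀ y ∈ B, f x y = 0) → Module.finrank F A = 2 →
      (∀ d ∈ B, ∃ c ∈ A, c ≠ 0 ∧ f d c = 0) ∧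
      ∀ d ∈ B, d ≠ 0 → ∀ c ∈ A, c ≠ 0 → f c d = 0 → ∀ x ∈ A, f x d = 0 → x ∈ Submodule.span F {c} := by
    intro A B pA pB projA projB split singB hdA
    obtain ⟨K, hK⟩ : ∃ K : (ι → F) → Submodule F (ι → F),
        ∀ d, K d = A ⊓ LinearMap.ker (linL hf d) := ⟨_, fun _ => rfl⟩
    have hKmem : ∀ d x, x ∈ K d ↔ x ∈ A ∧ f x d = 0 := fun d x => by rw [hK]; rfl
    refine ⟨fun d hd => ?_, fun d hd hd0 c hc hc0 hcd x hx hxd => ?_⟩
    · let T : A →ₗ[F] F := (linL hf d).domRestrict A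
      have h1 := LinearMap.finrank_range_add_finrank_ker T
      have h2 := Submodule.finrank_le (LinearMap.range T)
      rw [Module.finrank_self] at h2
      obtain ⟨y, hy, hy0⟩ := Submodule.exists_mem_ne_zero_of_ne_bot (p := LinearMap.ker T) fun h => by
        rw [h, finrank_bot] at h1; omega
      exact ⟨y, y.2, fun h => hy0 (Subtype.ext h), (eq_zero_comm hf).mp hy⟩
    have hlt : K d < A := lt_of_le_of_ne (fun y hy => ((hKmem d y).mp hy).1) fun he => by
      obtain ⟨z, hz⟩ := (hf.nondegenerate d hd0).1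
      refine hz ?_
      have hzA : pA z ∈ K d := he.symm ▸ projA z
      rw [← split z, hf.add_left, ((hKmem d _).mp hzA).2, singB _ (projB z) d hd, add_zero]
    have hK1 := Submodule.finrank_lt_finrank_of_lt hlt
    have hle : Submodule.span F {c} ≤ K d :=
      (Submodule.span_singleton_le_iff_mem _ _).mpr ((hKmem d c).mpr ⟨hc, hcd⟩)
    rw [Submodule.eq_of_le_of_finrank_le hle (by rw [finrank_span_singleton hc0]; omega)]
    exact (hKmem d x).mpr ⟨hx, hxd⟩
  obtain ⟨p1, l1⟩ := pair A B pA pB projA projB split singB hdA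
  obtain ⟨p2, l2⟩ := pair B A pB pA projB projA (fun x => by rw [add_comm]; exact split x) singA hdB
  refine ⟨projA, projB, split, singA, singB, p2, p1, l1, l2, hmem, fun e he g hg heg r hr hσr => ?_⟩
  have hge : f g e = 1 := by rw [hf.herm, heg, map_one]
  have hu1 : uvec f g ⬝ᵥ e = 1 := by rw [uvec_dot hf, heg]
  have hu2 : uvec f e ⬝ᵥ g = 1 := by rw [uvec_dot hf, hge]
  obtain ⟨h, hh⟩ : ∃ h, h = CfsgLib.Classical22.Monomial.refl e (uvec f g) r *
      CfsgLib.Classical22.Monomial.refl g (uvec f e) r⁻¹ := ⟨_, rfl⟩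
  have hz : ∀ z, (h : Matrix ι ι F) *ᵥ z = z + ((r - 1) * f z g) • e + ((r⁻¹ - 1) * f z e) • g := fun z => by
    rw [hh, mul_mulVec, CfsgLib.Classical22.Monomial.refl_mulVec hu2 (inv_ne_zero hr),
      CfsgLib.Classical22.Monomial.refl_mulVec hu1 hr, uvec_dot hf, uvec_dot hf, hf.add_left, hf.smul_left,
      singB g hg g hg]
    simp [add_right_comm]
  have hi : Iso f h := fun x y => by
    rw [hz, hz]
    simp only [hf.add_left, add_right' hf, hf.smul_left, smul_right' hf, singA e he e he, singB g hg g hg, heg, hge,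
      map_mul, map_sub, map_one, map_inv₀, hσr, mul_zero, mul_one, add_zero, zero_add]
    rw [← hf.herm g y, ← hf.herm e y]
    field_simp
    ring
  refine ⟨h, hstab h hi ?_ (fun x hx => ?_) (fun x hx => ?_), hi, hz⟩
  · rw [hh, Units.val_mul, det_mul, CfsgLib.Classical22.Monomial.det_refl hu1 hr,
      CfsgLib.Classical22.Monomial.det_refl hu2 (inv_ne_zero hr), mul_inv_cancel₀ hr]
  · rw [hz, singA x hx e he, mul_zero, zero_smul, add_zero]
    exact A.add_mem hx (A.smul_mem _ he)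
  · rw [hz, singB x hx g hg, mul_zero, zero_smul, add_zero]
    exact B.add_mem hx (B.smul_mem _ hg)

end

/-- The general form of the statement. -/
theorem isMaximalIn_levi {F : Type*} [Field F] [Fintype F] (n k q : ℕ) (hF : Fintype.card F = q ^ 2) (hq : 4 ≤ q)
    (hn : n = 4) (hk2 : k = 2) (D : Fin 2 → Submodule F (Fin n → F)) (hD : Cfsg.Geo.IsMDecomposition k D)
    (hts : ∀ i, Cfsg.Geo.IsTotallySingularFor (Cfsg.hermForm n F q) (D i)) :
    Cfsg.Geo.IsMaximalIn (Cfsg.GU n F q ⊓ Cfsg.Geo.specialLinear (Fin n) F)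
      (Cfsg.Geo.decompositionStabilizer D ⊓ (Cfsg.GU n F q ⊓ Cfsg.Geo.specialLinear (Fin n) F)) := by
  classical
  obtain ⟨σ, hσ, hinv, hne⟩ := exists_frob hF
  have hf := isUnitaryForm_hermForm (n := n) hσ hinv hne
  have hk : 2 * k = n := by omega
  have hint : DirectSum.IsInternal D :=
    DirectSum.isInternal_submodule_of_iSupIndep_of_iSup_eq_top hD.indep hD.iSup_eq_top
  have hsplit : ∀ x, dcomp hint 0 x + dcomp hint 1 x = x := fun x => by
    conv_rhs => rw [← sum_dcomp hint x, Fin.sum_univ_two]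
  have hmaps : ∀ (g : GL (Fin n) F) (τ : Equiv.Perm (Fin 2)),
      (∀ i, ∀ x ∈ D i, (g : Matrix _ _ F) *ᵥ x ∈ D (τ i)) → g ∈ Cfsg.Geo.decompositionStabilizer D :=
    fun g τ h => ⟨τ, fun i => map_gl_eq_of_le g (by rw [hD.finrank_eq, hD.finrank_eq]) (h i)⟩
  have hX : ∀ c ∈ D 0, ∀ d ∈ D 1, Cfsg.hermForm n F q c d = 0 → ∀ μ, uX σ (Cfsg.hermForm n F q) c d μ ∈
      Cfsg.Geo.decompositionStabilizer D ⊓ (Cfsg.GU n F q ⊓ Cfsg.Geo.specialLinear (Fin n) F) := by
    intro c hc d hd hcd μ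
    refine ⟨hmaps _ 1 fun i x hx => ?_, iso_uX hf (hts 0 c hc c hc) (hts 1 d hd d hd) hcd μ, ?_⟩
    · rw [uX_mulVec hf (hts 1 d hd d hd) hcd, Equiv.Perm.one_apply]
      fin_cases i
      · simp only [Fin.zero_eta] at hx ⊢
        rw [hts 0 x hx c hc, mul_zero, zero_smul, sub_zero]
        exact (D 0).add_mem hx ((D 0).smul_mem _ hc)
      · simp only [Fin.mk_one] at hx ⊢
        rw [hts 1 x hx d hd, mul_zero, zero_smul, add_zero]
        exact (D 1).sub_mem hx ((D 1).smul_mem _ hd)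
    · exact (Cfsg.Geo.specialLinear (Fin n) F).mul_mem (transv_mem_specialLinear _ _) (transv_mem_specialLinear _ _)
  -- an element of the stabiliser interchanging the two halves
  obtain ⟨J, hJi, hJd, hJ0, hJ1⟩ : ∃ J, Iso (Cfsg.hermForm n F q) J ∧ (J : Matrix (Fin n) (Fin n) F).det = 1 ∧
      (∀ x ∈ D 0, (J : Matrix _ _ F) *ᵥ x ∈ D 1) ∧ ∀ x ∈ D 1, (J : Matrix _ _ F) *ᵥ x ∈ D 0 := by
    let b := Module.finBasisOfFinrankEq F (D 0) (hD.finrank_eq 0)
    let T : D 1 →ₗ[F] (Fin k → F) := LinearMap.pi fun i => (linL hf (b i : Fin n → F)).domRestrict (D 1)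
    have hD0 : ∀ (z : Fin n → F), (∀ i, Cfsg.hermForm n F q (b i : Fin n → F) z = 0) →
        ∀ w ∈ D 0, Cfsg.hermForm n F q w z = 0 := by
      intro z hz w hw
      have hspan : (⟨w, hw⟩ : D 0) ∈ Submodule.span F (Set.range b) := by rw [b.span_eq]; trivial
      refine Submodule.span_induction (p := fun (v : D 0) _ => Cfsg.hermForm n F q (v : Fin n → F) z = 0)
        ?_ (zero_left' hf _) ?_ ?_ hspan
      · rintro _ ⟨i, rfl⟩; exact hz i
      · intro u v _ _ hu hv; rw [Submodule.coe_add, hf.add_left, hu, hv, add_zero]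
      · intro a u _ hu; rw [Submodule.coe_smul, hf.smul_left, hu, mul_zero]
    have hTi : Function.Injective T := by
      rw [injective_iff_map_eq_zero]
      intro y hy
      by_contra hy0
      have hy' : (y : Fin n → F) ≠ 0 := fun h => hy0 (Subtype.ext h)
      obtain ⟨z, hz⟩ := (hf.nondegenerate _ hy').1
      refine hz ?_
      rw [← hsplit z, hf.add_left, hts 1 _ (dcomp_mem hint 1 z) _ y.2, add_zero]
      exact hD0 y (fun i => (eq_zero_comm hf).mp (congrFun hy i)) _ (dcomp_mem hint 0 z)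
    have hTs : Function.Surjective T :=
      (LinearMap.injective_iff_surjective_of_finrank_eq_finrank (by rw [hD.finrank_eq, Module.finrank_fin_fun])).mp hTi
    choose g hg using fun i => hTs (Pi.single i 1)
    obtain ⟨e, he⟩ : ∃ e : Fin k → (Fin n → F), ∀ i, e i = (b i : Fin n → F) := ⟨_, fun _ => rfl⟩
    obtain ⟨g', hg'⟩ : ∃ g' : Fin k → (Fin n → F), ∀ i, g' i = (g i : Fin n → F) := ⟨_, fun _ => rfl⟩
    have heD : ∀ i, e i ∈ D 0 := fun i => he i ▸ (b i).2
    have hgD : ∀ i, g' i ∈ D 1 := fun i => hg' i ▸ (g i).2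
    have hge : ∀ i j, Cfsg.hermForm n F q (g' i) (e j) = if i = j then 1 else 0 := fun i j => by
      rw [hg', he]
      refine (congrFun (hg i) j).trans ?_
      simp [Pi.single_apply, eq_comm]
    have heg : ∀ i j, Cfsg.hermForm n F q (e i) (g' j) = if i = j then 1 else 0 := fun i j => by
      rw [hf.herm, hge, apply_ite σ, map_one, map_zero]
      simp [eq_comm]
    have hee : ∀ i j, Cfsg.hermForm n F q (e i) (e j) = 0 := fun i j => hts 0 _ (heD i) _ (heD j)
    have hgg : ∀ i j, Cfsg.hermForm n F q (g' i) (g' j) = 0 := fun i j => hts 1 _ (hgD i) _ (hgD j)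
    obtain ⟨E, hE⟩ : ∃ E : Fin k ⊕ Fin k → (Fin n → F), E = Sum.elim e g' := ⟨_, rfl⟩
    obtain ⟨E', hE'⟩ : ∃ E' : Fin k ⊕ Fin k → (Fin n → F), E' = Sum.elim g' e := ⟨_, rfl⟩
    have hEE : ∀ a c, Cfsg.hermForm n F q (E a) (E' c) = if a = c then 1 else 0 := by
      rintro (a | a) (c | c) <;> simp [hE, hE', heg, hge, hee, hgg]
    have hEE' : ∀ a c, Cfsg.hermForm n F q (E a) (E c) = Cfsg.hermForm n F q (E' a) (E' c) := by
      rintro (a | a) (c | c) <;> simp [hE, hE', heg, hge, hee, hgg]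
    have hind : LinearIndependent F E := by
      rw [Fintype.linearIndependent_iff]
      intro c hc a
      have h1 := congrArg (linL hf (E' a)) hc
      rw [map_sum, map_zero] at h1
      rw [← h1, Finset.sum_eq_single a]
      · rw [map_smul, smul_eq_mul]
        show c a = c a * Cfsg.hermForm n F q (E a) (E' a)
        rw [hEE, if_pos rfl, mul_one]
      · intro l _ hl
        rw [map_smul, smul_eq_mul]
        show c l * Cfsg.hermForm n F q (E l) (E' a) = 0
        rw [hEE, if_neg hl, mul_zero]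
      · simp
    haveI : Nonempty (Fin k ⊕ Fin k) := ⟨Sum.inl ⟨0, by omega⟩⟩
    let B := basisOfLinearIndependentOfCardEqFinrank hind (by simp; omega)
    have hB : ∀ a, B a = E a := fun a => congrFun (coe_basisOfLinearIndependentOfCardEqFinrank hind _) a
    let τ : (Fin n → F) →ₗ[F] (Fin n → F) := B.constr F E'
    have hτE : ∀ a, τ (E a) = E' a := fun a => by rw [← hB]; exact B.constr_basis F E' a
    have hτi : ∀ x y, Cfsg.hermForm n F q (τ x) (τ y) = Cfsg.hermForm n F q x y := by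
      intro x y
      have hsum : ∀ (G : Fin k ⊕ Fin k → (Fin n → F)) (c d : Fin k ⊕ Fin k → F),
          Cfsg.hermForm n F q (∑ a, c a • G a) (∑ l, d l • G l) =
            ∑ a, ∑ l, c a * (σ (d l) * Cfsg.hermForm n F q (G a) (G l)) := by
        intro G c d
        rw [show Cfsg.hermForm n F q (∑ a, c a • G a) (∑ l, d l • G l) =
          linL hf (∑ l, d l • G l) (∑ a, c a • G a) from rfl, map_sum]
        refine Finset.sum_congr rfl fun a _ => ?_
        rw [map_smul, smul_eq_mul]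
        show c a * Cfsg.hermForm n F q (G a) (∑ l, d l • G l) = _
        rw [← Finset.mul_sum]
        congr 1
        rw [hf.herm, show Cfsg.hermForm n F q (∑ l, d l • G l) (G a) = linL hf (G a) (∑ l, d l • G l) from rfl,
          map_sum, map_sum]
        refine Finset.sum_congr rfl fun l _ => ?_
        rw [map_smul, smul_eq_mul, map_mul]
        show σ (d l) * σ (Cfsg.hermForm n F q (G l) (G a)) = _
        rw [← hf.herm]
      have hcoord : ∀ z, ∃ c : Fin k ⊕ Fin k → F, z = ∑ a, c a • E a := fun z =>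
        ⟨fun a => B.repr z a, by
          conv_lhs => rw [← B.sum_repr z]
          simp only [hB]⟩
      obtain ⟨c, rfl⟩ := hcoord x
      obtain ⟨d, rfl⟩ := hcoord y
      rw [map_sum, map_sum]
      simp only [map_smul, hτE, hsum, hEE']
    obtain ⟨J0, hJ0v⟩ : ∃ J0 : GL (Fin n) F, ∀ x, (J0 : Matrix _ _ F) *ᵥ x = τ x := by
      refine ⟨glOfInjective τ ?_, fun x => glOfInjective_mulVec _ _ x⟩
      rw [injective_iff_map_eq_zero]
      intro x hx
      by_contra h0
      obtain ⟨z, hz⟩ := (hf.nondegenerate x h0).1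
      exact hz (by rw [← hτi, hx, zero_right' hf])
    have hJ0i : Iso (Cfsg.hermForm n F q) J0 := fun x y => by rw [hJ0v, hJ0v, hτi]
    have hJ0D : ∀ (i j : Fin 2) (G G' : Fin k → (Fin n → F)), (∀ l, G l ∈ D i) → (∀ l, G' l ∈ D j) →
        (∀ l, τ (G l) = G' l) → LinearIndependent F G → ∀ x ∈ D i, τ x ∈ D j := by
      intro i j G G' hG hG' hτG hGind x hx
      have hle : D i ≤ Submodule.span F (Set.range G) := by
        refine (Submodule.eq_of_le_of_finrank_eq (Submodule.span_le.mpr (by rintro _ ⟨l, rfl⟩; exact hG l)) ?_).ge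
        rw [finrank_span_eq_card hGind, Fintype.card_fin, hD.finrank_eq]
      have h1 : τ x ∈ (Submodule.span F (Set.range G)).map τ := ⟨x, hle hx, rfl⟩
      rw [Submodule.map_span] at h1
      refine Submodule.span_le.mpr ?_ h1
      rintro _ ⟨_, ⟨l, rfl⟩, rfl⟩
      rw [hτG]; exact hG' l
    have hτ01 : ∀ x ∈ D 0, τ x ∈ D 1 := hJ0D 0 1 e g' heD hgD (fun l => by
      have := hτE (Sum.inl l); simpa [hE, hE'] using this) (by
      have := hind.comp Sum.inl Sum.inl_injective; simpa [hE, Function.comp_def] using this)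
    have hτ10 : ∀ x ∈ D 1, τ x ∈ D 0 := hJ0D 1 0 g' e hgD heD (fun l => by
      have := hτE (Sum.inr l); simpa [hE, hE'] using this) (by
      have := hind.comp Sum.inr Sum.inr_injective; simpa [hE, Function.comp_def] using this)
    obtain ⟨δ, hδ⟩ : ∃ δ, δ = (J0 : Matrix (Fin n) (Fin n) F).det := ⟨_, rfl⟩
    have hδn : δ * σ δ = 1 := hδ ▸ Cfsg.Agent.S5657.det_norm hσ hJ0i
    obtain ⟨μ, hμ0, hμ⟩ : ∃ μ : F, μ ≠ 0 ∧ σ μ = δ * μ := by
      have key : ∀ y, σ (y + σ δ * σ y) = δ * (y + σ δ * σ y) := fun y => by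
        rw [map_add, map_mul, hinv, hinv]; linear_combination (-σ y) * hδn
      by_contra h
      simp only [not_exists, not_and] at h
      have hz : ∀ y, y + σ δ * σ y = 0 := fun y => by_contra fun h0 => h _ h0 (key y)
      have h1 := hz 1
      rw [map_one, mul_one] at h1
      refine hne (RingEquiv.ext fun y => ?_)
      rw [RingEquiv.refl_apply]
      linear_combination (-1 : F) * hz y + σ y * h1
    have hσμ0 : σ μ ≠ 0 := (map_ne_zero_iff _ σ.injective).mpr hμ0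
    let i0 : Fin k := ⟨0, by omega⟩
    have hu1 : uvec (Cfsg.hermForm n F q) (g' i0) ⬝ᵥ e i0 = 1 := by rw [uvec_dot hf, heg, if_pos rfl]
    have hu2 : uvec (Cfsg.hermForm n F q) (e i0) ⬝ᵥ g' i0 = 1 := by rw [uvec_dot hf, hge, if_pos rfl]
    obtain ⟨K, hK⟩ : ∃ K, K = CfsgLib.Classical22.Monomial.refl (e i0) (uvec (Cfsg.hermForm n F q) (g' i0)) μ *
        CfsgLib.Classical22.Monomial.refl (g' i0) (uvec (Cfsg.hermForm n F q) (e i0)) (σ μ)⁻¹ := ⟨_, rfl⟩
    have hKv : ∀ x, (K : Matrix _ _ F) *ᵥ x = x + ((μ - 1) * Cfsg.hermForm n F q x (g' i0)) • e i0 +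
        (((σ μ)⁻¹ - 1) * Cfsg.hermForm n F q x (e i0)) • g' i0 := by
      intro x
      rw [hK, mul_mulVec, CfsgLib.Classical22.Monomial.refl_mulVec hu2 (inv_ne_zero hσμ0),
        CfsgLib.Classical22.Monomial.refl_mulVec hu1 hμ0, uvec_dot hf, uvec_dot hf, hf.add_left, hf.smul_left, hgg]
      simp [add_right_comm]
    refine ⟨K * J0, Iso.mul (fun x y => ?_) hJ0i, ?_, fun x hx => ?_, fun x hx => ?_⟩
    · rw [hKv, hKv]
      simp only [hf.add_left, add_right' hf, hf.smul_left, smul_right' hf, hee, hgg, heg, hge, if_true, map_mul,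
        map_sub, map_one, map_inv₀, hinv, mul_zero, mul_one, add_zero, zero_add]
      rw [← hf.herm (g' i0) y, ← hf.herm (e i0) y]
      field_simp
      ring
    · rw [hK, Units.val_mul, Units.val_mul, det_mul, det_mul,
        CfsgLib.Classical22.Monomial.det_refl hu1 hμ0, CfsgLib.Classical22.Monomial.det_refl hu2 (inv_ne_zero hσμ0),
        ← hδ]
      field_simp
      linear_combination (-1 : F) * hμ
    · rw [mul_mulVec, hJ0v, hKv, hts 1 _ (hτ01 x hx) _ (hgD i0), mul_zero, zero_smul, add_zero]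
      exact (D 1).add_mem (hτ01 x hx) ((D 1).smul_mem _ (hgD i0))
    · rw [mul_mulVec, hJ0v, hKv, hts 0 _ (hτ10 x hx) _ (heD i0), mul_zero, zero_smul, add_zero]
      exact (D 0).add_mem (hτ10 x hx) ((D 0).smul_mem _ (heD i0))
  refine ⟨lt_of_le_not_ge inf_le_right fun hle => ?_, fun M hHM hMK => ?_⟩
  · obtain ⟨a, ha, ha0⟩ := Submodule.exists_mem_ne_zero_of_ne_bot (p := D 0) fun h => by
      have := hD.finrank_eq 0; rw [h, finrank_bot] at this; omega
    obtain ⟨z, hz⟩ := (hf.nondegenerate a ha0).2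
    obtain ⟨b, hb⟩ : ∃ b, b = dcomp hint 1 z := ⟨_, rfl⟩
    have hab : Cfsg.hermForm n F q a b ≠ 0 := by
      rw [← hsplit z, add_right' hf, hts 0 a ha _ (dcomp_mem hint 0 z), zero_add, ← hb] at hz
      exact hz
    have hbD : b ∈ D 1 := hb ▸ dcomp_mem hint 1 z
    obtain ⟨c, hc0, hc⟩ := exists_skew hne hinv
    obtain ⟨τ, hτ⟩ := (hle (uT_mem_SU hσ hinv hne (hts 1 b hbD b hbD) hc)).1
    have h : (uT (Cfsg.hermForm n F q) b c : Matrix _ _ F) *ᵥ a ∈ D (τ 0) := by
      rw [← hτ 0]; exact Submodule.mem_map.mpr ⟨a, ha, by rw [Matrix.toLin'_apply]⟩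
    rw [uT_mulVec hf (hts 1 b hbD b hbD)] at h
    have h0 := dcomp_of_mem hint h 0
    have h1 := dcomp_of_mem hint h 1
    rw [map_add, map_smul, dcomp_of_mem hint ha, dcomp_of_mem hint hbD] at h0 h1
    by_cases hs : τ 0 = 0
    · rw [hs] at h1
      simp [hc0] at h1
      rcases h1 with h1 | h1
      · exact hab h1
      · exact hab (by rw [h1, zero_right' hf])
    · rw [if_neg (Ne.symm hs)] at h0
      simp at h0
      exact ha0 h0
  by_cases hM : M ≤ Cfsg.Geo.decompositionStabilizer D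
  · exact Or.inl (le_antisymm (le_inf hM hMK) hHM)
  right
  obtain ⟨g, hgM, hgD⟩ := SetLike.not_le_iff_exists.mp hM
  have hgi : Iso (Cfsg.hermForm n F q) g := (hMK hgM).1
  obtain ⟨A, hA⟩ : ∃ A, A = D 0 := ⟨_, rfl⟩
  obtain ⟨B, hB⟩ : ∃ B, B = D 1 := ⟨_, rfl⟩
  have H : Planes σ (Cfsg.hermForm n F q) M A B (dcomp hint 0) (dcomp hint 1) := by
    subst hA hB
    refine planes_of_dim hf (fun x => dcomp_mem hint 0 x) (fun x => dcomp_mem hint 1 x) hsplit (hts 0) (hts 1)
      (by rw [hD.finrank_eq, hk2]) (by rw [hD.finrank_eq, hk2]) (fun c hc d hd h l => hHM (hX c hc d hd h l))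
      fun h hi hdet h0 h1 => hHM ⟨hmaps h 1 fun i x hx => ?_, hi, (mem_specialLinear_iff _).mpr hdet⟩
    rw [Equiv.Perm.one_apply]
    fin_cases i
    · exact h0 x hx
    · exact h1 x hx
  have hJM : J ∈ M := hHM ⟨hmaps J (Equiv.swap 0 1) (fun i x hx => by
    fin_cases i
    · simpa using hJ0 x hx
    · simpa using hJ1 x hx), hJi, (mem_specialLinear_iff _).mpr hJd⟩
  obtain ⟨r₁, r₂, hr₁, hr₂, hσ₁, hσ₂, h₁1, h₂1, h12⟩ := exists_two_fixed hF hq hσ hinv
  obtain ⟨t, ht, hσt, ht1⟩ : ∃ t : F, t ≠ 0 ∧ σ t = t ∧ t * t ≠ 1 := by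
    by_cases h : r₁ * r₁ = 1
    · exact ⟨r₂, hr₂, hσ₂, fun h' => h12 (((mul_self_eq_one_iff.mp h).resolve_left h₁1).trans
        ((mul_self_eq_one_iff.mp h').resolve_left h₂1).symm)⟩
    · exact ⟨r₁, hr₁, hσ₁, h⟩
  rw [← hA] at hJ0 hJ1
  rw [← hB] at hJ0 hJ1
  obtain ⟨a₁, ha₁, ha₁0⟩ := Submodule.exists_mem_ne_zero_of_ne_bot (p := A) fun h => by
    have := hD.finrank_eq 0; rw [← hA, h, finrank_bot] at this; omega
  obtain ⟨u, hu0, hu⟩ := H.exists_full hf hr₁ hr₂ hσ₁ hσ₂ h₁1 h₂1 h12 hJM hJi hJ0 hJ1 ha₁ ha₁0 hgM hgi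
    (fun h => hgD (hmaps g 1 fun i x hx => by
      rw [Equiv.Perm.one_apply]
      fin_cases i
      · exact hA ▸ h.1 x (hA.symm ▸ hx)
      · exact hB ▸ h.2 x (hB.symm ▸ hx)))
    fun h => hgD (hmaps g (Equiv.swap 0 1) fun i x hx => by
      fin_cases i
      · simpa [hB] using h.1 x (hA.symm ▸ hx)
      · simpa [hA] using h.2 x (hB.symm ▸ hx))
  exact le_antisymm hMK (su_le_of_transv hF hσ hinv hne (by omega) fun v hv c hc =>
    (H.spread hf ht hσt ht1 hJM hJi hJ0 hJ1 hu0 hu v hv).2 c hc)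

end CfsgLib.SUFour
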