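/-
Monomial overgroups in characteristic two, from dimension four on.
-/
import Cfsg.Agent.Lib.Classical22.UDecomp.OneEven

set_option autoImplicit false

namespace CfsgLib.SUFour

open Matrix CfsgLib.Transvec CfsgLib.Transvec.Unitary CfsgLib.Classical22.Monomial CfsgLib.Classical22.UDecomp
open scoped MatrixGroups

variable {F : Type*} [Field F] [Fintype F] {σ : F ≃+* F} {q n : ℕ} {M : Subgroup (GL (Fin n) F)}

local notation "𝕗" => Cfsg.hermForm n F q
local notation:max "𝕖" i:max => (Pi.single i 1 : Fin n → F)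

/-- Commutators of root pairs in a totally singular plane fill a long root group. -/
lemma full_of_root_pair (h : QField σ q) (h2 : (2 : F) = 0) (hq : 4 ≤ q)
    (hH : ∀ g ∈ M, Iso 𝕗 g ∧ (g : Matrix (Fin n) (Fin n) F).det = 1)
    {v v' v'' : Fin n → F} (hvv : 𝕗 v v = 0) (hvv' : 𝕗 v' v' = 0) (hp : 𝕗 v v' = 0)
    (hD : ∀ l, l * σ l = 1 → ∃ D ∈ M, (D : Matrix (Fin n) (Fin n) F) *ᵥ v = l • v ∧
      (D : Matrix (Fin n) (Fin n) F) *ᵥ v' = σ l • v')
    {t : GL (Fin n) F} (htM : t ∈ M) {μ : F} (hμ : μ ≠ 0) (htv : (t : Matrix (Fin n) (Fin n) F) *ᵥ v = v)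
    (htv' : (t : Matrix (Fin n) (Fin n) F) *ᵥ v' = μ • v'') (hw : 𝕗 v' v'' ≠ 0)
    {A B c : F} (hA : A ≠ 0) (hB : B ≠ 0) (hc0 : c ≠ 0) (hc : c + σ c = 0)
    (hr : uT 𝕗 (A • v + B • v') c ∈ M) : UFull σ 𝕗 M v := by
  classical
  have hf := h.unitary (n := n)
  have hσ0 : ∀ {y : F}, y ≠ 0 → σ y ≠ 0 := fun hy => (map_ne_zero_iff _ σ.injective).mpr hy
  have hσc : σ c = c := by linear_combination hc - c * h2
  have hp' : 𝕗 v' v = 0 := (eq_zero_comm hf).mp hp
  obtain ⟨r, hre⟩ : ∃ r, r = A • v + B • v' := ⟨_, rfl⟩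
  rw [← hre] at hr
  have hfr : ∀ (z : Fin n → F) (a b : F), 𝕗 z (a • v + b • v') = σ a * 𝕗 z v + σ b * 𝕗 z v' := fun z a b => by
    rw [Unitary.add_right' hf, Unitary.smul_right' hf, Unitary.smul_right' hf]
  have hrr : ∀ a b a' b' : F, 𝕗 (a • v + b • v') (a' • v + b' • v') = 0 := fun a b a' b' => by
    rw [hfr, hf.add_left, hf.add_left, hf.smul_left, hf.smul_left, hf.smul_left, hf.smul_left, hvv, hvv', hp, hp']
    ring
  -- root pairs
  have hP : ∀ l, l * σ l = 1 → ∃ P ∈ M, ∀ z, (P : Matrix (Fin n) (Fin n) F) *ᵥ z =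
      z + (c * A * σ B * (1 + l * l) * 𝕗 z v') • v + (σ (c * A * σ B * (1 + l * l)) * 𝕗 z v) • v' := by
    intro l hl
    obtain ⟨D, hDM, hDv, hDv'⟩ := hD l hl
    have hDi := (hH D hDM).1
    obtain ⟨s, hs⟩ : ∃ s, s = (l * A) • v + (σ l * B) • v' := ⟨_, rfl⟩
    have hss : 𝕗 s s = 0 := hs ▸ hrr _ _ _ _
    have hrr0 : 𝕗 r r = 0 := hre ▸ hrr _ _ _ _
    have hDr : (D : Matrix (Fin n) (Fin n) F) *ᵥ r = s := by
      rw [hre, hs, mulVec_add, mulVec_smul, mulVec_smul, hDv, hDv', smul_smul, smul_smul, mul_comm A, mul_comm B]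
    have hsM : uT 𝕗 s c ∈ M := by
      rw [← hDr, ← conj_uT hf hDi hrr0]
      exact M.mul_mem (M.mul_mem hDM hr) (M.inv_mem hDM)
    refine ⟨_, M.mul_mem hsM hr, fun z => ?_⟩
    rw [mul_mulVec, uT_mulVec hf hrr0, uT_mulVec hf hss, hf.add_left, hf.smul_left,
      show 𝕗 r s = 0 by rw [hre, hs]; exact hrr _ _ _ _, hre, hs, hfr, hfr]
    simp only [map_mul, map_add, map_one, h.inv, hσc]
    match_scalars
    · ring
    · linear_combination (c * A * σ A * 𝕗 z v) * (hl + h2)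
    · linear_combination (c * B * σ B * 𝕗 z v') * (hl + h2)
  obtain ⟨l₀, hl₀, hl₀1⟩ : ∃ l : F, l * σ l = 1 ∧ l ≠ 1 := by
    obtain ⟨l, hl, hlS⟩ := h.exists_norm_one_notMem (S := ({1} : Finset F)) (by simp; omega)
    exact ⟨l, hl, by simpa using hlS⟩
  obtain ⟨x', hx'⟩ : ∃ x', x' = c * A * σ B * (1 + l₀ * l₀) * σ μ := ⟨_, rfl⟩
  have hx'0 : x' ≠ 0 := by
    rw [hx']
    refine mul_ne_zero (mul_ne_zero (mul_ne_zero (mul_ne_zero hc0 hA) (hσ0 hB)) fun h0 => hl₀1 ?_) (hσ0 hμ)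
    have hz : (l₀ - 1) * (l₀ - 1) = 0 := by linear_combination h0 - l₀ * h2
    exact sub_eq_zero.mp ((mul_eq_zero.mp hz).elim id id)
  obtain ⟨P₀, hP₀M, hP₀⟩ := hP l₀ hl₀
  obtain ⟨P', hP'e⟩ : ∃ P', P' = t * P₀ * t⁻¹ := ⟨_, rfl⟩
  have hP'M : P' ∈ M := hP'e ▸ M.mul_mem (M.mul_mem htM hP₀M) (M.inv_mem htM)
  have hti := (hH t htM).1
  have hback : ∀ z u : Fin n → F, 𝕗 (((t⁻¹ : GL (Fin n) F) : Matrix (Fin n) (Fin n) F) *ᵥ z) u =
      𝕗 z ((t : Matrix (Fin n) (Fin n) F) *ᵥ u) := fun z u => by rw [← hti, mulVec_inv_cancel]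
  have hP' : ∀ z, (P' : Matrix (Fin n) (Fin n) F) *ᵥ z =
      z + (x' * 𝕗 z v'') • v + (σ x' * 𝕗 z v) • v'' := fun z => by
    rw [hP'e, mul_mulVec, mul_mulVec, hP₀, hback, hback, mulVec_add, mulVec_add, mulVec_smul, mulVec_smul,
      mulVec_inv_cancel, htv, htv', Unitary.smul_right' hf, hx']
    simp only [map_mul, map_add, map_one, h.inv, hσc]
    module
  have hpp : 𝕗 v v'' = 0 := by
    have h1 := hti v v'
    rw [htv, htv', Unitary.smul_right' hf, hp] at h1
    exact (mul_eq_zero.mp h1).resolve_left (hσ0 hμ)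
  have hpp' : 𝕗 v'' v = 0 := (eq_zero_comm hf).mp hpp
  have hvv'' : 𝕗 v'' v'' = 0 := by
    have h1 := hti v' v'
    rw [htv', hf.smul_left, Unitary.smul_right' hf, hvv'] at h1
    exact ((mul_eq_zero.mp h1).resolve_left hμ |> mul_eq_zero.mp).resolve_left (hσ0 hμ)
  obtain ⟨w, hwe⟩ : ∃ w, w = 𝕗 v' v'' := ⟨_, rfl⟩
  have hww : 𝕗 v'' v' = σ w := by rw [hwe, ← hf.herm]
  obtain ⟨K, hK⟩ : ∃ K, K = c * A * σ B * σ x' * σ w := ⟨_, rfl⟩
  have hK0 : K ≠ 0 := hK ▸ mul_ne_zero (mul_ne_zero (mul_ne_zero (mul_ne_zero hc0 hA) (hσ0 hB)) (hσ0 hx'0))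
    (hσ0 (hwe ▸ hw))
  let R : AddSubgroup F :=
    { carrier := {r | σ r = r ∧ uT 𝕗 v r ∈ M}
      zero_mem' := ⟨map_zero σ, by rw [uT_zero hf hvv]; exact M.one_mem⟩
      add_mem' := fun {r s} hr hs => ⟨by rw [map_add, hr.1, hs.1], by
        rw [← uT_mul hf hvv]; exact M.mul_mem hr.2 hs.2⟩
      neg_mem' := fun {r} hr => by rwa [neg_eq_two h2] }
  have hg : ∀ l, l * σ l = 1 → K * (1 + l * l) + σ K * (1 + σ l * σ l) ∈ R := by
    intro l hl
    refine ⟨by simp only [map_add, map_mul, map_one, h.inv]; ring, ?_⟩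
    obtain ⟨P, hPM, hP1⟩ := hP l hl
    obtain ⟨x, hx⟩ : ∃ x, x = c * A * σ B * (1 + l * l) := ⟨_, rfl⟩
    simp only [← hx] at hP1
    have he : K * (1 + l * l) + σ K * (1 + σ l * σ l) = x * σ x' * σ w + σ x * x' * w := by
      rw [hx, hK]; simp only [map_add, map_mul, map_one, h.inv]; ring
    rw [he]
    have hQ : ∀ z, ((P * P' : GL (Fin n) F) : Matrix (Fin n) (Fin n) F) *ᵥ z =
        z + (x * 𝕗 z v' + x' * 𝕗 z v'' + x * σ x' * σ w * 𝕗 z v) • v +
          (σ x * 𝕗 z v) • v' + (σ x' * 𝕗 z v) • v'' := fun z => by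
      rw [mul_mulVec, hP', hP1]
      simp only [hf.add_left, hf.smul_left, hvv, hp, hpp', hww]
      module
    have hsq : P * P' * (P * P') = uT 𝕗 v (x * σ x' * σ w + σ x * x' * w) := gl_ext fun z => by
      rw [mul_mulVec, hQ z, hQ, uT_mulVec hf hvv]
      simp only [hf.add_left, hf.smul_left, hvv, hvv', hvv'', hp, hp', hpp, hpp', hww, ← hwe]
      match_scalars
      · ring
      · linear_combination (x * 𝕗 z v' + x' * 𝕗 z v'' + x * σ x' * σ w * 𝕗 z v) * h2
      · linear_combination (σ x * 𝕗 z v) * h2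
      · linear_combination (σ x' * 𝕗 z v) * h2
    exact hsq ▸ M.mul_mem (M.mul_mem hPM hP'M) (M.mul_mem hPM hP'M)
  have : CharP F 2 := CharTwo.of_one_ne_zero_of_two_eq_zero one_ne_zero h2
  have himg := h.lt_two_mul_image (fun l : F => K * (1 + l * l) + σ K * (1 + σ l * σ l)) fun l hl => by
    obtain ⟨s, hs⟩ := FiniteField.isSquare_of_char_two (ringChar.eq_iff.mpr inferInstance) (σ K / (K * (l * l)))
    refine ⟨l, s, fun l' hl' he => ?_⟩
    have hl0 := ne_zero_of_norm_one hl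
    have h1 : (l' * l' - l * l) * (K * (l' * l') * (l * l) - σ K) = 0 := by
      linear_combination (l * l * (l' * l')) * he + (σ K * (l' * l') * (l * σ l + 1)) * hl
        - (σ K * (l * l) * (l' * σ l' + 1)) * hl'
    rcases mul_eq_zero.mp h1 with h3 | h3
    · have hz : (l' - l) * (l' - l) = 0 := by linear_combination h3 + (l * l - l * l') * h2
      exact Or.inl (sub_eq_zero.mp ((mul_eq_zero.mp hz).elim id id))
    · have h4 : l' * l' = s * s := by
        rw [← hs, eq_div_iff (mul_ne_zero hK0 (mul_ne_zero hl0 hl0))]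
        linear_combination h3
      have hz : (l' - s) * (l' - s) = 0 := by linear_combination h4 + (s * s - s * l') * h2
      exact Or.inr (sub_eq_zero.mp ((mul_eq_zero.mp hz).elim id id))
  refine ⟨hvv, fun e he => ?_⟩
  exact (h.addSubgroup_fixed_eq R (fun r hr => hr.1) (fun s hs => by
    obtain ⟨l, hl, rfl⟩ := Finset.mem_image.mp hs
    exact hg l (Finset.mem_filter.mp hl).2) himg (r := e) (by linear_combination he - e * h2)).2

variable (hH : ∀ g ∈ M, Iso (Cfsg.hermForm n F q) g ∧ (g : Matrix (Fin n) (Fin n) F).det = 1)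
variable (hM : ∀ g : GL (Fin n) F, Iso (Cfsg.hermForm n F q) g → (g : Matrix (Fin n) (Fin n) F).det = 1 →
  IsMono g → g ∈ M)

include hH hM

/-- At least four elements in the fixed field: an element outside gives a full centre with a zero coordinate. -/
theorem exists_full_even (h : QField σ q) (h2 : (2 : F) = 0) (hq : 4 ≤ q) (hn : 4 ≤ n) {g : GL (Fin n) F}
    (hg : g ∈ M) (hgm : ¬ IsMono g) : ∃ u k, UFull σ 𝕗 M u ∧ u ≠ 0 ∧ u k = 0 := by
  classical
  obtain ⟨u, huu, huT, hu3⟩ := exists_wide hH hM h h2 (by omega) hg hgm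
  have h1s : (1 : F) + σ 1 = 0 := by rw [map_one]; linear_combination h2
  have hσ0 : ∀ {y : F}, y ≠ 0 → σ y ≠ 0 := fun hy => (map_ne_zero_iff _ σ.injective).mpr hy
  have htorus : ∀ {i j : Fin n}, i ≠ j → ∀ l, l * σ l = 1 → qR 𝕗 (𝕖 i) l * qR 𝕗 (𝕖 j) l⁻¹ ∈ M :=
    fun hij l hl => by obtain ⟨h1, h3, h4⟩ := h.torus_mem_mono hij hl; exact hM _ h1 h3 h4
  have hu0 : u ≠ 0 := fun e => by
    have : csupp u = ∅ := by ext k; simp [mem_csupp, e]
    rw [this] at hu3; simp at hu3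
  by_cases hu4 : (csupp u).card ≤ 3
  · obtain ⟨k, hk⟩ : ∃ k, u k = 0 := by
      by_contra hh
      push Not at hh
      have := Finset.card_le_card (show (Finset.univ : Finset (Fin n)) ⊆ csupp u from fun k _ => mem_csupp.mpr (hh k))
      rw [Finset.card_univ, Fintype.card_fin] at this
      omega
    obtain ⟨i, hi, hi1⟩ : ∃ i, u i ≠ 0 ∧ 1 + u i * σ (u i) ≠ 0 := by
      by_contra hh
      push Not at hh
      have hs := huu
      rw [h.form_self, ← Finset.sum_subset (Finset.subset_univ (csupp u)) (fun l _ hl => by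
        rw [mem_csupp, not_not] at hl; rw [hl, zero_mul]), Finset.sum_congr rfl (g := fun _ => (1 : F))
        (fun l hl => by linear_combination hh l (mem_csupp.mp hl) - h2), Finset.sum_const,
        show (csupp u).card = 3 by omega, nsmul_one] at hs
      exact one_ne_zero (α := F) (by push_cast at hs; linear_combination hs - h2)
    exact ⟨u, k, full_of_single h h.unitary huu (h.form_unit i) (h.form_unit k)
      (h.form_ne fun e => hi (e ▸ hk)) (by rwa [h.form_single_right]) (by rw [h.form_single_right, hk])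
      (htorus fun e => hi (e ▸ hk)) h1s one_ne_zero huT
      (Or.inr (by rwa [h.form_single_right, one_mul])), hu0, hk⟩
  obtain ⟨S, hS, hS4⟩ := Finset.exists_subset_card_eq (show 4 ≤ (csupp u).card by omega)
  obtain ⟨i, j, k, l, hij, hik, hil, hjk, hjl, hkl, hSe⟩ := Finset.card_eq_four.mp hS4
  have hS' : ∀ {r}, r ∈ S → u r ≠ 0 := fun hr => mem_csupp.mp (hS hr)
  have hui : u i ≠ 0 := hS' (by simp [hSe])
  have huj : u j ≠ 0 := hS' (by simp [hSe])
  have huk : u k ≠ 0 := hS' (by simp [hSe])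
  have hul : u l ≠ 0 := hS' (by simp [hSe])
  -- values of the pairing with the small vectors
  have hval : ∀ {i j : Fin n}, u i ≠ 0 → u j ≠ 0 → ∀ {T : Finset F}, T.card ≤ 2 → ∃ y : F, y * σ y = 1 ∧
      (u i + u j * σ y) * σ (u i + u j * σ y) ∉ T := by
    intro i j hi hj T hT
    obtain ⟨V, hV⟩ : ∃ V : Finset F, V = ((Finset.univ.filter fun y : F => y * σ y = 1).image
      fun y => (u i + u j * σ y) * σ (u i + u j * σ y)) := ⟨_, rfl⟩
    have hVc := h.lt_two_mul_image (fun y : F => (u i + u j * σ y) * σ (u i + u j * σ y)) fun y hy =>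
      ⟨y, σ y * (u j * σ (u i)) / (σ (u j) * u i), fun y' hy' he => by
        simp only [map_add, map_mul, h.inv] at he
        have hz : (y' - y) * (y' * (σ (u j) * u i) - σ y * (u j * σ (u i))) = 0 := by
          linear_combination y' * he + (u j * σ (u i) + u j * σ (u j) * y') * (hy - hy')
            - (u j * σ (u j) * y') * (hy - hy') + (y' * (u j * σ (u j))) * (hy - hy')
        rcases mul_eq_zero.mp hz with h0 | h0
        · exact Or.inl (sub_eq_zero.mp h0)
        · exact Or.inr ((eq_div_iff (mul_ne_zero (hσ0 hj) hi)).mpr (sub_eq_zero.mp h0))⟩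
    rw [← hV] at hVc
    obtain ⟨v, hv, hvT⟩ := Finset.not_subset.mp (fun hsub : V ⊆ T => by
      have := Finset.card_le_card hsub; omega)
    rw [hV, Finset.mem_image] at hv
    obtain ⟨y, hy, rfl⟩ := hv
    exact ⟨y, (Finset.mem_filter.mp hy).2, hvT⟩
  obtain ⟨y', hy', hb0⟩ := hval huk hul (T := {0}) (by simp)
  obtain ⟨y, hy, hab⟩ := hval hui huj (T := {0, (u k + u l * σ y') * σ (u k + u l * σ y')}) Finset.card_le_two
  obtain ⟨b, hb⟩ : ∃ b, b = u k + u l * σ y' := ⟨_, rfl⟩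
  obtain ⟨a, ha⟩ : ∃ a, a = u i + u j * σ y := ⟨_, rfl⟩
  rw [← hb, Finset.mem_singleton] at hb0
  rw [← ha, ← hb, Finset.mem_insert, Finset.mem_singleton, not_or] at hab
  obtain ⟨v, hv⟩ : ∃ v, v = 𝕖 i + Pi.single j y := ⟨_, rfl⟩
  obtain ⟨v', hv'⟩ : ∃ v', v' = 𝕖 k + Pi.single l y' := ⟨_, rfl⟩
  have hvv : 𝕗 v v = 0 := hv ▸ pair_vec h h2 hij hy
  have hvv' : 𝕗 v' v' = 0 := hv' ▸ pair_vec h h2 hkl hy'
  have hv0 : ∀ r, r ≠ i → r ≠ j → v r = 0 := fun r h1 h3 => by simp [hv, h1, h3]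
  have hvi : v i = 1 := by simp [hv, hij]
  have hvj : v j = y := by simp [hv, hij.symm]
  have hv'0 : ∀ r, r ≠ k → r ≠ l → v' r = 0 := fun r h1 h3 => by simp [hv', h1, h3]
  have hv'k : v' k = 1 := by simp [hv', hkl]
  have hv'l : v' l = y' := by simp [hv', hkl.symm]
  have hperp : 𝕗 v v' = 0 := by
    rw [h.form_pair hij hv0, hv'0 i hik hil, hv'0 j hjk hjl, map_zero, mul_zero, mul_zero, add_zero]
  have hperp' : 𝕗 v' v = 0 := (eq_zero_comm h.unitary).mp hperp
  have huv : 𝕗 u v = a := by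
    rw [h.unitary.herm, h.form_pair hij hv0, hvi, hvj, ha, map_add, map_mul, map_mul, map_one, h.inv, h.inv]
    ring
  have huv' : 𝕗 u v' = b := by
    rw [h.unitary.herm, h.form_pair hkl hv'0, hv'k, hv'l, hb, map_add, map_mul, map_mul, map_one, h.inv, h.inv]
    ring
  have hvu : 𝕗 v u = σ a := by rw [h.unitary.herm, huv]
  have hv'u : 𝕗 v' u = σ b := by rw [h.unitary.herm, huv']
  obtain ⟨t, ht⟩ : ∃ t, t = uT 𝕗 v 1 * uT 𝕗 v' 1 := ⟨_, rfl⟩
  have htM : t ∈ M := by
    rw [ht, hv, hv']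
    exact M.mul_mem (pair_transvection_mem hM h h2 hij hy) (pair_transvection_mem hM h h2 hkl hy')
  have hty : ∀ x, (t : Matrix (Fin n) (Fin n) F) *ᵥ x = x + 𝕗 x v • v + 𝕗 x v' • v' := fun x => by
    rw [ht, mul_mulVec, uT_mulVec h.unitary hvv', uT_mulVec h.unitary hvv, h.unitary.add_left,
      h.unitary.smul_left, hperp']
    module
  have hTy : ∀ x, (uT 𝕗 u 1 : Matrix (Fin n) (Fin n) F) *ᵥ x = x + 𝕗 x u • u := fun x => by
    rw [uT_mulVec h.unitary huu, one_mul]
  have ht2 : t * t = 1 := gl_ext fun x => by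
    rw [mul_mulVec, hty, hty, h.unitary.add_left, h.unitary.add_left, h.unitary.smul_left, h.unitary.smul_left,
      h.unitary.add_left, h.unitary.add_left, h.unitary.smul_left, h.unitary.smul_left, hvv, hvv', hperp, hperp',
      Units.val_one, one_mulVec]
    match_scalars
    · ring
    · linear_combination (𝕗 x v) * h2
    · linear_combination (𝕗 x v') * h2
  have hu2 : uT 𝕗 u 1 * uT 𝕗 u 1 = 1 := by
    rw [uT_mul h.unitary huu, show (1 : F) + 1 = 0 by linear_combination h2, uT_zero h.unitary huu]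
  -- the product has even order
  have heven : Even (orderOf (uT 𝕗 u 1 * t)) := by
    rw [← Nat.not_odd_iff_even]
    intro hodd
    obtain ⟨m, hm⟩ := CfsgLib.RankOneSetup.conj_of_odd_orderOf hu2 ht2 hodd
    obtain ⟨c, hc⟩ : ∃ c, c = (uT 𝕗 u 1 * t) ^ m := ⟨_, rfl⟩
    rw [← hc] at hm
    obtain ⟨hci, -⟩ := hH c (hc ▸ M.pow_mem (M.mul_mem huT htM) m)
    rw [conj_uT h.unitary hci huu] at hm
    obtain ⟨w, hw⟩ : ∃ w, w = (c : Matrix (Fin n) (Fin n) F) *ᵥ u := ⟨_, rfl⟩
    rw [← hw] at hm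
    have hww : 𝕗 w w = 0 := by rw [hw, hci, huu]
    have key : ∀ x, 𝕗 x v • v + 𝕗 x v' • v' = 𝕗 x w • w := fun x => by
      have := hty x
      rw [← hm, uT_mulVec h.unitary hww, one_mul, add_assoc, add_left_cancel_iff] at this
      exact this.symm
    have e1 := key (𝕖 i)
    have e2 := key (𝕖 k)
    rw [hermForm_single h.pow, hermForm_single h.pow, hermForm_single h.pow, hvi, hv'0 i hik hil] at e1
    rw [hermForm_single h.pow, hermForm_single h.pow, hermForm_single h.pow, hv'k,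
      hv0 k hik.symm hjk.symm] at e2
    simp only [map_one, map_zero, one_smul, zero_smul, add_zero, zero_add] at e1 e2
    have e3 := congrFun e1 k
    rw [hv0 k hik.symm hjk.symm, Pi.smul_apply, smul_eq_mul] at e3
    have e4 := congrFun e2 k
    rw [hv'k, Pi.smul_apply, smul_eq_mul] at e4
    rcases mul_eq_zero.mp e3.symm with h0 | h0
    · rw [h0, zero_smul] at e1
      exact one_ne_zero (α := F) (by rw [← hvi, e1]; rfl)
    · exact one_ne_zero (α := F) (by rw [e4, h0, mul_zero])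
  -- the common centraliser
  obtain ⟨r, hr⟩ : ∃ r, r = σ b • v - σ a • v' := ⟨_, rfl⟩
  have hru : 𝕗 r u = 0 := by
    rw [hr, Unitary.sub_left' h.unitary, h.unitary.smul_left, h.unitary.smul_left, hvu, hv'u]; ring
  have hrv : 𝕗 r v = 0 := by
    rw [hr, Unitary.sub_left' h.unitary, h.unitary.smul_left, h.unitary.smul_left, hvv, hperp']; ring
  have hrv' : 𝕗 r v' = 0 := by
    rw [hr, Unitary.sub_left' h.unitary, h.unitary.smul_left, h.unitary.smul_left, hperp, hvv']; ring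
  obtain ⟨z, hz1, hz2, hzt, hzu, hzH, hzR, hzr⟩ : ∃ z : GL (Fin n) F, z ≠ 1 ∧ z * z = 1 ∧ z * t = t * z ∧
      z * uT 𝕗 u 1 = uT 𝕗 u 1 * z ∧ z ∈ M ∧
      (∀ x, (z : Matrix (Fin n) (Fin n) F) *ᵥ x - x ∈ Submodule.span F {u, v, v'}) ∧
      (z : Matrix (Fin n) (Fin n) F) *ᵥ r = r := by
    obtain ⟨R, hR⟩ : ∃ R, R = Submodule.span F ({u, v, v'} : Set (Fin n → F)) := ⟨_, rfl⟩
    rw [← hR]
    let S : Subgroup (GL (Fin n) F) :=
      { carrier := {z | (∀ x, (z : Matrix (Fin n) (Fin n) F) *ᵥ x - x ∈ R) ∧ (z : Matrix (Fin n) (Fin n) F) *ᵥ r = r}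
        one_mem' := ⟨fun x => by rw [Units.val_one, one_mulVec, sub_self]; exact R.zero_mem,
          by rw [Units.val_one, one_mulVec]⟩
        mul_mem' := fun {x y} hx hy => ⟨fun w => by
          have := R.add_mem (hx.1 ((y : Matrix (Fin n) (Fin n) F) *ᵥ w)) (hy.1 w)
          rwa [sub_add_sub_cancel, ← mul_mulVec] at this, by rw [mul_mulVec, hy.2, hx.2]⟩
        inv_mem' := fun {x} hx => ⟨fun w => by
          have := R.neg_mem (hx.1 (((x⁻¹ : GL (Fin n) F) : Matrix (Fin n) (Fin n) F) *ᵥ w))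
          rwa [mulVec_inv_cancel, neg_sub] at this, by conv_lhs => rw [← hx.2, inv_mulVec_cancel]⟩ }
    have hmem : ∀ w ∈ ({u, v, v'} : Set (Fin n → F)), w ∈ R := fun w hw => hR ▸ Submodule.subset_span hw
    have htS : t ∈ S := ⟨fun x => by
      rw [hty, add_assoc, add_sub_cancel_left]
      exact R.add_mem (R.smul_mem _ (hmem _ (by simp))) (R.smul_mem _ (hmem _ (by simp))),
      by rw [hty, hrv, hrv', zero_smul, zero_smul, add_zero, add_zero]⟩
    have huS : uT 𝕗 u 1 ∈ S := ⟨fun x => by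
      rw [hTy, add_sub_cancel_left]; exact R.smul_mem _ (hmem _ (by simp)),
      by rw [hTy, hru, zero_smul, add_zero]⟩
    obtain ⟨z, hz1, hz2, hzu, hzt⟩ := CfsgLib.RankOneSetup.exists_commute_of_even_orderOf
      (G := ↥(M ⊓ S)) (s := ⟨_, huT, huS⟩) (u := ⟨t, htM, htS⟩) (Subtype.ext hu2) (Subtype.ext ht2)
      (by rw [← Subgroup.orderOf_coe]; exact heven)
    exact ⟨z, fun e => hz1 (Subtype.ext e), congrArg Subtype.val hz2, congrArg Subtype.val hzt,
      congrArg Subtype.val hzu, z.2.1, z.2.2.1, z.2.2.2⟩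
  obtain ⟨hzi, hzd⟩ := hH z hzH
  have hzu' : (z : Matrix (Fin n) (Fin n) F) *ᵥ u = u := by
    obtain ⟨w, hw⟩ : ∃ w, w = (z : Matrix (Fin n) (Fin n) F) *ᵥ u := ⟨_, rfl⟩
    have hww : 𝕗 w w = 0 := by rw [hw, hzi, huu]
    have h3 : uT 𝕗 w 1 = uT 𝕗 u 1 := by rw [hw, ← conj_uT h.unitary hzi huu, hzu, mul_inv_cancel_right]
    have h4 := congrArg (fun G : GL (Fin n) F => (G : Matrix (Fin n) (Fin n) F) *ᵥ 𝕖 i) h3
    simp only [uT_mulVec h.unitary hww, hTy, one_mul, hermForm_single h.pow] at h4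
    rw [add_left_cancel_iff] at h4
    have hwi : σ (w i) ≠ 0 := fun h0 => by
      rw [h0, zero_smul] at h4
      exact smul_ne_zero (hσ0 hui) hu0 h4.symm
    have hwξ : w = (σ (u i) / σ (w i)) • u := by
      rw [div_eq_inv_mul, ← smul_smul, ← h4, inv_smul_smul₀ hwi]
    obtain ⟨ξ, hξ⟩ : ∃ ξ, w = ξ • u := ⟨_, hwξ⟩
    have h5 : (ξ * ξ) • u = (1 : F) • u := by
      rw [one_smul, ← smul_smul, ← hξ, hw, ← mulVec_smul, ← hξ, hw, ← mul_mulVec, hz2, Units.val_one, one_mulVec]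
    have h6 : (ξ - 1) * (ξ - 1) = 0 := by linear_combination smul_left_injective F hu0 h5 + (1 - ξ) * h2
    rw [← hw, hξ, sub_eq_zero.mp ((mul_eq_zero.mp h6).elim id id), one_smul]
  have hza : a ≠ 0 := fun h0 => hab.1 (by rw [h0, zero_mul])
  have hzb : b ≠ 0 := fun h0 => hb0 (by rw [h0, zero_mul])
  have hdec : ∀ x, ∃ μ ρ : F, (z : Matrix (Fin n) (Fin n) F) *ᵥ x = x + μ • u + ρ • r := fun x => by
    obtain ⟨μ, p, hp, hsum⟩ := Submodule.mem_span_insert.mp (hzR x)
    obtain ⟨p₁, p₂, rfl⟩ := Submodule.mem_span_pair.mp hp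
    have h3 : 𝕗 ((z : Matrix (Fin n) (Fin n) F) *ᵥ x - x) u = 0 := by
      rw [Unitary.sub_left' h.unitary]
      nth_rw 1 [← hzu']
      rw [hzi, sub_self]
    rw [hsum, h.unitary.add_left, h.unitary.add_left, h.unitary.smul_left, h.unitary.smul_left,
      h.unitary.smul_left, huu, hvu, hv'u, mul_zero, zero_add] at h3
    refine ⟨μ, p₁ / σ b, ?_⟩
    rw [add_assoc, ← sub_eq_iff_eq_add', hsum, hr]
    match_scalars
    · rfl
    · field_simp [hσ0 hzb]
    · field_simp [hσ0 hzb]; linear_combination h3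
  have hline : ∀ x, ∃ c : F, (z : Matrix (Fin n) (Fin n) F) *ᵥ x = x + c • r := fun x => by
    obtain ⟨μ, ρ, hx⟩ := hdec x
    obtain ⟨μ', ρ', hX⟩ := hdec (𝕗 x v • v + 𝕗 x v' • v')
    have h3 := congrArg (fun G : GL (Fin n) F => (G : Matrix (Fin n) (Fin n) F) *ᵥ x) hzt
    simp only [mul_mulVec] at h3
    rw [hty x, add_assoc, mulVec_add, hX, hx, hty, h.unitary.add_left, h.unitary.add_left, h.unitary.smul_left,
      h.unitary.smul_left, huv, hrv, h.unitary.add_left, h.unitary.add_left, h.unitary.smul_left,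
      h.unitary.smul_left, huv', hrv'] at h3
    have h4 : μ' • u + ρ' • r = (μ * a) • v + (μ * b) • v' := by
      linear_combination (norm := module) h3
    have hμ' : μ' = 0 := by
      have h5 := congrArg (fun w => 𝕗 w v) h4
      simp only [h.unitary.add_left, h.unitary.smul_left, huv, hrv, hvv, hperp', mul_zero, add_zero] at h5
      exact (mul_eq_zero.mp h5).resolve_right hza
    rw [hμ', zero_smul, zero_add, hr] at h4
    have e1 := congrFun h4 i
    have e2 := congrFun h4 k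
    simp [hvi, hv'0 i hik hil] at e1
    simp [hv'k, hv0 k hik.symm hjk.symm] at e2
    have hμ : μ * (a * σ a + b * σ b) = 0 := by linear_combination (-σ a) * e1 - σ b * e2
    refine ⟨ρ, ?_⟩
    rw [hx, (mul_eq_zero.mp hμ).resolve_right (fun h0 => hab.2 (by
      linear_combination h0 - (b * σ b) * h2)), zero_smul, add_zero]
  have hri : r i = σ b := by rw [hr]; simp [hvi, hv'0 i hik hil]
  have hrk : r k = -σ a := by rw [hr]; simp [hv'k, hv0 k hik.symm hjk.symm]
  have hr0 : r ≠ 0 := fun h0 => hσ0 hzb (by rw [← hri, h0]; rfl)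
  obtain ⟨c, hc0, hc, hrr, hzc⟩ := exists_uT_of_line h.unitary hzi hzd hr0 hline hz1
  obtain ⟨p, hp, hpy⟩ : ∃ p : F, p * σ p = 1 ∧ p ≠ y' := by
    obtain ⟨p, hp, hpS⟩ := h.exists_norm_one_notMem (S := ({y'} : Finset F)) (by simp; omega)
    exact ⟨p, hp, by simpa using hpS⟩
  obtain ⟨v'', hv''⟩ : ∃ v'', v'' = 𝕖 k + Pi.single l (p * p * σ y') := ⟨_, rfl⟩
  have hp0 := ne_zero_of_norm_one hp
  have hy'0 := ne_zero_of_norm_one hy'
  refine ⟨v, k, full_of_root_pair h h2 hq hH hvv hvv' hperp (v'' := v'') (fun e he => ?_)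
    (pair_transvection_mem hM h h2 hkl hp) (μ := y' * σ p) (mul_ne_zero hy'0 (hσ0 hp0)) ?_ ?_ ?_
    (hσ0 hzb) (hσ0 hza) hc0 hc ?_, fun h0 => one_ne_zero (α := F) (by rw [← hvi, h0]; rfl),
    hv0 k hik.symm hjk.symm⟩
  · refine ⟨_, M.mul_mem (htorus hik e he) (htorus hjl e he), ?_, ?_⟩
    · funext s
      rw [mul_mulVec, h.torus_apply hik he (norm_inv he), h.torus_apply hjl he (norm_inv he), Pi.smul_apply,
        smul_eq_mul]
      by_cases h1 : s = i
      · subst h1; simp [hij, hil]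
      by_cases h3 : s = j
      · subst h3; simp [h1, hjk]
      rw [hv0 s h1 h3]; simp
    · funext s
      rw [mul_mulVec, h.torus_apply hik he (norm_inv he), h.torus_apply hjl he (norm_inv he), Pi.smul_apply,
        smul_eq_mul, inv_eq_conj he]
      by_cases h1 : s = k
      · subst h1; simp [hik.symm, hjk.symm, hkl]
      by_cases h3 : s = l
      · subst h3; simp [h1, hil.symm, hjl.symm]
      rw [hv'0 s h1 h3]; simp
  · rw [uT_mulVec h.unitary (pair_vec h h2 hkl hp), Unitary.add_right' h.unitary, h.form_single_right,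
      show (Pi.single l p : Fin n → F) = p • 𝕖 l by rw [← Pi.single_smul, smul_eq_mul, mul_one],
      Unitary.smul_right' h.unitary, h.form_single_right, hv0 k hik.symm hjk.symm, hv0 l hil.symm hjl.symm]
    simp
  · rw [uT_mulVec h.unitary (pair_vec h h2 hkl hp), hv', hv'']
    have hsg : ∀ d : F, (Pi.single l d : Fin n → F) = d • 𝕖 l := fun d => by
      rw [← Pi.single_smul, smul_eq_mul, mul_one]
    rw [hsg p, hsg y', hsg (p * p * σ y')]
    simp only [h.unitary.add_left, Unitary.add_right' h.unitary,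
      Unitary.smul_right' h.unitary, h.unitary.smul_left, h.form_unit, h.form_ne hkl, h.form_ne hkl.symm]
    match_scalars
    · linear_combination h2
    · linear_combination y' * hp + y' * h2 - (p * (p * σ p)) * hy' - p * hp
  · rw [h.form_pair hkl hv'0, hv'k, hv'l, hv'']
    simp [hkl, hkl.symm, h.inv]
    intro h0
    have hz : (1 - y' * σ p) * (1 - y' * σ p) = 0 := by linear_combination h0 - (y' * σ p) * h2
    have h4 : y' * σ p = 1 := (sub_eq_zero.mp ((mul_eq_zero.mp hz).elim id id)).symm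
    exact hpy (by linear_combination y' * hp - p * h4)
  · rw [← show r = σ b • v + σ a • v' by rw [hr, sub_eq_add_neg, ← neg_smul, neg_eq_two h2]]
    exact hzc ▸ hzH

/-- The field with four elements in dimension four. -/
theorem all_full_two (h : QField σ q) (hq : q = 2) (hn : n = 4) {g : GL (Fin n) F} (hg : g ∈ M)
    (hgm : ¬ IsMono g) : ∀ x, 𝕗 x x = 0 → UFull σ 𝕗 M x := by
  classical
  have hcard : Fintype.card F = 4 := by rw [← Nat.card_eq_fintype_card, h.card, hq]; rfl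
  have h2 : (2 : F) = 0 := by
    have h1 := h.natCast_q'
    rw [hq] at h1; exact_mod_cast h1
  have : CharP F 2 := CharTwo.of_one_ne_zero_of_two_eq_zero one_ne_zero h2
  have hfix : ∀ c : F, σ c = c → c = 0 ∨ c = 1 := fun c hc => by
    have h3 : c * (c - 1) = 0 := by
      have h1 := hc; rw [h.pow, hq] at h1; linear_combination h1
    exact (mul_eq_zero.mp h3).imp id sub_eq_zero.mp
  have hN : ∀ {y : F}, y ≠ 0 → y * σ y = 1 := fun {y} hy =>
    (hfix _ (by rw [map_mul, h.inv, mul_comm])).resolve_left (mul_ne_zero hy ((map_ne_zero_iff _ σ.injective).mpr hy))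
  have h4 : ∀ {c : F}, c ^ 4 = c := fun {c} => by rw [← hcard, FiniteField.pow_card]
  have hfull : ∀ {x}, 𝕗 x x = 0 → uT 𝕗 x 1 ∈ M → UFull σ 𝕗 M x := fun {x} hx hm => ⟨hx, fun c hc => by
    rcases hfix c (by linear_combination hc - c * h2) with h0 | h0
    · rw [h0, uT_zero h.unitary hx]; exact M.one_mem
    · rw [h0]; exact hm⟩
  have hparity : ∀ {x : Fin n → F}, 𝕗 x x = 0 → Even (csupp x).card := fun {x} hx => by
    rw [h.form_self, ← Finset.sum_subset (Finset.subset_univ (csupp x)) (fun l _ hl => by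
      rw [mem_csupp, not_not] at hl; rw [hl, zero_mul]), Finset.sum_congr rfl (g := fun _ => (1 : F))
      (fun l hl => hN (mem_csupp.mp hl)), Finset.sum_const, nsmul_one, CharP.cast_eq_zero_iff F 2] at hx
    exact even_iff_two_dvd.mpr hx
  have hle : ∀ x : Fin n → F, (csupp x).card ≤ 4 := fun x =>
    le_trans (Finset.card_le_univ _) (by simp [hn])
  obtain ⟨u, huu, huT, hu3⟩ := exists_wide hH hM h h2 (by omega) hg hgm
  have hu := hfull huu huT
  have hu4 : ∀ r, u r ≠ 0 := by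
    obtain ⟨m, hm⟩ := hparity huu
    have := hle u
    exact fun r => mem_csupp.mp (by
      rw [Finset.eq_univ_of_card (csupp u) (by simp [hn]; omega)]; exact Finset.mem_univ r)
  intro x hx
  obtain ⟨m, hm⟩ := hparity hx
  have := hle x
  rcases (show m = 0 ∨ m = 1 ∨ m = 2 by omega) with rfl | rfl | rfl
  · have e : x = 0 := funext fun s => by
      by_contra h0
      have h1 := mem_csupp.mpr h0
      rw [Finset.card_eq_zero.mp hm] at h1
      simp at h1
    have h0 := ufull_smul h.unitary hu 0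
    rwa [zero_smul, ← e] at h0
  · obtain ⟨i, j, hij, hs⟩ := Finset.card_eq_two.mp hm
    have hxi : x i ≠ 0 := mem_csupp.mp (by simp [hs])
    have hxj : x j ≠ 0 := mem_csupp.mp (by simp [hs])
    obtain ⟨y, hy⟩ : ∃ y, y = x j / x i := ⟨_, rfl⟩
    have hyN : y * σ y = 1 := hN (hy ▸ div_ne_zero hxj hxi)
    have e : x = x i • (𝕖 i + Pi.single j y) := by
      funext s
      by_cases h1 : s = i
      · subst h1; simp [hij]
      by_cases h3 : s = j
      · subst h3; simp [hij.symm, hy]; field_simp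
      have : x s = 0 := by
        by_contra h0; simpa [hs, h1, h3] using mem_csupp.mpr h0
      simp [h1, h3, this]
    rw [e]
    exact ufull_smul h.unitary (hfull (pair_vec h h2 hij hyN) (pair_transvection_mem hM h h2 hij hyN)) _
  · have hx4 : ∀ r, x r ≠ 0 := fun r => mem_csupp.mp (by
      rw [Finset.eq_univ_of_card (csupp x) (by simp [hn, hm])]; exact Finset.mem_univ r)
    obtain ⟨P, hP⟩ : ∃ P, P = ∏ r, x r / u r := ⟨_, rfl⟩
    have hP0 : P ≠ 0 := hP ▸ Finset.prod_ne_zero_iff.mpr fun r _ => div_ne_zero (hx4 r) (hu4 r)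
    have he0 : ∀ r, P⁻¹ * (x r / u r) ≠ 0 := fun r => mul_ne_zero (inv_ne_zero hP0) (div_ne_zero (hx4 r) (hu4 r))
    obtain ⟨d, hd⟩ : ∃ d, d = mono 1 (fun r => Units.mk0 _ (he0 r)) := ⟨_, rfl⟩
    have hdi : Iso 𝕗 d := hd ▸ h.iso_mono 1 _ (fun r => by simpa using hN (he0 r))
    have hdd : (d : Matrix (Fin n) (Fin n) F).det = 1 := by
      rw [hd, det_mono]
      simp only [Units.val_mk0, map_one, Units.val_one, Int.cast_one, one_mul]
      rw [Finset.prod_mul_distrib, Finset.prod_const, Finset.card_univ, Fintype.card_fin,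
        (congrArg (fun e : ℕ => P⁻¹ ^ e) hn : P⁻¹ ^ n = P⁻¹ ^ 4), h4, ← hP,
        inv_mul_cancel₀ hP0]
    have hdf := ufull_smul h.unitary (ufull_conj h.unitary (hM d hdi hdd (hd ▸ isMono_mono _ _)) hdi hu) P
    convert hdf using 1
    funext r
    have h1 := mono_mulVec (1 : Equiv.Perm (Fin n)) (fun r => Units.mk0 _ (he0 r)) u r
    rw [Equiv.Perm.one_apply, Units.val_mk0] at h1
    rw [hd, Pi.smul_apply, smul_eq_mul, h1]
    field_simp [hu4 r]

end CfsgLib.SUFour
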