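/-
Monomial overgroups in dimension four and odd characteristic: no element outside spreads every unit vector.
-/
import Cfsg.Agent.Lib.Classical22.UDecomp.OneOddFix
import Cfsg.Agent.Lib.RankOneSetup.Basic

set_option autoImplicit false

namespace CfsgLib.SUFour

open Matrix CfsgLib.Transvec CfsgLib.Transvec.Unitary CfsgLib.Classical22.Monomial CfsgLib.Classical22.UDecomp
open scoped MatrixGroups

variable {F : Type*} [Field F]

local notation:max "𝕖" i:max => (Pi.single i 1 : Fin 4 → F)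

/-- Diagonal with one entry on two coordinates and another entry elsewhere. -/
def twoVal (a b : Fin 4) (α β : Fˣ) : Fin 4 → Fˣ := fun k => if k = a ∨ k = b then α else β

lemma twoVal_prod (a b : Fin 4) (hab : a ≠ b) (α β : Fˣ) :
    ∏ k, (twoVal a b α β k : F) = (α : F) * α * β * β := by
  fin_cases a <;> fin_cases b <;>
    first
    | exact absurd rfl hab
    | (simp [twoVal, Fin.prod_univ_four]; done)
    | (simp [twoVal, Fin.prod_univ_four]; ring)

lemma exists_third : ∀ a b : Fin 4, ∃ m, m ≠ a ∧ m ≠ b := by decide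

lemma exhaust_four : ∀ p m : Fin 4, p = 2 ∨ p = 3 → m ≠ 0 → m ≠ 1 → m ≠ p →
    ∀ k, ¬ k = p → k = 0 ∨ k = 1 ∨ k = m := by decide

lemma perm_cases : ∀ π : Equiv.Perm (Fin 4), π 2 = 2 → π 3 = 3 → π = 1 ∨ π = Equiv.swap 0 1 := by decide

/-- A monomial map with two opposite-free eigenvalues is diagonal. -/
lemma perm_one_of_quadratic {π : Equiv.Perm (Fin 4)} {d : Fin 4 → Fˣ} {α β : F} (hs : α + β ≠ 0)
    (hq : ∀ y, (mono π d : Matrix (Fin 4) (Fin 4) F) *ᵥ ((mono π d : Matrix (Fin 4) (Fin 4) F) *ᵥ y) -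
      (α + β) • ((mono π d : Matrix (Fin 4) (Fin 4) F) *ᵥ y) + (α * β) • y = 0) : π = 1 := by
  refine Equiv.ext fun i => ?_
  by_contra hi
  simp only [Equiv.Perm.one_apply] at hi
  have h1 := congrFun (hq (𝕖 i)) (π i)
  rw [mono_mulVec_single, mono_mulVec_single, mul_one] at h1
  simp [hi, show π (π i) ≠ π i from fun e => hi (π.injective e), hs] at h1

variable [Fintype F] {σ : F ≃+* F} {q : ℕ} {M : Subgroup (GL (Fin 4) F)}

local notation "𝕗" => Cfsg.hermForm 4 F q

/-- A scalar of norm one of order not dividing four, not a cube root of unity. -/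
lemma exists_good_scalar (h : QField σ q) (hq : 5 ≤ q) :
    ∃ l : Fˣ, (l : F) * σ l = 1 ∧ (l : F) ^ 4 ≠ 1 ∧ (l : F) + (l : F)⁻¹ ≠ 0 ∧ (l : F) ≠ (l : F)⁻¹ := by
  classical
  obtain ⟨l, hl, hlS⟩ := h.exists_norm_one_notMem (S := (Polynomial.nthRoots 4 (1 : F)).toFinset)
    (le_trans (Multiset.toFinset_card_le _) (le_trans (Polynomial.card_nthRoots 4 1) (by omega)))
  rw [Multiset.mem_toFinset, Polynomial.mem_nthRoots (by norm_num)] at hlS
  have hl0 := ne_zero_of_norm_one hl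
  refine ⟨Units.mk0 l hl0, hl, hlS, fun h0 => hlS ?_, fun h0 => hlS ?_⟩
  · rw [Units.val_mk0] at h0
    field_simp at h0
    linear_combination (l ^ 2 - 1) * h0
  · rw [Units.val_mk0] at h0
    field_simp at h0
    linear_combination (l ^ 2 + 1) * h0

variable (hH : ∀ g ∈ M, Iso (Cfsg.hermForm 4 F q) g ∧ (g : Matrix (Fin 4) (Fin 4) F).det = 1)
variable (hM : ∀ g : GL (Fin 4) F, Iso (Cfsg.hermForm 4 F q) g → (g : Matrix (Fin 4) (Fin 4) F).det = 1 →
  IsMono g → g ∈ M)

include hM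

lemma mono_mem (h : QField σ q) (π : Equiv.Perm (Fin 4)) (d : Fin 4 → Fˣ) (hd : ∀ i, (d i : F) * σ (d i) = 1)
    (hdet : ((Equiv.Perm.sign π : ℤ) : F) * ∏ j, (d j : F) = 1) : mono π d ∈ M :=
  hM _ (h.iso_mono π d hd) (by rw [det_mono, hdet]) (isMono_mono _ _)

lemma two_mem (h : QField σ q) {a b : Fin 4} (hab : a ≠ b) {α β : Fˣ} (hα : (α : F) * σ α = 1)
    (hβ : (β : F) * σ β = 1) (hp : (α : F) * α * β * β = 1) : mono 1 (twoVal a b α β) ∈ M :=
  mono_mem hM h 1 _ (fun k => by unfold twoVal; split_ifs <;> assumption) (by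
    rw [twoVal_prod a b hab, hp]; simp)

include hH

variable (hfix : ∀ g ∈ M, ∀ a k : Fin 4, ∀ c : F,
  (g : Matrix (Fin 4) (Fin 4) F) *ᵥ Pi.single a 1 = Pi.single k c → IsMono g)

include hfix

/-- Two images on one pair of coordinates occur for monomial elements only. -/
lemma mono_of_pairImage (h : QField σ q) (_h2 : (2 : F) ≠ 0) (hq : 5 ≤ q) {g : GL (Fin 4) F} (hg : g ∈ M)
    {a b : Fin 4} (hab : a ≠ b) (hp : PairImage g a b) : IsMono g := by
  classical
  obtain ⟨i, j, hij, hsupp⟩ := hp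
  obtain ⟨l, hl, -, hls, hln⟩ := exists_good_scalar h hq
  obtain ⟨A, hA⟩ : ∃ A, A = (g : Matrix (Fin 4) (Fin 4) F) *ᵥ 𝕖 a := ⟨_, rfl⟩
  obtain ⟨B, hB⟩ : ∃ B, B = (g : Matrix (Fin 4) (Fin 4) F) *ᵥ 𝕖 b := ⟨_, rfl⟩
  have hA0 : ∀ k, k ≠ i → k ≠ j → A k = 0 := fun k h1 h3 => by rw [hA, col_eq]; exact (hsupp k h1 h3).1
  have hB0 : ∀ k, k ≠ i → k ≠ j → B k = 0 := fun k h1 h3 => by rw [hB, col_eq]; exact (hsupp k h1 h3).2
  have hAA : 𝕗 A A = 1 := by rw [hA, image_form hH h hg, if_pos rfl]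
  have hBB : 𝕗 B B = 1 := by rw [hB, image_form hH h hg, if_pos rfl]
  have hAB : 𝕗 A B = 0 := by rw [hA, hB, image_form hH h hg, if_neg hab]
  have hBA : 𝕗 B A = 0 := (eq_zero_comm h.unitary).mp hAB
  obtain ⟨x, hx⟩ : ∃ x, x = qR 𝕗 A l * qR 𝕗 B (l : F)⁻¹ := ⟨_, rfl⟩
  have hxM : x ∈ M := by rw [hx, hA, hB]; exact conj_torus_mem hH hM h hg hab hl
  have hxy : ∀ y, (x : Matrix (Fin 4) (Fin 4) F) *ᵥ y =
      y + (((l : F) - 1) * 𝕗 y A) • A + (((l : F)⁻¹ - 1) * 𝕗 y B) • B :=
    fun y => by rw [hx, torus_mulVec h.unitary hAA hBB hAB hl (norm_inv hl)]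
  have hxA : (x : Matrix (Fin 4) (Fin 4) F) *ᵥ A = (l : F) • A := by rw [hxy, hAA, hAB]; module
  have hxB : (x : Matrix (Fin 4) (Fin 4) F) *ᵥ B = (l : F)⁻¹ • B := by rw [hxy, hBA, hBB]; module
  have hxk : ∀ k, k ≠ i → k ≠ j → (x : Matrix (Fin 4) (Fin 4) F) *ᵥ 𝕖 k = Pi.single k 1 := fun k h1 h3 => by
    rw [hxy, hermForm_single h.pow, hermForm_single h.pow, hA0 k h1 h3, hB0 k h1 h3, map_zero]
    simp
  obtain ⟨m, hmi, hmj⟩ := exists_third i j
  obtain ⟨π, d, hπd⟩ := (hfix x hxM m m 1 (hxk m hmi hmj)).exists_mono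
  have hπk : ∀ k, k ≠ i → k ≠ j → π k = k := fun k h1 h3 => by
    have := congrFun (hxk k h1 h3) (π k)
    rw [hπd, mono_mulVec_single, Pi.single_eq_same, mul_one] at this
    by_contra hne
    rw [Pi.single_eq_of_ne hne] at this
    exact Units.ne_zero _ this
  have hout : π i = i ∨ π i = j := by
    by_contra hc
    push Not at hc
    exact hc.1 (π.injective (hπk (π i) hc.1 hc.2))
  have eA := congrFun hxA (π i)
  have eB := congrFun hxB (π i)
  rw [hπd, mono_mulVec, Pi.smul_apply, smul_eq_mul] at eA eB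
  rcases hout with hπi | hπi
  · -- diagonal
    have hπj : π j = j := by
      by_contra hc
      by_cases h1 : π j = i
      · exact hij (π.injective (hπi.trans h1.symm))
      · exact hc (π.injective (hπk (π j) h1 hc))
    rw [hπi] at eA eB
    have hone : A i = 0 ∨ B i = 0 := by
      by_contra hc
      push Not at hc
      exact hln ((mul_right_cancel₀ hc.1 eA).symm.trans (mul_right_cancel₀ hc.2 eB))
    rcases hone with h0 | h0
    · refine hfix g hg a j (A j) ?_
      rw [← hA]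
      funext k
      by_cases hk : k = j
      · subst hk; simp
      by_cases hk' : k = i
      · subst hk'; simp [h0, hij]
      simp [hk, hA0 k hk' hk]
    · refine hfix g hg b j (B j) ?_
      rw [← hB]
      funext k
      by_cases hk : k = j
      · subst hk; simp
      by_cases hk' : k = i
      · subst hk'; simp [h0, hij]
      simp [hk, hB0 k hk' hk]
  · have hπj : π j = i := by
      by_contra hc
      by_cases h1 : π j = j
      · exact hij (π.injective (hπi.trans h1.symm))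
      · exact h1 (π.injective (hπk (π j) hc h1))
    have eA' := congrFun hxA (π j)
    have eB' := congrFun hxB (π j)
    rw [hπd, mono_mulVec, Pi.smul_apply, smul_eq_mul] at eA' eB'
    rw [hπi] at eA eB
    rw [hπj] at eA' eB'
    have hl0 : (l : F) ≠ 0 := l.ne_zero
    have hAi : A i ≠ 0 := fun h0 => by
      have hj0 : A j = 0 := (mul_eq_zero.mp (show (l : F) * A j = 0 by rw [← eA, h0, mul_zero])).resolve_left hl0
      rw [h.form_pair hij hA0, h0, hj0, zero_mul, add_zero] at hAA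
      exact zero_ne_one hAA
    have hBi : B i ≠ 0 := fun h0 => by
      have hj0 : B j = 0 := (mul_eq_zero.mp (show (l : F)⁻¹ * B j = 0 by rw [← eB, h0, mul_zero])).resolve_left
        (inv_ne_zero hl0)
      rw [h.form_pair hij hB0, h0, hj0, zero_mul, add_zero] at hBB
      exact zero_ne_one hBB
    have k1 : (d j : F) * d i = (l : F) * l :=
      mul_right_cancel₀ hAi (by linear_combination (d j : F) * eA + (l : F) * eA')
    have k2 : (d j : F) * d i = (l : F)⁻¹ * (l : F)⁻¹ :=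
      mul_right_cancel₀ hBi (by linear_combination (d j : F) * eB + (l : F)⁻¹ * eB')
    exact absurd (k1.symm.trans k2) (fun e => by
      rcases mul_self_eq_mul_self_iff.mp e with e' | e'
      · exact hln e'
      · exact hls (by linear_combination e'))

/-- Two images sharing a zero coordinate occur for monomial elements only. -/
lemma mono_of_shared_zero (h : QField σ q) (h2 : (2 : F) ≠ 0) (hq : 5 ≤ q) {g : GL (Fin 4) F} (hg : g ∈ M)
    {a b m : Fin 4} (hab : a ≠ b) (ha : (g : Matrix (Fin 4) (Fin 4) F) m a = 0)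
    (hb : (g : Matrix (Fin 4) (Fin 4) F) m b = 0) : IsMono g :=
  mono_of_pairImage hH hM hfix h h2 hq hg hab (pairImage_of_zero hH hM hfix h h2 (by omega) hg hab ha hb)

omit [Fintype F] hH hM hfix in
/-- The eigen coordinates of a commuting map. -/
lemma two_apply (a b : Fin 4) (α β : Fˣ) (k : Fin 4) :
    ((mono 1 (twoVal a b α β) : GL (Fin 4) F) : Matrix (Fin 4) (Fin 4) F) *ᵥ 𝕖 k =
      ((twoVal a b α β k : Fˣ) : F) • 𝕖 k := by
  rw [mono_mulVec_single, Equiv.Perm.one_apply, mul_one, ← Pi.single_smul, smul_eq_mul, mul_one]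

/-- A conjugate of such a diagonal map is diagonal for monomial elements only. -/
lemma mono_of_conj_diag (h : QField σ q) (h2 : (2 : F) ≠ 0) (hq : 5 ≤ q) {g : GL (Fin 4) F} (hg : g ∈ M)
    {a b : Fin 4} (hab : a ≠ b) {α β : Fˣ} (hαβ : α ≠ β) {d : Fin 4 → Fˣ}
    (he : g * mono 1 (twoVal a b α β) * g⁻¹ = mono 1 d) : IsMono g := by
  have hz : ∀ r k, (d r : F) ≠ twoVal a b α β k → (g : Matrix (Fin 4) (Fin 4) F) r k = 0 := fun r k hrk => by
    have h1 := congrArg (fun G : GL (Fin 4) F => ((G : Matrix (Fin 4) (Fin 4) F) *ᵥ 𝕖 k) r)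
      (mul_inv_eq_iff_eq_mul.mp he)
    simp only [mul_mulVec] at h1
    rw [two_apply, mulVec_smul, Pi.smul_apply, smul_eq_mul, col_eq,
      show ((mono 1 d : GL (Fin 4) F) : Matrix (Fin 4) (Fin 4) F) *ᵥ ((g : Matrix (Fin 4) (Fin 4) F) *ᵥ 𝕖 k) =
        (fun s => (d s : F) * ((g : Matrix (Fin 4) (Fin 4) F) *ᵥ 𝕖 k) s) from diag_mulVec d _] at h1
    dsimp only at h1
    rw [col_eq] at h1
    exact (mul_eq_zero.mp (by linear_combination -h1 :
      ((d r : F) - twoVal a b α β k) * (g : Matrix (Fin 4) (Fin 4) F) r k = 0)).resolve_left (sub_ne_zero.mpr hrk)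
  obtain ⟨m, hm⟩ : ∃ m, d m ≠ α := by
    by_contra hc
    push Not at hc
    obtain ⟨k, hka, hkb⟩ := exists_third a b
    obtain ⟨r, hr⟩ := col_ne_zero g k
    refine hr (hz r k fun e => hαβ ?_)
    rw [hc r] at e
    simp [twoVal, hka, hkb] at e
    exact Units.ext e
  exact mono_of_shared_zero hH hM hfix h h2 hq hg hab (m := m)
    (hz m a (by simpa [twoVal, Units.val_inj] using hm)) (hz m b (by simpa [twoVal, Units.val_inj] using hm))

/-- The centraliser of such a diagonal map is monomial. -/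
lemma mono_of_comm_two (h : QField σ q) (h2 : (2 : F) ≠ 0) (hq : 5 ≤ q) {g : GL (Fin 4) F} (hg : g ∈ M)
    {a b : Fin 4} (hab : a ≠ b) {α β : Fˣ} (hαβ : α ≠ β)
    (hc : g * mono 1 (twoVal a b α β) = mono 1 (twoVal a b α β) * g) : IsMono g :=
  mono_of_conj_diag hH hM hfix h h2 hq hg hab hαβ (mul_inv_eq_iff_eq_mul.mpr hc)

/-- A conjugate of a torus element is monomial for monomial elements only. -/
lemma mono_of_conj_torus (h : QField σ q) (h2 : (2 : F) ≠ 0) (hq : 5 ≤ q) {g : GL (Fin 4) F} (hg : g ∈ M)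
    {a b : Fin 4} (hab : a ≠ b) {l : Fˣ} (hls : (l : F) + (l : F)⁻¹ ≠ 0) (hln : (l : F) ≠ (l : F)⁻¹)
    (hm : IsMono (g * mono 1 (twoVal a b l l⁻¹) * g⁻¹)) : IsMono g := by
  obtain ⟨π, d, he⟩ := hm.exists_mono
  have hπ : π = 1 := by
    refine perm_one_of_quadratic (α := (l : F)) (β := (l : F)⁻¹) hls (d := d) fun y => ?_
    rw [← he]
    simp only [mul_mulVec]
    obtain ⟨z, rfl⟩ : ∃ z, (g : Matrix (Fin 4) (Fin 4) F) *ᵥ z = y := ⟨_, mulVec_inv_cancel g y⟩
    rw [inv_mulVec_cancel, inv_mulVec_cancel]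
    obtain ⟨T, hT⟩ : ∃ T : GL (Fin 4) F, T = mono 1 (twoVal a b l l⁻¹) := ⟨_, rfl⟩
    have hTd : ∀ w : Fin 4 → F, (T : Matrix (Fin 4) (Fin 4) F) *ᵥ w = fun s => (twoVal a b l l⁻¹ s : F) * w s :=
      fun w => hT ▸ diag_mulVec _ _
    have h0 : (T : Matrix (Fin 4) (Fin 4) F) *ᵥ ((T : Matrix (Fin 4) (Fin 4) F) *ᵥ z) -
        ((l : F) + (l : F)⁻¹) • ((T : Matrix (Fin 4) (Fin 4) F) *ᵥ z) + ((l : F) * (l : F)⁻¹) • z = 0 := by
      rw [hTd, hTd]
      funext s
      simp only [Pi.add_apply, Pi.sub_apply, Pi.smul_apply, smul_eq_mul, twoVal, Pi.zero_apply]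
      all_goals split_ifs
      all_goals first | ring1 | (simp only [Units.val_inv_eq_inv_val]; ring1)
    have h1 := congrArg (fun w => (g : Matrix (Fin 4) (Fin 4) F) *ᵥ w) h0
    simp only [mulVec_add, mulVec_sub, mulVec_smul, mulVec_zero] at h1
    rw [← hT]
    exact h1
  subst hπ
  exact mono_of_conj_diag hH hM hfix h h2 hq hg hab (fun e => hln (by rw [← Units.val_inv_eq_inv_val, ← e])) he

/-- A conjugate of a sign change on two coordinates is monomial for monomial elements only. -/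
lemma mono_of_conj_sign (h : QField σ q) (h2 : (2 : F) ≠ 0) (hq : 5 ≤ q) {g : GL (Fin 4) F} (hg : g ∈ M)
    {a b : Fin 4} (hab : a ≠ b) {ε : Fˣ} (hε : ε * ε = 1)
    (hm : IsMono (g * mono 1 (twoVal a b ε (-ε)) * g⁻¹)) : IsMono g := by
  have hne : ε ≠ -ε := fun e => by
    have := congrArg Units.val e
    rw [Units.val_neg] at this
    exact mul_ne_zero h2 ε.ne_zero (by linear_combination this)
  obtain ⟨π, d, he⟩ := hm.exists_mono
  by_cases hπ : π = 1
  · subst hπ; exact mono_of_conj_diag hH hM hfix h h2 hq hg hab hne he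
  have hsq : mono π d * mono π d = 1 := by
    have hT : mono 1 (twoVal a b ε (-ε)) * mono 1 (twoVal a b ε (-ε)) = (1 : GL (Fin 4) F) := by
      rw [mono_mul, ← mono_one]
      congr 1
      funext s
      by_cases hk : s = a ∨ s = b <;> simp [twoVal, hk, hε]
    rw [← he, show g * mono 1 (twoVal a b ε (-ε)) * g⁻¹ * (g * mono 1 (twoVal a b ε (-ε)) * g⁻¹) =
      g * (mono 1 (twoVal a b ε (-ε)) * mono 1 (twoVal a b ε (-ε))) * g⁻¹ by group, hT]
    group
  obtain ⟨i, hi⟩ : ∃ i, π i ≠ i := by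
    by_contra hc
    push Not at hc
    exact hπ (Equiv.ext hc)
  have hππ := fun k => (mono_sq hsq k).1
  obtain ⟨l, hl, -, hls, hln⟩ := exists_good_scalar h hq
  have hmv : ∀ s, twoVal i (π i) l l⁻¹ (π s) = twoVal i (π i) l l⁻¹ s := fun s => by
    have : (π s = i ∨ π s = π i) ↔ (s = i ∨ s = π i) := by
      rw [π.injective.eq_iff]
      exact ⟨fun e => e.symm.imp id fun e' => by rw [← e', hππ], fun e => e.symm.imp (fun e' => by rw [e', hππ]) id⟩
    unfold twoVal
    exact if_congr this rfl rfl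
  obtain ⟨x, hx⟩ : ∃ x, x = mono 1 (twoVal i (π i) l l⁻¹) := ⟨_, rfl⟩
  have hxM : x ∈ M := hx ▸ two_mem hM h hi.symm hl (by simpa using norm_inv hl) (by
    rw [Units.val_inv_eq_inv_val]; field_simp)
  have hxy : x * mono π d = mono π d * x := by
    rw [hx, mono_mul, mono_mul, one_mul, mul_one]
    congr 1
    funext s
    rw [hmv, Equiv.Perm.one_apply, mul_comm]
  have hcm : IsMono (g⁻¹ * x * g) := by
    refine mono_of_comm_two hH hM hfix h h2 hq (M.mul_mem (M.mul_mem (M.inv_mem hg) hxM) hg) hab hne ?_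
    have e1 : mono 1 (twoVal a b ε (-ε)) = g⁻¹ * mono π d * g := by rw [← he]; group
    rw [e1]
    calc g⁻¹ * x * g * (g⁻¹ * mono π d * g) = g⁻¹ * (x * mono π d) * g := by group
      _ = g⁻¹ * mono π d * g * (g⁻¹ * x * g) := by rw [hxy]; group
  have := mono_of_conj_torus hH hM hfix h h2 hq (M.inv_mem hg) hi.symm hls hln (by rwa [← hx, inv_inv])
  simpa using this.inv

omit [Fintype F] hH hM hfix in
/-- The swap with signs. -/
def swapInv (l e : Fˣ) : GL (Fin 4) F := mono (Equiv.swap 0 1) ![l, l, e, -e]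

omit [Fintype F] hH hM hfix in
lemma swapInv_apply (l e : Fˣ) (y : Fin 4 → F) :
    ((swapInv l e : GL (Fin 4) F) : Matrix (Fin 4) (Fin 4) F) *ᵥ y =
      ![(l : F) * y 1, (l : F) * y 0, (e : F) * y 2, -((e : F) * y 3)] := by
  funext s
  obtain ⟨r, rfl⟩ := (Equiv.swap (0 : Fin 4) 1).surjective s
  rw [swapInv, mono_mulVec]
  fin_cases r <;> simp [Equiv.swap_apply_def]

/-- The centraliser of the signed swap is monomial. -/
lemma mono_of_comm_swapInv (h : QField σ q) (h2 : (2 : F) ≠ 0) (hq : 5 ≤ q) {g : GL (Fin 4) F} (hg : g ∈ M)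
    (t e : Fˣ) (hc : g * swapInv t e = swapInv t e * g) : IsMono g := by
  classical
  obtain ⟨l, hl, hl4, -, -⟩ := exists_good_scalar h hq
  have hc' : ∀ y, (swapInv t e : GL (Fin 4) F).1 *ᵥ ((g : Matrix (Fin 4) (Fin 4) F) *ᵥ y) =
      (g : Matrix (Fin 4) (Fin 4) F) *ᵥ ((swapInv t e : GL (Fin 4) F).1 *ᵥ y) := fun y => by
    rw [← mul_mulVec, ← mul_mulVec, hc]
  have hgi := (hH g hg).1
  -- the step
  have step : ∀ p : Fin 4, p = 2 ∨ p = 3 → ∀ m : Fin 4, m ≠ 0 → m ≠ 1 → m ≠ p →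
      ((g : Matrix (Fin 4) (Fin 4) F) *ᵥ 𝕖 p) m = 0 →
      (((g : Matrix (Fin 4) (Fin 4) F) *ᵥ 𝕖 p) 1 = 0 ↔ ((g : Matrix (Fin 4) (Fin 4) F) *ᵥ 𝕖 p) 0 = 0) →
      IsMono g ∨ ((g : Matrix (Fin 4) (Fin 4) F) *ᵥ 𝕖 p) p = 0 := by
    intro p hp m hm0 hm1 hmp hBm hB01
    obtain ⟨B, hB⟩ : ∃ B, B = (g : Matrix (Fin 4) (Fin 4) F) *ᵥ 𝕖 p := ⟨_, rfl⟩
    rw [← hB] at hBm hB01 ⊢
    have hBB : 𝕗 B B = 1 := by rw [hB, image_form hH h hg, if_pos rfl]
    obtain ⟨μ, hμ⟩ : ∃ μ : Fˣ, μ = (l ^ 3)⁻¹ := ⟨_, rfl⟩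
    have hμn : (μ : F) * σ μ = 1 := by
      rw [hμ, Units.val_inv_eq_inv_val]
      refine norm_inv ?_
      rw [Units.val_pow_eq_pow_val, map_pow, ← mul_pow, hl, one_pow]
    have hμl : (μ : F) ≠ l := fun e' => hl4 (by
      rw [hμ, Units.val_inv_eq_inv_val, Units.val_pow_eq_pow_val] at e'
      field_simp at e'
      linear_combination -e')
    obtain ⟨D, hD⟩ : ∃ D : GL (Fin 4) F, D = mono 1 (Function.update (fun _ => l) p μ) := ⟨_, rfl⟩
    have hDM : D ∈ M := hD ▸ mono_mem hM h 1 _ (fun k => by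
      by_cases hk : k = p
      · subst hk; rwa [Function.update_self]
      · rwa [Function.update_of_ne hk]) (by
      rw [← Finset.mul_prod_erase _ _ (Finset.mem_univ p), Function.update_self,
        Finset.prod_congr rfl (fun k hk => by rw [Function.update_of_ne (Finset.ne_of_mem_erase hk)]),
        Finset.prod_const, Finset.card_erase_of_mem (Finset.mem_univ _), Finset.card_univ, Fintype.card_fin, hμ,
        Units.val_inv_eq_inv_val, Units.val_pow_eq_pow_val]
      simp)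
    have hDy : ∀ y : Fin 4 → F, (D : Matrix (Fin 4) (Fin 4) F) *ᵥ y =
        (l : F) • y + (((μ : F) - l) * y p) • 𝕖 p := fun y => by
      rw [hD, show ((mono 1 (Function.update (fun _ => l) p μ) : GL (Fin 4) F) : Matrix (Fin 4) (Fin 4) F) *ᵥ y =
        (fun s => ((Function.update (fun _ => l) p μ s : Fˣ) : F) * y s) from diag_mulVec _ _]
      funext s
      by_cases hs : s = p
      · subst hs; simp; ring
      · simp [hs]
    obtain ⟨x, hx⟩ : ∃ x, x = g * D * g⁻¹ := ⟨_, rfl⟩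
    have hxM : x ∈ M := hx ▸ M.mul_mem (M.mul_mem hg hDM) (M.inv_mem hg)
    have hxy : ∀ y, (x : Matrix (Fin 4) (Fin 4) F) *ᵥ y = (l : F) • y + (((μ : F) - l) * 𝕗 y B) • B := fun y => by
      rw [hx, mul_mulVec, mul_mulVec, hDy, mulVec_add, mulVec_smul, mulVec_smul, mulVec_inv_cancel, ← hB,
        ← h.form_single_right (((g⁻¹ : GL (Fin 4) F) : Matrix (Fin 4) (Fin 4) F) *ᵥ y) p, ← hgi,
        mulVec_inv_cancel, ← hB]
    have hxm : (x : Matrix (Fin 4) (Fin 4) F) *ᵥ 𝕖 m = Pi.single m (l : F) := by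
      rw [hxy, hermForm_single h.pow, hBm, map_zero, mul_zero, zero_smul, add_zero, ← Pi.single_smul, smul_eq_mul,
        mul_one]
    by_cases hB0 : B 0 = 0
    · refine Or.inl (hfix g hg p p (B p) ?_)
      rw [← hB]
      funext k
      by_cases hk : k = p
      · subst hk; simp
      rw [Pi.single_eq_of_ne hk]
      rcases exhaust_four p m hp hm0 hm1 hmp k hk with rfl | rfl | rfl
      exacts [hB0, hB01.mpr hB0, hBm]
    obtain ⟨k, hk⟩ := (hfix x hxM m m l hxm) 0
    have hz : ∀ s, s ≠ k → (((l : F) • 𝕖 0 + (((μ : F) - l) * σ (B 0)) • B) s) = 0 := fun s hs => by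
      rw [← hermForm_single h.pow, ← hxy, col_eq]
      exact hk s hs
    have hc0 : ((μ : F) - l) * σ (B 0) ≠ 0 := mul_ne_zero (sub_ne_zero.mpr hμl)
      ((map_ne_zero_iff _ σ.injective).mpr hB0)
    refine Or.inr ?_
    have hk1 : k = 1 := by
      by_contra hne
      have h1 := hz 1 (Ne.symm hne)
      simp only [Pi.add_apply, Pi.smul_apply, smul_eq_mul] at h1
      rw [Pi.single_eq_of_ne (by decide), mul_zero, zero_add] at h1
      exact hB0 (hB01.mp ((mul_eq_zero.mp h1).resolve_left hc0))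
    have hp0 : p ≠ 0 ∧ p ≠ 1 := by rcases hp with rfl | rfl <;> decide
    have h1 := hz p (hk1 ▸ hp0.2)
    simp only [Pi.add_apply, Pi.smul_apply, smul_eq_mul] at h1
    rw [Pi.single_eq_of_ne hp0.1, mul_zero, zero_add] at h1
    exact (mul_eq_zero.mp h1).resolve_left hc0
  have e2 : (swapInv t e : GL (Fin 4) F).1 *ᵥ 𝕖 2 = (e : F) • 𝕖 2 := by
    rw [swapInv_apply]; funext s; fin_cases s <;> simp
  have e3 : (swapInv t e : GL (Fin 4) F).1 *ᵥ 𝕖 3 = (-(e : F)) • 𝕖 3 := by
    rw [swapInv_apply]; funext s; fin_cases s <;> simp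
  obtain ⟨A, hA⟩ : ∃ A, A = (g : Matrix (Fin 4) (Fin 4) F) *ᵥ 𝕖 2 := ⟨_, rfl⟩
  obtain ⟨B, hB⟩ : ∃ B, B = (g : Matrix (Fin 4) (Fin 4) F) *ᵥ 𝕖 3 := ⟨_, rfl⟩
  have sA := hc' (𝕖 2)
  have sB := hc' (𝕖 3)
  rw [e2, mulVec_smul, ← hA, swapInv_apply] at sA
  rw [e3, mulVec_smul, ← hB, swapInv_apply] at sB
  have he0 := e.ne_zero
  have ht0 := t.ne_zero
  have hA3 : A 3 = 0 := by
    have := congrFun sA 3
    simp at this
    exact (mul_eq_zero.mp (by linear_combination -this : ((2 : F) * e) * A 3 = 0)).resolve_left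
      (mul_ne_zero h2 he0)
  have hB2 : B 2 = 0 := by
    have := congrFun sB 2
    simp at this
    exact (mul_eq_zero.mp (by linear_combination this : ((2 : F) * e) * B 2 = 0)).resolve_left
      (mul_ne_zero h2 he0)
  have hA01 : A 1 = 0 ↔ A 0 = 0 := by
    have := congrFun sA 0
    simp at this
    constructor <;> intro h0 <;> rw [h0] at this <;> simpa [he0, ht0] using this
  have hB01 : B 1 = 0 ↔ B 0 = 0 := by
    have := congrFun sB 0
    simp at this
    constructor <;> intro h0 <;> rw [h0] at this <;> simpa [he0, ht0] using this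
  rcases step 2 (Or.inl rfl) 3 (by decide) (by decide) (by decide) (hA ▸ hA3) (hA ▸ hA01) with hmo | hA2
  · exact hmo
  rcases step 3 (Or.inr rfl) 2 (by decide) (by decide) (by decide) (hB ▸ hB2) (hB ▸ hB01) with hmo | hB3
  · exact hmo
  exact mono_of_shared_zero hH hM hfix h h2 hq hg (show (2 : Fin 4) ≠ 3 by decide) (m := 2)
    (by rw [← col_eq, hA2]) (by rw [← col_eq, ← hB, hB2])

/-- An element anticommuting with the sign change or with the signed swap is monomial. -/
lemma mono_of_anticomm (h : QField σ q) (h2 : (2 : F) ≠ 0) (hq : 5 ≤ q) {g : GL (Fin 4) F} (hg : g ∈ M)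
    (hc : g * mono 1 (twoVal 0 1 (-1) (- -1)) = -(mono 1 (twoVal 0 1 (-1) (- -1)) * g) ∨
      g * swapInv 1 1 = -(swapInv 1 1 * g)) : IsMono g := by
  have key : ∀ (w s : GL (Fin 4) F), w * s = -(s * w) → g * s = -(s * g) → g * w * s = s * (g * w) := by
    intro w s h1 h3
    rw [mul_assoc, h1, mul_neg, ← mul_assoc, h3, neg_mul, neg_neg, mul_assoc]
  have hn1 : ∀ u : Fˣ, u = 1 ∨ u = -1 → (u : F) * σ u = 1 := fun u hu => by rcases hu with rfl | rfl <;> simp
  rcases hc with hc | hc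
  · obtain ⟨w, hw⟩ : ∃ w : GL (Fin 4) F, w = mono (Equiv.swap 0 2 * Equiv.swap 1 3) 1 := ⟨_, rfl⟩
    have hwM : w ∈ M := hw ▸ mono_mem hM h _ 1 (fun _ => by simp) (by
      rw [map_mul, Equiv.Perm.sign_swap (by decide), Equiv.Perm.sign_swap (by decide)]; simp)
    have h1 : w * mono 1 (twoVal 0 1 (-1) (- -1)) = -(mono 1 (twoVal 0 1 (-1) (- -1)) * w) := gl_ext_unit fun k => by
      rw [Units.val_neg, neg_mulVec, hw, mono_mul, mono_mul, mono_mulVec_single, mono_mulVec_single, mul_one,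
        mul_one, one_mul, ← Pi.single_neg]
      fin_cases k <;> simp [twoVal, Equiv.swap_apply_def]
    have := (mono_of_comm_two hH hM hfix h h2 hq (M.mul_mem hg hwM) (show (0 : Fin 4) ≠ 1 by decide)
      (fun e => by
        have e' := congrArg Units.val e
        simp at e'
        exact h2 (by linear_combination -e')) (key w _ h1 hc)).mul (hw ▸ isMono_mono _ _ : IsMono w).inv
    rwa [mul_inv_cancel_right] at this
  · obtain ⟨w, hw⟩ : ∃ w : GL (Fin 4) F, w = mono (Equiv.swap 0 1 * Equiv.swap 2 3) ![1, -1, 1, -1] := ⟨_, rfl⟩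
    have hwM : w ∈ M := hw ▸ mono_mem hM h _ _ (fun k => hn1 _ (by fin_cases k <;> simp)) (by
      rw [map_mul, Equiv.Perm.sign_swap (by decide), Equiv.Perm.sign_swap (by decide), Fin.prod_univ_four]; simp)
    have h1 : w * swapInv 1 1 = -(swapInv 1 1 * w) := gl_ext_unit fun k => by
      rw [Units.val_neg, neg_mulVec, hw, swapInv, mono_mul, mono_mul, mono_mulVec_single, mono_mulVec_single,
        mul_one, mul_one, ← Pi.single_neg]
      fin_cases k <;> simp [Equiv.swap_apply_def]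
    have := (mono_of_comm_swapInv hH hM hfix h h2 hq (M.mul_mem hg hwM) 1 1 (key w _ h1 hc)).mul
      (hw ▸ isMono_mono _ _ : IsMono w).inv
    rwa [mul_inv_cancel_right] at this

/-- No element lies outside when no element outside fixes a coordinate line. -/
theorem no_spread_four (h : QField σ q) (h2 : (2 : F) ≠ 0) (hq : 5 ≤ q) {g : GL (Fin 4) F} (hg : g ∈ M)
    (hgm : ¬ IsMono g) : False := by
  classical
  have h01 : (0 : Fin 4) ≠ 1 := by decide
  obtain ⟨τ, hτ⟩ : ∃ τ : GL (Fin 4) F, τ = mono 1 (twoVal 0 1 (-1) (- -1)) := ⟨_, rfl⟩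
  obtain ⟨s, hs⟩ : ∃ s : GL (Fin 4) F, s = swapInv 1 1 := ⟨_, rfl⟩
  obtain ⟨u, hu⟩ : ∃ u, u = g * s * g⁻¹ := ⟨_, rfl⟩
  have hτM : τ ∈ M := hτ ▸ two_mem hM h h01 (by simp) (by simp) (by simp)
  have hsM : s ∈ M := hs ▸ mono_mem hM h _ _ (fun k => by fin_cases k <;> simp) (by
    rw [Equiv.Perm.sign_swap h01, Fin.prod_univ_four]; simp)
  have huM : u ∈ M := hu ▸ M.mul_mem (M.mul_mem hg hsM) (M.inv_mem hg)
  have hτ2 : τ * τ = 1 := by
    rw [hτ, mono_mul, ← mono_one]
    congr 1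
    funext k
    by_cases hk : k = 0 ∨ k = 1 <;> simp [twoVal, hk]
  have hs2 : s * s = 1 := by
    rw [hs, swapInv, mono_mul, ← mono_one]
    congr 1
    · exact Equiv.swap_mul_self _ _
    · funext k; fin_cases k <;> simp [Equiv.swap_apply_def]
  have hu2 : u * u = 1 := by
    rw [hu, show g * s * g⁻¹ * (g * s * g⁻¹) = g * (s * s) * g⁻¹ by group, hs2]; group
  have hnf : ∀ c ∈ M, ∀ π d, c * τ * c⁻¹ = mono π d → π = 1 := by
    intro c hc π d he
    obtain ⟨ρ, f, rfl⟩ := (mono_of_conj_sign hH hM hfix h h2 hq hc h01 (ε := -1) (by simp)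
      (by rw [← hτ, he]; exact isMono_mono _ _)).exists_mono
    rw [hτ, mono_inv, mono_mul, mono_mul] at he
    have := mono_inj he
    rw [mul_one, mul_inv_cancel] at this
    exact this.symm
  have hswap : Equiv.swap (0 : Fin 4) 1 ≠ 1 := by decide
  by_cases hodd : Odd (orderOf (τ * u))
  · obtain ⟨p, hp⟩ := CfsgLib.RankOneSetup.conj_of_odd_orderOf hτ2 hu2 hodd
    refine hswap (hnf (g⁻¹ * (τ * u) ^ p) (M.mul_mem (M.inv_mem hg) (M.pow_mem (M.mul_mem hτM huM) _))
      _ ![1, 1, 1, -1] ?_)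
    rw [show g⁻¹ * (τ * u) ^ p * τ * (g⁻¹ * (τ * u) ^ p)⁻¹ = g⁻¹ * ((τ * u) ^ p * τ * ((τ * u) ^ p)⁻¹) * g by group,
      hp, hu, show g⁻¹ * (g * s * g⁻¹) * g = s by group, hs, swapInv]
  rw [Nat.not_odd_iff_even] at hodd
  obtain ⟨k', hk'⟩ := hodd
  have hpos := orderOf_pos (τ * u)
  obtain ⟨z, hz⟩ : ∃ z, z = (τ * u) ^ k' := ⟨_, rfl⟩
  have hz1 : z ≠ 1 := hz ▸ pow_ne_one_of_lt_orderOf (by omega) (by omega)
  have hz2 : z * z = 1 := by rw [hz, ← pow_add, ← hk', pow_orderOf_eq_one]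
  have hzM : z ∈ M := hz ▸ M.pow_mem (M.mul_mem hτM huM) _
  have hzτ : τ * z = z * τ := by
    have h1 := conj_pow_involutions hτ2 hu2 k'
    rw [two_mul, ← hk', pow_orderOf_eq_one, one_mul, ← hz] at h1
    exact (mul_inv_eq_iff_eq_mul.mp h1).symm
  have hzu : z * u = u * z := by
    have h1 : Commute z (τ * u) := hz ▸ (Commute.pow_self _ _)
    have h3 : Commute z (τ * (τ * u)) := (show Commute z τ from hzτ.symm).mul_right h1
    rw [← mul_assoc, hτ2, one_mul] at h3
    exact h3.eq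
  have hzmono : IsMono z :=
    mono_of_comm_two hH hM hfix h h2 hq hzM h01 (α := -1) (β := - -1) (fun e => by
      have e' := congrArg Units.val e
      simp at e'
      exact h2 (by linear_combination -e')) (hτ ▸ hzτ.symm)
  obtain ⟨z', hz'⟩ : ∃ z', z' = g⁻¹ * z * g := ⟨_, rfl⟩
  have hz'M : z' ∈ M := hz' ▸ M.mul_mem (M.mul_mem (M.inv_mem hg) hzM) hg
  have hgz : g * z' * g⁻¹ = z := by rw [hz']; group
  have hz's : z' * s = s * z' := by
    have es : s = g⁻¹ * u * g := by rw [hu]; group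
    rw [es, hz']
    calc g⁻¹ * z * g * (g⁻¹ * u * g) = g⁻¹ * (z * u) * g := by group
      _ = g⁻¹ * u * g * (g⁻¹ * z * g) := by rw [hzu]; group
  obtain ⟨π, e, hze⟩ := (mono_of_comm_swapInv hH hM hfix h h2 hq hz'M 1 1 (hs ▸ hz's)).exists_mono
  have hz'2 : mono π e * mono π e = 1 := by
    rw [← hze, hz', show g⁻¹ * z * g * (g⁻¹ * z * g) = g⁻¹ * (z * z) * g by group, hz2]; group
  have hdet : ((Equiv.Perm.sign π : ℤ) : F) * ∏ j, (e j : F) = 1 := by
    rw [← det_mono, ← hze]; exact (hH z' hz'M).2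
  have hcomm : mono (π * Equiv.swap 0 1) (fun j => e (Equiv.swap 0 1 j) * ![1, 1, 1, -1] j) =
      mono (Equiv.swap 0 1 * π) (fun j => ![1, 1, 1, -1] (π j) * e j) := by
    rw [← mono_mul, ← mono_mul, ← hze]
    rw [hs, swapInv] at hz's
    exact hz's
  have hval := fun j => mono_values hcomm j
  have hperm := fun j => DFunLike.congr_fun (mono_inj hcomm) j
  simp only [Equiv.Perm.mul_apply] at hperm
  have hπ2 : π 2 = 2 := by
    have h1 := hperm 2
    rw [Equiv.swap_apply_of_ne_of_ne (show (2 : Fin 4) ≠ 0 by decide) (by decide)] at h1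
    have h3 := hval 2
    generalize π 2 = r at h1 h3
    revert h1 h3
    fin_cases r <;> simp [Equiv.swap_apply_def]
    intro h3
    exact h2 ((mul_eq_zero.mp (by linear_combination h3 : (2 : F) * e 2 = 0)).resolve_right (Units.ne_zero _))
  have hπ3 : π 3 = 3 := by
    have h1 := hperm 3
    rw [Equiv.swap_apply_of_ne_of_ne (show (3 : Fin 4) ≠ 0 by decide) (by decide)] at h1
    have h3 : π 3 ≠ π 2 := fun e' => absurd (π.injective e') (by decide)
    rw [hπ2] at h3
    generalize π 3 = r at h1 h3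
    revert h1 h3 r
    decide
  have hπ := perm_cases π hπ2 hπ3
  have hsq := fun j => (mono_sq hz'2 j).2
  have hv0 := hval 0
  have ha := hsq 0
  have hb := hsq 2
  have hc := hsq 3
  rw [hπ2] at hb
  rw [hπ3] at hc
  rw [Fin.prod_univ_four] at hdet
  rcases hπ with rfl | rfl
  · simp at hv0 ha hdet
    have he0 : e 0 * e 0 = 1 := Units.ext (by simpa using ha)
    have he1 : e 1 = e 0 := Units.ext hv0
    have he3 : (e 3 : F) = e 2 := by
      rw [he1] at hdet
      linear_combination (e 2 : F) * hdet - (e 3 : F) * hb - (e 2 * (e 2 : F) * e 3) * ha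
    by_cases hne : e 2 = e 0
    · have hall : ∀ j, e j = e 0 := fun j => by
        fin_cases j
        exacts [rfl, he1, hne, (Units.ext he3).trans hne]
      have hzneg : z = -1 := by
        rcases mul_self_eq_one_iff.mp ha with hone | hone
        · refine absurd ?_ hz1
          rw [← hgz, hze, show mono 1 e = (1 : GL (Fin 4) F) from gl_ext_unit fun j => by
            rw [mono_mulVec_single, Equiv.Perm.one_apply, mul_one, hall, hone, Units.val_one, one_mulVec]]
          group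
        · rw [← hgz, hze, show mono 1 e = (-1 : GL (Fin 4) F) from gl_ext_unit fun j => by
            rw [mono_mulVec_single, Equiv.Perm.one_apply, mul_one, hall, hone, Units.val_neg, neg_mulVec,
              Units.val_one, one_mulVec, Pi.single_neg]]
          simp
      obtain ⟨m, hm | hm⟩ := Nat.even_or_odd' k'
      · obtain ⟨w, hw⟩ : ∃ w, w = (τ * u) ^ m := ⟨_, rfl⟩
        have hwM : w ∈ M := hw ▸ M.pow_mem (M.mul_mem hτM huM) _
        have hww : w * w = -1 := by rw [hw, ← pow_add, ← two_mul, ← hm, ← hz, hzneg]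
        have hwi : w⁻¹ = -w := inv_eq_of_mul_eq_one_right (by rw [mul_neg, hww, neg_neg])
        have hconj : ∀ v : GL (Fin 4) F, v * v = 1 → v * (τ * u) * v⁻¹ = (τ * u)⁻¹ → w * v = -(v * w) := by
          intro v hv hv'
          have h1 : v * w * v⁻¹ = w⁻¹ := by rw [hw, ← conj_pow, hv', inv_pow]
          rw [hwi, mul_inv_eq_iff_eq_mul, neg_mul] at h1
          rw [h1, neg_neg]
        have hτi : τ⁻¹ = τ := inv_eq_of_mul_eq_one_right hτ2
        have hui : u⁻¹ = u := inv_eq_of_mul_eq_one_right hu2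
        have hwτ := hconj τ hτ2 (by rw [_root_.mul_inv_rev, hτi, hui, ← mul_assoc, hτ2, one_mul])
        have hwu := hconj u hu2 (by rw [_root_.mul_inv_rev, hτi, hui, mul_assoc, mul_assoc, hu2, mul_one])
        obtain ⟨ρ, f, hf⟩ := (mono_of_anticomm hH hM hfix h h2 hq hwM (Or.inl (hτ ▸ hwτ))).exists_mono
        rcases Nat.even_or_odd' m with ⟨p, hp | hp⟩
        · have h1 := conj_pow_involutions hτ2 hu2 p
          rw [← hp, ← hw] at h1
          have hρ : ρ = 1 := hnf _ (M.pow_mem (M.mul_mem hτM huM) p) ρ _ (h1.trans (by rw [hf, hτ, mono_mul, mul_one]))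
          have h3 := congrArg (fun G : GL (Fin 4) F => ((G : Matrix (Fin 4) (Fin 4) F) *ᵥ 𝕖 0) 0) hwτ
          simp only [Units.val_neg, neg_mulVec, hf, hρ, hτ, mono_mul, mono_mulVec_single] at h3
          simp [twoVal] at h3
          exact h2 ((mul_eq_zero.mp (by linear_combination -h3 : (2 : F) * f 0 = 0)).resolve_right (Units.ne_zero _))
        · obtain ⟨w', hw'⟩ : ∃ w', w' = g⁻¹ * w * g := ⟨_, rfl⟩
          have hw'M : w' ∈ M := hw' ▸ M.mul_mem (M.mul_mem (M.inv_mem hg) hwM) hg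
          have hw's : w' * s = -(s * w') := by
            have es : s = g⁻¹ * u * g := by rw [hu]; group
            rw [es, hw']
            calc g⁻¹ * w * g * (g⁻¹ * u * g) = g⁻¹ * (w * u) * g := by group
              _ = -(g⁻¹ * (u * w) * g) := by rw [hwu, mul_neg, neg_mul]
              _ = -(g⁻¹ * u * g * (g⁻¹ * w * g)) := by group
          obtain ⟨ρ', f', hf'⟩ := (mono_of_anticomm hH hM hfix h h2 hq hw'M (Or.inr (hs ▸ hw's))).exists_mono
          have h1 := conj_pow_involutions hτ2 hu2 p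
          rw [show (τ * u) ^ (2 * p) * τ = w * u by
            rw [hw, hp, pow_succ, mul_assoc, mul_assoc τ, hu2, mul_one]] at h1
          have h4 : g⁻¹ * (τ * u) ^ p * τ * (g⁻¹ * (τ * u) ^ p)⁻¹ = w' * s := by
            rw [show g⁻¹ * (τ * u) ^ p * τ * (g⁻¹ * (τ * u) ^ p)⁻¹ =
              g⁻¹ * ((τ * u) ^ p * τ * ((τ * u) ^ p)⁻¹) * g by group, h1, hw', hu]
            group
          have h5 := hnf _ (M.mul_mem (M.inv_mem hg) (M.pow_mem (M.mul_mem hτM huM) p)) _ _
            (h4.trans (by rw [hf', hs, swapInv, mono_mul]))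
          have hρ : ρ' = Equiv.swap 0 1 := by
            rw [← mul_one ρ', ← Equiv.swap_mul_self (0 : Fin 4) 1, ← mul_assoc, h5, one_mul]
          have h3 := congrArg (fun G : GL (Fin 4) F => ((G : Matrix (Fin 4) (Fin 4) F) *ᵥ 𝕖 2) 2) hw's
          simp only [Units.val_neg, neg_mulVec, hf', hρ, hs, swapInv, mono_mul, mono_mulVec_single] at h3
          simp [Equiv.swap_apply_def] at h3
          exact h2 ((mul_eq_zero.mp (by linear_combination h3 : (2 : F) * f' 2 = 0)).resolve_right (Units.ne_zero _))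
      · -- odd half order
        have h1 := conj_pow_involutions hτ2 hu2 m
        rw [show (τ * u) ^ (2 * m) * τ = -u by
          rw [show (τ * u) ^ (2 * m) * τ = z * u by
            rw [hz, hm, pow_succ, mul_assoc, mul_assoc τ, hu2, mul_one], hzneg, neg_one_mul]] at h1
        refine hswap (hnf (g⁻¹ * (τ * u) ^ m) (M.mul_mem (M.inv_mem hg) (M.pow_mem (M.mul_mem hτM huM) _))
          _ (fun j => - ![1, 1, 1, -1] j) ?_)
        rw [show g⁻¹ * (τ * u) ^ m * τ * (g⁻¹ * (τ * u) ^ m)⁻¹ =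
          g⁻¹ * ((τ * u) ^ m * τ * ((τ * u) ^ m)⁻¹) * g by group, h1, hu, mul_neg, neg_mul,
          show g⁻¹ * (g * s * g⁻¹) * g = s by group, hs, swapInv]
        exact gl_ext_unit fun j => by
          rw [Units.val_neg, neg_mulVec, mono_mulVec_single, mono_mulVec_single, mul_one, mul_one, Units.val_neg,
            Pi.single_neg]
    · have he2 : e 2 = -e 0 := by
        refine Units.ext ?_
        rw [Units.val_neg]
        exact (mul_self_eq_mul_self_iff.mp (hb.trans ha.symm)).resolve_left fun e' => hne (Units.ext e')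
      refine hgm (mono_of_conj_sign hH hM hfix h h2 hq hg h01 he0 ?_)
      rw [show mono 1 (twoVal 0 1 (e 0) (-e 0)) = mono 1 e by
        congr 1; funext j; fin_cases j <;> simp [twoVal, he1, he2, Units.ext he3]]
      rw [← hze, hgz]; exact hzmono
  · simp at hv0 ha hdet
    have he1 : e 1 = e 0 := Units.ext hv0
    have he3 : (e 3 : F) = -e 2 := by
      rw [he1] at hdet ha
      linear_combination (-(e 2 : F)) * hdet - (e 3 : F) * hb - (e 2 * (e 2 : F) * e 3) * ha
    have hz'e : z' = swapInv (e 0) (e 2) := by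
      rw [hze, swapInv]
      congr 1
      funext j
      fin_cases j
      · rfl
      · exact he1
      · rfl
      · exact Units.ext (by simpa using he3)
    have hm : IsMono (g⁻¹ * τ * g) := by
      refine mono_of_comm_swapInv hH hM hfix h h2 hq (M.mul_mem (M.mul_mem (M.inv_mem hg) hτM) hg) (e 0) (e 2) ?_
      rw [← hz'e, hz']
      calc g⁻¹ * τ * g * (g⁻¹ * z * g) = g⁻¹ * (τ * z) * g := by group
        _ = g⁻¹ * z * g * (g⁻¹ * τ * g) := by rw [hzτ]; group
    refine not_isMono_inv hgm (mono_of_conj_sign hH hM hfix h h2 hq (M.inv_mem hg) h01 (ε := -1) (by simp) ?_)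
    rwa [← hτ, inv_inv]

end CfsgLib.SUFour
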