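/-
Monomial subgroups of `SU_4(q)` are maximal for `q ≠ 3`.
-/
import Cfsg.Agent.S5655
import Cfsg.Agent.Lib.SUFour.Basic
import Cfsg.Agent.Lib.SUFour.MonoEven
import Cfsg.Agent.Lib.SUFour.MonoOdd

set_option autoImplicit false

namespace CfsgLib.SUFour

open Matrix CfsgLib.Transvec CfsgLib.Transvec.Unitary CfsgLib.Classical22.Monomial CfsgLib.Classical22.DecompBlocks
open CfsgLib.Classical22.DecompCoords CfsgLib.Classical22.UDecomp Cfsg.Agent.S5655
open scoped MatrixGroups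

/-- An element outside the monomial group gives every centre. -/
theorem all_full_of_not_mono {F : Type*} [Field F] [Fintype F] {n q : ℕ} {σ : F ≃+* F} (h : QField σ q) (hn : n = 4)
    (hq3 : q ≠ 3) {M : Subgroup (GL (Fin n) F)}
    (hH : ∀ g ∈ M, Iso (Cfsg.hermForm n F q) g ∧ (g : Matrix (Fin n) (Fin n) F).det = 1)
    (hM : ∀ g : GL (Fin n) F, Iso (Cfsg.hermForm n F q) g → (g : Matrix (Fin n) (Fin n) F).det = 1 →
      IsMono g → g ∈ M)
    {g : GL (Fin n) F} (hg : g ∈ M) (hgm : ¬ IsMono g) :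
    ∀ x, Cfsg.hermForm n F q x x = 0 → UFull σ (Cfsg.hermForm n F q) M x := by
  subst hn
  by_cases hq : q = 2
  · exact SUFour.all_full_two hH hM h hq rfl hg hgm
  have hq4 : 4 ≤ q := by have := h.two_le; omega
  obtain ⟨u, k, hu, hu0, huk⟩ : ∃ u k, UFull σ (Cfsg.hermForm 4 F q) M u ∧ u ≠ 0 ∧ u k = 0 := by
    by_cases h2 : (2 : F) = 0
    · exact SUFour.exists_full_even hH hM h h2 hq4 le_rfl hg hgm
    have hq5 : 5 ≤ q := by
      by_contra h5
      have h4 := h.natCast_q'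
      rw [show q = 4 by omega] at h4
      push_cast at h4
      exact h2 ((mul_eq_zero.mp (by linear_combination h4 : (2 : F) * 2 = 0)).elim id id)
    by_cases hex : ∃ c ∈ M, ¬ IsMono c ∧ ∃ a k e, (c : Matrix (Fin 4) (Fin 4) F) *ᵥ Pi.single a 1 = Pi.single k e
    · obtain ⟨c, hc, hcm, a, k, e, hak⟩ := hex
      obtain ⟨u, hu⟩ := exists_full_fix h h2 (by omega) hH hM hc hcm hak
      exact ⟨u, k, hu⟩
    · push Not at hex
      exact (no_spread_four hH hM (fun c hc a k e he => by_contra fun hcm => hex c hc hcm a k e he) h h2 hq5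
        hg hgm).elim
  exact one_all_full hM h (by omega) (by omega) hu hu0 huk

/-- The same in adapted coordinates. -/
theorem over_full {F : Type*} [Field F] [Fintype F] {n q t k : ℕ} {σ : F ≃+* F} (h : QField σ q) (hn : n = 4)
    (hk : k = 1) (hq3 : q ≠ 3) (e : Fin t × Fin k ≃ Fin n) {N : Subgroup (GL (Fin n) F)}
    (hH : ∀ g ∈ N, Iso (Cfsg.hermForm n F q) g ∧ (g : Matrix (Fin n) (Fin n) F).det = 1)
    (hN : ∀ g : GL (Fin n) F, Iso (Cfsg.hermForm n F q) g → (g : Matrix (Fin n) (Fin n) F).det = 1 →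
      (∃ π : Equiv.Perm (Fin t), ∀ i v, InBlk (fun l => (e.symm l).1) i v →
        InBlk (fun l => (e.symm l).1) (π i) ((g : Matrix (Fin n) (Fin n) F) *ᵥ v)) → g ∈ N)
    {g : GL (Fin n) F} (hg : g ∈ N)
    (hgm : ¬ ∃ π : Equiv.Perm (Fin t), ∀ i v, InBlk (fun l => (e.symm l).1) i v →
        InBlk (fun l => (e.symm l).1) (π i) ((g : Matrix (Fin n) (Fin n) F) *ᵥ v)) :
    ∀ x, Cfsg.hermForm n F q x x = 0 → UFull σ (Cfsg.hermForm n F q) N x := by
  subst hk
  obtain ⟨f, hf⟩ : ∃ f : Fin n ≃ Fin t, ∀ l, f l = (e.symm l).1 :=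
    ⟨e.symm.trans (Equiv.prodUnique _ _), fun _ => rfl⟩
  have key : ∀ y : GL (Fin n) F, IsMono y → ∃ π : Equiv.Perm (Fin t), ∀ i v,
      InBlk (fun l => (e.symm l).1) i v →
        InBlk (fun l => (e.symm l).1) (π i) ((y : Matrix (Fin n) (Fin n) F) *ᵥ v) := by
    intro y hy
    obtain ⟨p, d, rfl⟩ := hy.exists_mono
    refine ⟨f.symm.trans (p.trans f), fun i v hv l hl => ?_⟩
    obtain ⟨l, rfl⟩ := p.surjective l
    rw [mono_mulVec, hv l ?_, mul_zero]
    intro hli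
    apply hl
    dsimp only at hli ⊢
    rw [← hf] at hli ⊢
    rw [Equiv.trans_apply, Equiv.trans_apply, ← hli, Equiv.symm_apply_apply]
  exact SUFour.all_full_of_not_mono h hn hq3 hH (fun y hy hy' hym => hN y hy hy' (key y hym)) hg
    fun hm => hgm (key g hm)

/-- For `q ≠ 3` the stabiliser of an orthonormal decomposition is maximal in dimension four. -/
theorem isMaximalIn_mono {F : Type*} [Field F] [Fintype F] (n q : ℕ) (hF : Fintype.card F = q ^ 2) {t : ℕ} (k : ℕ)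
    (hn : n = 4) (hk : k = 1) (hq3 : q ≠ 3) (D : Fin t → Submodule F (Fin n → F))
    (hD : Cfsg.Geo.IsNondegenerateMDecomposition (Cfsg.hermForm n F q) k D) :
    Cfsg.Geo.IsMaximalIn (Cfsg.GU n F q ⊓ Cfsg.Geo.specialLinear (Fin n) F)
      (Cfsg.Geo.decompositionStabilizer D ⊓ (Cfsg.GU n F q ⊓ Cfsg.Geo.specialLinear (Fin n) F)) := by
  classical
  have hn4 : 4 ≤ n := hn.ge
  obtain ⟨σ, hσ, hinv, hne⟩ := exists_frob hF
  have h : QField σ q := ⟨by rw [Nat.card_eq_fintype_card, hF], hσ, hinv, hne⟩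
  have hf := h.unitary (n := n)
  obtain ⟨e, P, hPi, hP⟩ := unitary_coords h hF hD
  obtain ⟨SU, hSU⟩ : ∃ SU, SU = Cfsg.GU n F q ⊓ Cfsg.Geo.specialLinear (Fin n) F := ⟨_, rfl⟩
  have hmem : ∀ g : GL (Fin n) F, g ∈ SU ↔ Iso (Cfsg.hermForm n F q) g ∧ (g : Matrix (Fin n) (Fin n) F).det = 1 := by
    intro g; rw [hSU, Subgroup.mem_inf, mem_specialLinear_iff]; exact Iff.rfl
  have hPinv : Iso (Cfsg.hermForm n F q) P⁻¹ := fun x y => by
    rw [← hPi, mulVec_inv_cancel, mulVec_inv_cancel]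
  have hdet : ∀ g : GL (Fin n) F, ((P * g * P⁻¹ : GL (Fin n) F) : Matrix (Fin n) (Fin n) F).det =
      (g : Matrix (Fin n) (Fin n) F).det := fun g => by
    rw [Units.val_mul, Units.val_mul, Matrix.det_units_conj]
  obtain ⟨c, hc0, hc⟩ := exists_skew h.ne h.inv
  rw [← hSU]
  have hnt : t * k = n := by simpa using Fintype.card_congr e
  refine ⟨lt_of_le_of_ne inf_le_right fun heq => ?_, fun M hHM hMS => ?_⟩
  · obtain ⟨d, hd⟩ := exists_norm_eq h.ne h.inv (b := (-1 : F)) (by rw [map_neg, map_one])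
    have hd0 : d ≠ 0 := left_ne_zero_of_mul (b := σ d) (by rw [hd]; exact neg_ne_zero.mpr one_ne_zero)
    obtain ⟨j₀, j₁, hj⟩ : ∃ j₀ j₁ : Fin t, j₀ ≠ j₁ :=
      ⟨⟨0, by have := hD.decomp.two_le; omega⟩, ⟨1, by have := hD.decomp.two_le; omega⟩, by simp⟩
    obtain ⟨b, hb⟩ : ∃ b, b = e (j₀, ⟨0, hD.decomp.pos⟩) := ⟨_, rfl⟩
    obtain ⟨c', hc'⟩ : ∃ c', c' = e (j₁, ⟨0, hD.decomp.pos⟩) := ⟨_, rfl⟩
    have hbc : b ≠ c' := fun e0 => hj (by rw [hb, hc'] at e0; exact congrArg Prod.fst (e.injective e0))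
    obtain ⟨a, g, hab, hac, hgb, hgc, hag⟩ : ∃ a g : Fin n, a ≠ b ∧ a ≠ c' ∧ g ≠ b ∧ g ≠ c' ∧ a ≠ g := by
      have : 2 ≤ ((Finset.univ.erase b).erase c').card := by
        rw [Finset.card_erase_of_mem (Finset.mem_erase.mpr ⟨hbc.symm, Finset.mem_univ _⟩),
          Finset.card_erase_of_mem (Finset.mem_univ _), Finset.card_univ, Fintype.card_fin]
        omega
      obtain ⟨a, ha, g, hg, hag⟩ := Finset.one_lt_card.mp this
      simp only [Finset.mem_erase] at ha hg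
      exact ⟨a, g, ha.2.1, ha.1, hg.2.1, hg.1, hag⟩
    obtain ⟨v, hv⟩ : ∃ v : Fin n → F, v = Pi.single a 1 + Pi.single b d + (Pi.single c' 1 + Pi.single g d) :=
      ⟨_, rfl⟩
    have hvv : Cfsg.hermForm n F q v v = 0 := by
      have hsd : ∀ i : Fin n, (Pi.single i d : Fin n → F) = d • Pi.single i 1 := fun i => by
        rw [← Pi.single_smul, smul_eq_mul, mul_one]
      rw [hv, hsd, hsd]
      simp only [hf.add_left, Unitary.add_right' hf, hf.smul_left, Unitary.smul_right' hf, h.form_unit,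
        h.form_ne hab, h.form_ne hab.symm, h.form_ne hac, h.form_ne hac.symm, h.form_ne hag, h.form_ne hag.symm,
        h.form_ne hbc, h.form_ne hbc.symm, h.form_ne hgb, h.form_ne hgb.symm, h.form_ne hgc, h.form_ne hgc.symm]
      linear_combination 2 * hd
    have hT := (hmem _).mpr ⟨(hPi.mul (iso_uT hf hvv hc)).mul hPinv,
      (hdet _).trans ((mem_specialLinear_iff _).mp (transv_mem_specialLinear _ _))⟩
    rw [← heq] at hT
    obtain ⟨s, hs⟩ := (mem_stabilizer_iff hD.decomp hP _).1 hT.1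
    rw [show P⁻¹ * (P * uT (Cfsg.hermForm n F q) v c * P⁻¹) * P = uT (Cfsg.hermForm n F q) v c by group] at hs
    have hva : v a = 1 := by simp [hv, hab, hac, hag]
    have hvb : v b = d := by simp [hv, hab.symm, hbc, hgb.symm]
    have hvc : v c' = 1 := by simp [hv, hac.symm, hbc.symm, hgc.symm]
    have hza := hs _ (Pi.single a 1) (inBlk_single (blk := fun l => (e.symm l).1) rfl 1)
    rw [uT_mulVec hf hvv, hermForm_single h.pow, hva, map_one, mul_one] at hza
    have h1 : (e.symm b).1 = s (e.symm a).1 := by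
      by_contra hne'
      have := hza b hne'
      simp [hvb, hab.symm, hc0, hd0] at this
    have h2 : (e.symm c').1 = s (e.symm a).1 := by
      by_contra hne'
      have := hza c' hne'
      simp [hvc, hac.symm, hc0] at this
    rw [← h2, hb, hc', Equiv.symm_apply_apply, Equiv.symm_apply_apply] at h1
    exact hj h1
  by_cases hMH : M ≤ Cfsg.Geo.decompositionStabilizer D ⊓ SU
  · exact Or.inl (le_antisymm hMH hHM)
  right
  obtain ⟨y, hyM, hy⟩ := SetLike.not_le_iff_exists.mp hMH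
  have hyD : y ∉ Cfsg.Geo.decompositionStabilizer D := fun e0 => hy ⟨e0, hMS hyM⟩
  rw [mem_stabilizer_iff hD.decomp hP] at hyD
  have hN : ∀ x, Cfsg.hermForm n F q x x = 0 →
      UFull σ (Cfsg.hermForm n F q) (M.comap (MulAut.conj P).toMonoidHom) x := by
    refine over_full h hn hk hq3 e (fun g hg => ?_) (fun g hgi hgd hgb => ?_) ?_ hyD
    · have h1 := (hmem _).mp (hMS hg)
      simp only [MulEquiv.coe_toMonoidHom, MulAut.conj_apply] at h1
      refine ⟨?_, (hdet g).symm.trans h1.2⟩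
      have h2 := (hPinv.mul h1.1).mul hPi
      rwa [show P⁻¹ * (P * g * P⁻¹) * P = g by group] at h2
    · show P * g * P⁻¹ ∈ M
      refine hHM ⟨(mem_stabilizer_iff hD.decomp hP _).mpr ?_, (hmem _).mpr ⟨(hPi.mul hgi).mul hPinv, (hdet g).trans hgd⟩⟩
      rwa [show P⁻¹ * (P * g * P⁻¹) * P = g by group]
    · show P * (P⁻¹ * y * P) * P⁻¹ ∈ M
      rwa [show P * (P⁻¹ * y * P) * P⁻¹ = y by group]
  refine le_antisymm hMS ?_
  rw [hSU]
  refine su_le_of_transv hF hσ hinv hne hn4 fun v hv c' hc' => ?_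
  obtain ⟨w, hw⟩ : ∃ w, w = ((P⁻¹ : GL (Fin n) F) : Matrix (Fin n) (Fin n) F) *ᵥ v := ⟨_, rfl⟩
  have hww : Cfsg.hermForm n F q w w = 0 := by rw [hw, hPinv, hv]
  have h3 : P * uT (Cfsg.hermForm n F q) w c' * P⁻¹ ∈ M := (hN w hww).2 c' hc'
  rwa [conj_uT hf hPi hww, hw, mulVec_inv_cancel] at h3

end CfsgLib.SUFour
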