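/-
The special unitary group is transitive on orthonormal families that do not span.
-/
import Cfsg.Agent.Lib.Transvec.UnitarySub
import Cfsg.Agent.Lib.Transvec.HermForm
import Cfsg.Agent.Lib.Classical.HermSplit

set_option autoImplicit false
set_option linter.all false

namespace CfsgLib.SUFour

open Matrix Cfsg CfsgLib.Transvec CfsgLib.Transvec.Unitary
open scoped MatrixGroups

variable {F : Type*} [Field F] [Fintype F] {n q : ℕ} {σ : F ≃+* F}

/-- An isometry carrying one orthonormal family to another. -/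
theorem exists_iso_map (hF : Fintype.card F = q ^ 2) {κ : Type*} [Fintype κ] [DecidableEq κ]
    {b c : κ → Fin n → F} (hb : ∀ i j, hermForm n F q (b i) (b j) = if i = j then 1 else 0)
    (hc : ∀ i j, hermForm n F q (c i) (c j) = if i = j then 1 else 0) :
    ∃ g : GL (Fin n) F, Iso (hermForm n F q) g ∧ ∀ i, (g : Matrix (Fin n) (Fin n) F) *ᵥ b i = c i := by
  obtain ⟨g, hg⟩ := CfsgLib.Classical.exists_gu_map hF hb hc
  exact ⟨(g : GL (Fin n) F), fun u v => g.2 u v, hg⟩

/-- A unit vector orthogonal to a family that is too small to span. -/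
theorem exists_unit_perp (hF : Fintype.card F = q ^ 2) {κ : Type*} [Fintype κ] [DecidableEq κ] {c : κ → Fin n → F}
    (hc : ∀ i j, hermForm n F q (c i) (c j) = if i = j then 1 else 0) (hκ : Fintype.card κ < n) :
    ∃ x, hermForm n F q x x = 1 ∧ ∀ i, hermForm n F q (c i) x = 0 := by
  classical
  obtain ⟨σ, hσ, hinv, hne⟩ := exists_frob hF
  have hf := isUnitaryForm_hermForm (n := n) hσ hinv hne
  obtain ⟨W, hW⟩ : ∃ W, W = Submodule.span F (Set.range c) := ⟨_, rfl⟩
  have hnd : ∀ w ∈ W, w ≠ 0 → ∃ x ∈ W, hermForm n F q x w ≠ 0 := by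
    intro w hw hw0
    by_contra hcon
    simp only [not_exists, not_and, not_not] at hcon
    refine hw0 ?_
    rw [hW] at hw
    obtain ⟨a, rfl⟩ := (Submodule.mem_span_range_iff_exists_fun F).mp hw
    refine Finset.sum_eq_zero fun i _ => ?_
    have h1 := (eq_zero_comm hf).mp (hcon (c i) (hW ▸ Submodule.subset_span ⟨i, rfl⟩))
    rw [CfsgLib.Classical.hermForm_sum_left, Finset.sum_eq_single i (fun l _ hl => by rw [hc, if_neg hl, mul_zero])
      (fun h => absurd (Finset.mem_univ i) h), hc, if_pos rfl, mul_one] at h1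
    rw [h1, zero_smul]
  obtain ⟨U, hU⟩ : ∃ U, U = perpU hf W := ⟨_, rfl⟩
  have hdim : 0 < Module.finrank F U := by
    have h1 := finrank_perpU_ge hf W
    have h2 : Module.finrank F W ≤ Fintype.card κ := by rw [hW]; exact finrank_range_le_card c
    rw [Fintype.card_fin, ← hU] at h1
    omega
  obtain ⟨b, hb, hbs⟩ := CfsgLib.Classical.exists_orthonormal_span hF U fun u hu h => by
    by_contra hu0
    obtain ⟨x, hx, hxu⟩ := perpU_nondegenerate hf hnd u (hU ▸ hu) hu0
    exact hxu ((eq_zero_comm hf).mp (h x (hU ▸ hx)))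
  have hmem : b ⟨0, hdim⟩ ∈ perpU hf W := hU ▸ hbs.le (Submodule.subset_span ⟨_, rfl⟩)
  exact ⟨b ⟨0, hdim⟩, by rw [hb, if_pos rfl], fun i =>
    perp_left hf hmem (hW ▸ Submodule.subset_span ⟨i, rfl⟩)⟩

/-- An isometry of any norm-one determinant carrying one orthonormal family to another. -/
theorem exists_map_det (hF : Fintype.card F = q ^ 2) {κ : Type*} [Fintype κ] [DecidableEq κ]
    {b c : κ → Fin n → F} (hb : ∀ i j, hermForm n F q (b i) (b j) = if i = j then 1 else 0)
    (hc : ∀ i j, hermForm n F q (c i) (c j) = if i = j then 1 else 0) (hκ : Fintype.card κ < n)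
    {δ : F} (hδ : δ * δ ^ q = 1) :
    ∃ g : GL (Fin n) F, Iso (hermForm n F q) g ∧ (g : Matrix (Fin n) (Fin n) F).det = δ ∧
      ∀ i, (g : Matrix (Fin n) (Fin n) F) *ᵥ b i = c i := by
  obtain ⟨σ, hσ, hinv, hne⟩ := exists_frob hF
  have hf := isUnitaryForm_hermForm (n := n) hσ hinv hne
  obtain ⟨g, hg, hgb⟩ := exists_iso_map hF hb hc
  obtain ⟨x, hx, hxc⟩ := exists_unit_perp hF hc hκ
  obtain ⟨d, hd⟩ : ∃ d, d = (g : Matrix (Fin n) (Fin n) F).det := ⟨_, rfl⟩
  have hdn : d * σ d = 1 := by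
    rw [hd, hσ]
    have h := CfsgLib.Classical.det_gu_pow (CfsgLib.Classical.det_map_pow hF)
      (by have := CfsgLib.Classical.two_le_q hF; omega) ⟨g, fun u v => hg u v⟩
    rwa [pow_succ'] at h
  have hl : δ * d⁻¹ * σ (δ * d⁻¹) = 1 := by
    rw [map_mul, map_inv₀, hσ δ, mul_mul_mul_comm, hδ, ← mul_inv, hdn, inv_one, mul_one]
  refine ⟨qR (hermForm n F q) x (δ * d⁻¹) * g, (iso_qR hf hx hl).mul hg, ?_, fun i => ?_⟩
  · rw [Units.val_mul, det_mul, det_qR hf hx hl, ← hd, mul_assoc, inv_mul_cancel₀ (left_ne_zero_of_mul_eq_one hdn),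
      mul_one]
  · rw [mul_mulVec, hgb, qR_mulVec hf hx hl, hxc, mul_zero, zero_smul, add_zero]

/-- The plane of an orthogonal pair of unit vectors is spanned by its isotropic vectors. -/
theorem mem_span_iso_plane {f : (Fin n → F) → (Fin n → F) → F} (hf : Cfsg.Geo.IsUnitaryForm σ f)
    {U : Submodule F (Fin n → F)} {x y : Fin n → F} (hx : x ∈ U) (hy : y ∈ U) (hxx : f x x = 1) (hyy : f y y = 1)
    (hxy : f x y = 0) : x ∈ Submodule.span F {v | v ∈ U ∧ f v v = 0} := by
  obtain ⟨k, hk⟩ := exists_norm_eq hf.ne_refl hf.involutive (b := (-1 : F)) (by rw [map_neg, map_one])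
  have hk0 : k ≠ 0 := fun h => by rw [h, zero_mul] at hk; exact neg_ne_zero.mpr one_ne_zero hk.symm
  obtain ⟨a, ha⟩ : ∃ a : F, σ a ≠ a := by
    by_contra h
    simp only [not_exists, not_not] at h
    exact hf.ne_refl (RingEquiv.ext h)
  have ha0 : a ≠ 0 := fun h => ha (by rw [h, map_zero])
  have hσa : σ a ≠ 0 := (map_ne_zero_iff _ σ.injective).mpr ha0
  have hiso : ∀ z : F, z * σ z = 1 → x + (k * z) • y ∈ Submodule.span F {v | v ∈ U ∧ f v v = 0} := fun z hz =>
    Submodule.subset_span ⟨U.add_mem hx (U.smul_mem _ hy), by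
      rw [hf.add_left, add_right' hf, add_right' hf, hf.smul_left, hf.smul_left, smul_right' hf, smul_right' hf,
        hxx, hyy, hxy, (eq_zero_comm hf).mp hxy, map_mul]
      linear_combination hk + k * σ k * hz⟩
  obtain ⟨l, hl⟩ : ∃ l, l = σ a / a := ⟨_, rfl⟩
  have hl1 : l ≠ 1 := fun h => ha ((div_eq_one_iff_eq ha0).mp (hl ▸ h))
  have hln : l * σ l = 1 := by rw [hl, map_div₀, hf.involutive]; field_simp
  have h1 := hiso 1 (by simp)
  have h2 := Submodule.smul_mem _ (k * (l - 1))⁻¹ (Submodule.sub_mem _ (hiso l hln) h1)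
  rw [add_sub_add_left_eq_sub, ← sub_smul, ← mul_sub,
    inv_smul_smul₀ (mul_ne_zero hk0 (sub_ne_zero.mpr hl1))] at h2
  have h3 := Submodule.sub_mem _ h1 (Submodule.smul_mem _ (k * 1) h2)
  rwa [add_sub_cancel_right] at h3

end CfsgLib.SUFour
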