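/-
Two orthogonal non-degenerate planes in four-dimensional unitary space: overgroups of their common stabiliser.
-/
import Cfsg.Agent.Lib.SUFour.Transitive
import Cfsg.Agent.Lib.Classical22.Monomial

set_option autoImplicit false
set_option linter.all false

namespace CfsgLib.SUFour

open Matrix CfsgLib.Transvec CfsgLib.Transvec.Unitary
open scoped MatrixGroups

variable {ι : Type} [Fintype ι] [DecidableEq ι] {F : Type*} [Field F] [Finite F] {σ : F ≃+* F}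
  {f : (ι → F) → (ι → F) → F}

/-- The data of two orthogonal non-degenerate planes. -/
structure Pair2 (σ : F ≃+* F) (f : (ι → F) → (ι → F) → F) (M : Subgroup (GL ι F))
    (A B : Submodule F (ι → F)) (pA pB : (ι → F) →ₗ[F] (ι → F)) : Prop where
  projA : ∀ x, pA x ∈ A
  projB : ∀ x, pB x ∈ B
  split : ∀ x, pA x + pB x = x
  orth : ∀ a ∈ A, ∀ b ∈ B, f a b = 0 ∧ f b a = 0
  dual : ∀ a ∈ A, a ≠ 0 → ∃ z ∈ A, f a z ≠ 0
  dual' : ∀ b ∈ B, b ≠ 0 → ∃ z ∈ B, f b z ≠ 0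
  mem : ∀ h : GL ι F, Iso f h → (h : Matrix ι ι F).det = 1 → (∀ x ∈ A, (h : Matrix ι ι F) *ᵥ x ∈ A) →
    (∀ x ∈ B, (h : Matrix ι ι F) *ᵥ x ∈ B) → h ∈ M
  move : ∀ a ∈ A, ∀ a' ∈ A, ∀ b ∈ B, ∀ b' ∈ B, f a a ≠ 0 → f a a = f a' a' → f b b ≠ 0 → f b b = f b' b' →
    ∃ h ∈ M, Iso f h ∧ (h : Matrix ι ι F) *ᵥ a = a' ∧ (h : Matrix ι ι F) *ᵥ b = b'

/-- A vector with prescribed product with an isotropic vector and prescribed norm. -/
lemma exists_partner (hf : Cfsg.Geo.IsUnitaryForm σ f) {A : Submodule F (ι → F)}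
    (hA : ∀ a ∈ A, a ≠ 0 → ∃ z ∈ A, f a z ≠ 0) {a : ι → F} (ha : a ∈ A) (ha0 : a ≠ 0) (haa : f a a = 0)
    {β : F} (hβ : β ≠ 0) (γ : F) (hγ : σ γ = γ) : ∃ z ∈ A, f a z = β ∧ f z z = γ := by
  obtain ⟨z₀, hz₀, h0⟩ := hA a ha ha0
  obtain ⟨z, hz⟩ : ∃ z, z = σ (β / f a z₀) • z₀ := ⟨_, rfl⟩
  have hzA : z ∈ A := hz ▸ A.smul_mem _ hz₀
  have haz : f a z = β := by rw [hz, smul_right' hf, hf.involutive, div_mul_cancel₀ _ h0]
  obtain ⟨t, ht⟩ := exists_trace_eq hf.ne_refl hf.involutive (b := γ - f z z)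
    (by rw [map_sub, self_fixed hf, hγ])
  refine ⟨z + (t / β) • a, A.add_mem hzA (A.smul_mem _ ha), by rw [add_right' hf, haz, smul_right' hf, haa]; ring, ?_⟩
  have hza : f z a = σ β := by rw [hf.herm, haz]
  have hσβ : σ β ≠ 0 := (map_ne_zero_iff _ σ.injective).mpr hβ
  rw [hf.add_left, add_right' hf, add_right' hf, hf.smul_left, hf.smul_left, smul_right' hf, smul_right' hf,
    haa, haz, hza, map_div₀]
  field_simp
  linear_combination (σ β * β) * ht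

/-- An element interchanging the isotropic vectors of a hyperbolic pair, up to scalars. -/
lemma exists_turn (hf : Cfsg.Geo.IsUnitaryForm σ f) {A B : Submodule F (ι → F)}
    (horth : ∀ a ∈ A, ∀ b ∈ B, f a b = 0 ∧ f b a = 0) {a e : ι → F} (ha : a ∈ A) (he : e ∈ A)
    (haa : f a a = 0) (hee : f e e = 0) (hae : f a e = 1) {c l : F} (hc : c + σ c = 0) (hc0 : c ≠ 0) (hl : l ≠ 0) :
    ∃ h : GL ι F, Iso f h ∧ (h : Matrix ι ι F).det = l * (σ l)⁻¹ ∧
      (∀ x ∈ A, (h : Matrix ι ι F) *ᵥ x ∈ A) ∧ (∀ x ∈ B, (h : Matrix ι ι F) *ᵥ x = x) ∧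
      (h : Matrix ι ι F) *ᵥ a = (c * (σ l)⁻¹) • e := by
  have hea : f e a = 1 := by rw [hf.herm, hae, map_one]
  have hσl : σ l ≠ 0 := (map_ne_zero_iff _ σ.injective).mpr hl
  have hci : -c⁻¹ + σ (-c⁻¹) = 0 := by
    rw [map_neg, map_inv₀, eq_neg_of_add_eq_zero_right hc, inv_neg]; ring
  have hu1 : uvec f e ⬝ᵥ a = 1 := by rw [uvec_dot hf, hae]
  have hu2 : uvec f a ⬝ᵥ e = 1 := by rw [uvec_dot hf, hea]
  obtain ⟨T, hT⟩ : ∃ T, T = CfsgLib.Classical22.Monomial.refl a (uvec f e) l *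
      CfsgLib.Classical22.Monomial.refl e (uvec f a) (σ l)⁻¹ := ⟨_, rfl⟩
  have hz : ∀ z, (T : Matrix ι ι F) *ᵥ z = z + ((l - 1) * f z e) • a + (((σ l)⁻¹ - 1) * f z a) • e := fun z => by
    rw [hT, mul_mulVec, CfsgLib.Classical22.Monomial.refl_mulVec hu2 (inv_ne_zero hσl),
      CfsgLib.Classical22.Monomial.refl_mulVec hu1 hl, uvec_dot hf, uvec_dot hf, hf.add_left, hf.smul_left, hee]
    simp [add_right_comm]
  have hi : Iso f T := fun x y => by
    rw [hz, hz]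
    simp only [hf.add_left, add_right' hf, hf.smul_left, smul_right' hf, haa, hee, hae, hea, map_mul, map_sub,
      map_one, map_inv₀, hf.involutive, mul_zero, mul_one, add_zero, zero_add]
    rw [← hf.herm a y, ← hf.herm e y]
    field_simp
    ring
  refine ⟨T * (uT f a (-c⁻¹) * uT f e c), hi.mul ((iso_uT hf haa hci).mul (iso_uT hf hee hc)), ?_,
    fun x hx => ?_, fun x hx => ?_, ?_⟩
  · rw [Units.val_mul, Units.val_mul, det_mul, det_mul, hT, Units.val_mul, det_mul,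
      CfsgLib.Classical22.Monomial.det_refl hu1 hl, CfsgLib.Classical22.Monomial.det_refl hu2 (inv_ne_zero hσl),
      show (uT f a (-c⁻¹) : Matrix ι ι F).det = 1 from (mem_specialLinear_iff _).mp (transv_mem_specialLinear _ _),
      show (uT f e c : Matrix ι ι F).det = 1 from (mem_specialLinear_iff _).mp (transv_mem_specialLinear _ _)]
    ring
  · rw [mul_mulVec, mul_mulVec, uT_mulVec hf hee, uT_mulVec hf haa, hz]
    exact A.add_mem (A.add_mem (A.add_mem (A.add_mem hx (A.smul_mem _ he)) (A.smul_mem _ ha)) (A.smul_mem _ ha))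
      (A.smul_mem _ he)
  · rw [mul_mulVec, mul_mulVec, uT_mulVec hf hee, uT_mulVec hf haa, hz]
    simp [(horth a ha x hx).2, (horth e he x hx).2]
  · rw [mul_mulVec, mul_mulVec, uT_mulVec hf hee, uT_mulVec hf haa, hz]
    simp only [hf.add_left, hf.smul_left, haa, hee, hae, hea]
    match_scalars <;> field_simp <;> ring

namespace Pair2

variable {M : Subgroup (GL ι F)} {A B : Submodule F (ι → F)} {pA pB : (ι → F) →ₗ[F] (ι → F)}

lemma symm (H : Pair2 σ f M A B pA pB) : Pair2 σ f M B A pB pA where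
  projA := H.projB
  projB := H.projA
  split x := by rw [add_comm]; exact H.split x
  orth a ha b hb := (H.orth b hb a ha).symm
  dual := H.dual'
  dual' := H.dual
  mem h hi hd hA hB := H.mem h hi hd hB hA
  move a ha a' ha' b hb b' hb' h1 h2 h3 h4 := by
    obtain ⟨h, hh, hi, ha, hb⟩ := H.move b hb b' hb' a ha a' ha' h3 h4 h1 h2
    exact ⟨h, hh, hi, hb, ha⟩

lemma f_add (hf : Cfsg.Geo.IsUnitaryForm σ f) (H : Pair2 σ f M A B pA pB) {a a' b b' : ι → F} (ha : a ∈ A)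
    (ha' : a' ∈ A) (hb : b ∈ B) (hb' : b' ∈ B) : f (a + b) (a' + b') = f a a' + f b b' := by
  rw [hf.add_left, add_right' hf, add_right' hf, (H.orth a ha b' hb').1, (H.orth a' ha' b hb).2, add_zero, zero_add]

lemma full_pure (hf : Cfsg.Geo.IsUnitaryForm σ f) (H : Pair2 σ f M A B pA pB) {v : ι → F} (hv : v ∈ A)
    (hvv : f v v = 0) : UFull σ f M v := by
  refine ⟨hvv, fun c hc => H.mem _ (iso_uT hf hvv hc) ((mem_specialLinear_iff _).mp (transv_mem_specialLinear _ _))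
    (fun x hx => ?_) fun x hx => ?_⟩
  · rw [uT_mulVec hf hvv]; exact A.add_mem hx (A.smul_mem _ hv)
  · rw [uT_mulVec hf hvv, (H.orth v hv x hx).2, mul_zero, zero_smul, add_zero]; exact hx

/-- From any mixed full vector to one with anisotropic components. -/
lemma exists_aniso (hf : Cfsg.Geo.IsUnitaryForm σ f) (H : Pair2 σ f M A B pA pB) {y : F} (hy : σ y ≠ y)
    (hy' : σ y ≠ -y) {a b : ι → F} (ha : a ∈ A) (hb : b ∈ B) (ha0 : a ≠ 0) (hb0 : b ≠ 0)
    (hu : UFull σ f M (a + b)) : ∃ a' ∈ A, ∃ b' ∈ B, f a' a' ≠ 0 ∧ UFull σ f M (a' + b') := by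
  by_cases haa : f a a = 0
  swap
  · exact ⟨a, ha, b, hb, haa, hu⟩
  have hbb : f b b = 0 := by
    have := hu.1
    rw [H.f_add hf ha ha hb hb, haa, zero_add] at this
    exact this
  obtain ⟨e, he, hae, hee⟩ := exists_partner hf H.dual ha ha0 haa one_ne_zero 0 (map_zero σ)
  obtain ⟨g, hg, hbg, hgg⟩ := exists_partner hf H.dual' hb hb0 hbb one_ne_zero 0 (map_zero σ)
  obtain ⟨c, hc0, hc⟩ := exists_skew hf.ne_refl hf.involutive
  have hσc : σ c = -c := eq_neg_of_add_eq_zero_right hc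
  have hy0 : y ≠ 0 := fun h => hy (by rw [h, map_zero])
  have hσy : σ y ≠ 0 := (map_ne_zero_iff _ σ.injective).mpr hy0
  obtain ⟨l, hl⟩ : ∃ l, l = σ (c / y) := ⟨_, rfl⟩
  have hl0 : l ≠ 0 := hl ▸ (map_ne_zero_iff _ σ.injective).mpr (div_ne_zero hc0 hy0)
  have hσl0 : σ l ≠ 0 := (map_ne_zero_iff _ σ.injective).mpr hl0
  obtain ⟨h₁, hi₁, hd₁, hA₁, hB₁, he₁⟩ := exists_turn hf H.orth ha he haa hee hae hc hc0 hl0
  obtain ⟨h₂, hi₂, hd₂, hB₂, hA₂, he₂⟩ :=
    exists_turn hf (fun b hb a ha => (H.orth a ha b hb).symm) hb hg hbb hgg hbg hc hc0 hσl0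
  have hM : h₂ * h₁ ∈ M := H.mem _ (hi₂.mul hi₁) (by
    rw [Units.val_mul, det_mul, hd₁, hd₂, hf.involutive]
    field_simp)
    (fun x hx => by rw [mul_mulVec, hA₂ _ (hA₁ x hx)]; exact hA₁ x hx)
    (fun x hx => by rw [mul_mulVec, hB₁ x hx]; exact hB₂ x hx)
  have h1 := ufull_conj hf hM (hi₂.mul hi₁) hu
  have eA : c * (σ l)⁻¹ = y := by rw [hl, hf.involutive]; field_simp
  have eB : c * (σ (σ l))⁻¹ = -σ y := by rw [hf.involutive, hl, map_div₀, hσc]; field_simp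
  rw [mulVec_add, mul_mulVec, mul_mulVec, hB₁ b hb, he₁, he₂, eA, eB, hA₂ _ (A.smul_mem _ he)] at h1
  have hval : f (a + b) (y • e + (-σ y) • g) = σ y - y := by
    rw [H.f_add hf ha (A.smul_mem _ he) hb (B.smul_mem _ hg), smul_right' hf, smul_right' hf, hae, hbg, map_neg,
      hf.involutive]
    ring
  obtain ⟨k, hk⟩ : ∃ k, k = c * (σ y - y) := ⟨_, rfl⟩
  have hσk : σ k = k := by rw [hk, map_mul, map_sub, hf.involutive, hσc]; ring
  have hk0 : k ≠ 0 := hk ▸ mul_ne_zero hc0 (sub_ne_zero.mpr hy)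
  have h2 := uT_add_smul hf hu h1.1 hc (h1.2 c hc)
  rw [hval, ← hk, show a + b + k • (y • e + (-σ y) • g) = (a + (k * y) • e) + (b + (k * -σ y) • g) by module] at h2
  refine ⟨_, A.add_mem ha (A.smul_mem _ he), _, B.add_mem hb (B.smul_mem _ hg), ?_, h2⟩
  rw [hf.add_left, add_right' hf, add_right' hf, hf.smul_left, hf.smul_left, smul_right' hf, smul_right' hf, haa,
    hee, hae, hf.herm e a, hae, map_one, map_mul, hσk]
  intro h0
  have : k * (σ y + y) = 0 := by linear_combination h0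
  exact hy' (eq_neg_of_add_eq_zero_left ((mul_eq_zero.mp this).resolve_left hk0))

/-- Everything is full as soon as one mixed vector is. -/
theorem spread (hf : Cfsg.Geo.IsUnitaryForm σ f) (H : Pair2 σ f M A B pA pB) {y : F} (hy : σ y ≠ y)
    (hy' : σ y ≠ -y) {c : F} (hc0 : c ≠ 0) (hc : c + σ c = 0) (hc1 : 1 + c ≠ 0) {a₁ b₁ : ι → F} (ha₁ : a₁ ∈ A)
    (hb₁ : b₁ ∈ B) (ha₁0 : a₁ ≠ 0) (hb₁0 : b₁ ≠ 0) (hu : UFull σ f M (a₁ + b₁)) :
    ∀ x, f x x = 0 → UFull σ f M x := by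
  obtain ⟨a₀, ha₀, b₀, hb₀, ha₀₀, hfull⟩ := H.exists_aniso hf hy hy' ha₁ hb₁ ha₁0 hb₁0 hu
  have hnorm : ∀ {a b : ι → F}, a ∈ A → b ∈ B → f (a + b) (a + b) = 0 → f b b = -f a a := by
    intro a b ha hb h
    rw [H.f_add hf ha ha hb hb] at h
    linear_combination h
  have hmixed : ∀ a ∈ A, ∀ b ∈ B, f a a ≠ 0 → f (a + b) (a + b) = 0 → UFull σ f M (a + b) := by
    intro a ha b hb haa hab
    have hfix : σ (f a a / f a₀ a₀) = f a a / f a₀ a₀ := by rw [map_div₀, self_fixed hf, self_fixed hf]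
    obtain ⟨l, hl⟩ := exists_norm_eq hf.ne_refl hf.involutive hfix
    have hn : ∀ z, f (l • z) (l • z) = f a a / f a₀ a₀ * f z z := fun z => by
      rw [hf.smul_left, smul_right' hf, ← mul_assoc, hl]
    have hna : f (l • a₀) (l • a₀) = f a a := by rw [hn, div_mul_cancel₀ _ ha₀₀]
    have hnb : f (l • b₀) (l • b₀) = f b b := by
      rw [hn, hnorm ha₀ hb₀ hfull.1, mul_neg, div_mul_cancel₀ _ ha₀₀, hnorm ha hb hab]
    obtain ⟨h, hh, hi, hea, heb⟩ := H.move _ (A.smul_mem l ha₀) a ha _ (B.smul_mem l hb₀) b hb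
      (hna ▸ haa) hna (by rw [hnb, hnorm ha hb hab]; exact neg_ne_zero.mpr haa) hnb
    have h1 := ufull_conj hf hh hi (ufull_smul hf hfull l)
    rwa [smul_add, mulVec_add, hea, heb] at h1
  intro x hxx
  rw [← H.split x] at hxx ⊢
  obtain ⟨a, ha⟩ : ∃ a, a = pA x := ⟨_, rfl⟩
  obtain ⟨b, hb⟩ : ∃ b, b = pB x := ⟨_, rfl⟩
  have haA : a ∈ A := ha ▸ H.projA x
  have hbB : b ∈ B := hb ▸ H.projB x
  rw [← ha, ← hb] at hxx ⊢
  by_cases haa : f a a = 0
  swap
  · exact hmixed a haA b hbB haa hxx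
  have hbb : f b b = 0 := by rw [hnorm haA hbB hxx, haa, neg_zero]
  by_cases ha0 : a = 0
  · rw [ha0, zero_add]; exact H.symm.full_pure hf hbB hbb
  by_cases hb0 : b = 0
  · rw [hb0, add_zero]; exact H.full_pure hf haA haa
  obtain ⟨β, hβ⟩ : ∃ β, β = -c⁻¹ - 1 := ⟨_, rfl⟩
  have hβ0 : β ≠ 0 := by
    rw [hβ]; intro h0
    refine hc1 ?_
    have h1 : c * (-c⁻¹ - 1) = 0 := by rw [h0, mul_zero]
    rw [mul_sub, mul_neg, mul_inv_cancel₀ hc0, mul_one] at h1
    linear_combination -h1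
  obtain ⟨p, hp, hap, hpp⟩ := exists_partner hf H.dual haA ha0 haa one_ne_zero 1 (map_one σ)
  obtain ⟨r, hr, hbr, hrr⟩ := exists_partner hf H.dual' hbB hb0 hbb hβ0 (-1) (by rw [map_neg, map_one])
  have hu' : UFull σ f M (p + r) := hmixed p hp r hr (by rw [hpp]; exact one_ne_zero)
    (by rw [H.f_add hf hp hp hr hr, hpp, hrr, add_neg_cancel])
  have hval : c * f (a + b) (p + r) = -1 := by
    rw [H.f_add hf haA hp hbB hr, hap, hbr, hβ]
    field_simp
    ring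
  have him : (uT f (p + r) c : Matrix ι ι F) *ᵥ (a + b) = (a - p) + (b - r) := by
    rw [uT_mulVec hf hu'.1, hval]; module
  have h1 : UFull σ f M ((a - p) + (b - r)) := by
    refine hmixed _ (A.sub_mem haA hp) _ (B.sub_mem hbB hr) ?_ ?_
    · rw [sub_left' hf, sub_right' hf, sub_right' hf, haa, hap, hpp, hf.herm p a, hap, map_one]
      norm_num
    · rw [← him, iso_uT hf hu'.1 hc]; exact hxx
  have h2 := ufull_conj hf (M.inv_mem (hu'.2 c hc)) (iso_uT hf hu'.1 hc).inv h1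
  rwa [← him, inv_mulVec_cancel] at h2

end Pair2

end CfsgLib.SUFour
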