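/-
Stabilisers of two orthogonal non-degenerate planes are maximal in `SU_4(q)`, `q ≥ 3`.
-/
import Cfsg.Agent.Lib.SUFour.Pair
import Cfsg.Agent.Lib.SUFour.Basic
import Cfsg.Agent.Lib.Transvec.SympSpaces

set_option autoImplicit false
set_option linter.all false

namespace CfsgLib.SUFour

open Matrix Cfsg CfsgLib.Transvec CfsgLib.Transvec.Unitary
open scoped MatrixGroups

section

variable {F : Type*} [Field F] [Fintype F] {n q : ℕ} {σ : F ≃+* F}

/-- Some element is neither fixed nor negated by the involution. -/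
lemma exists_neither (hF : Fintype.card F = q ^ 2) (hσ : ∀ x, σ x = x ^ q) : ∃ y : F, σ y ≠ y ∧ σ y ≠ -y := by
  classical
  have hq := CfsgLib.Classical.two_le_q hF
  by_contra hcon
  push Not at hcon
  obtain ⟨P, hP⟩ : ∃ P : Polynomial F,
      P = (Polynomial.X ^ (q - 1) - Polynomial.C 1) * (Polynomial.X ^ (q - 1) - Polynomial.C (-1)) := ⟨_, rfl⟩
  have hP0 : P ≠ 0 := hP ▸ mul_ne_zero (Polynomial.X_pow_sub_C_ne_zero (by omega) _)
    (Polynomial.X_pow_sub_C_ne_zero (by omega) _)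
  have hsub : (Finset.univ.erase (0 : F)) ⊆ P.roots.toFinset := by
    intro x hx
    have hx0 := Finset.ne_of_mem_erase hx
    rw [Multiset.mem_toFinset, Polynomial.mem_roots hP0, hP]
    have hpow : x ^ (q - 1) * x = σ x := by rw [hσ, ← pow_succ, Nat.sub_add_cancel (by omega)]
    by_cases h1 : σ x = x
    · have : x ^ (q - 1) = 1 := mul_right_cancel₀ hx0 (by rw [hpow, h1, one_mul])
      simp [Polynomial.IsRoot, this]
    · have : x ^ (q - 1) = -1 := mul_right_cancel₀ hx0 (by rw [hpow, hcon x h1, neg_one_mul])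
      simp [Polynomial.IsRoot, this]
  have h1 := (Finset.card_le_card hsub).trans ((Multiset.toFinset_card_le _).trans (Polynomial.card_roots' _))
  rw [Finset.card_erase_of_mem (Finset.mem_univ _), Finset.card_univ, hF, hP,
    Polynomial.natDegree_mul (Polynomial.X_pow_sub_C_ne_zero (by omega) _)
      (Polynomial.X_pow_sub_C_ne_zero (by omega) _), Polynomial.natDegree_X_pow_sub_C,
    Polynomial.natDegree_X_pow_sub_C] at h1
  have : q * 2 ≤ q ^ 2 := by rw [sq]; exact Nat.mul_le_mul_left q hq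
  omega

end

set_option maxHeartbeats 1600000 in
theorem isMaximalIn_pair {F : Type*} [Field F] [Fintype F] (n k q : ℕ) (hF : Fintype.card F = q ^ 2) (hq : 3 ≤ q)
    (hn : n = 4) (hk2 : k = 2) (D : Fin 2 → Submodule F (Fin n → F))
    (hD : Cfsg.Geo.IsNondegenerateMDecomposition (Cfsg.hermForm n F q) k D) :
    Cfsg.Geo.IsMaximalIn (Cfsg.GU n F q ⊓ Cfsg.Geo.specialLinear (Fin n) F)
      (Cfsg.Geo.decompositionStabilizer D ⊓ (Cfsg.GU n F q ⊓ Cfsg.Geo.specialLinear (Fin n) F)) := by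
  classical
  obtain ⟨σ, hσ, hinv, hne⟩ := exists_frob hF
  have hf' := isUnitaryForm_hermForm (n := n) hσ hinv hne
  obtain ⟨f, hff⟩ : ∃ f, f = Cfsg.hermForm n F q := ⟨_, rfl⟩
  have hf : Cfsg.Geo.IsUnitaryForm σ f := hff ▸ hf'
  have hint : DirectSum.IsInternal D :=
    DirectSum.isInternal_submodule_of_iSupIndep_of_iSup_eq_top hD.decomp.indep hD.decomp.iSup_eq_top
  have hsplit : ∀ x, dcomp hint 0 x + dcomp hint 1 x = x := fun x => by
    conv_rhs => rw [← sum_dcomp hint x, Fin.sum_univ_two]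
  have hmaps : ∀ (g : GL (Fin n) F) (τ : Equiv.Perm (Fin 2)),
      (∀ i, ∀ x ∈ D i, (g : Matrix _ _ F) *ᵥ x ∈ D (τ i)) → g ∈ Cfsg.Geo.decompositionStabilizer D :=
    fun g τ h => ⟨τ, fun i => map_gl_eq_of_le g (by rw [hD.decomp.finrank_eq, hD.decomp.finrank_eq]) (h i)⟩
  obtain ⟨A, hA⟩ : ∃ A, A = D 0 := ⟨_, rfl⟩
  obtain ⟨B, hB⟩ : ∃ B, B = D 1 := ⟨_, rfl⟩
  have horth : ∀ a ∈ A, ∀ b ∈ B, f a b = 0 ∧ f b a = 0 := fun a ha b hb => by
    subst hA hB hff
    exact ⟨hD.orthogonal 0 1 (by decide) a ha b hb, hD.orthogonal 1 0 (by decide) b hb a ha⟩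
  have hnd : ∀ i, ∀ x ∈ D i, x ≠ 0 → ∃ z ∈ D i, f x z ≠ 0 := fun i x hx h => hff ▸ (hD.nondegenerate i x hx h).2
  have hperp : ∀ i j : Fin 2, i ≠ j → ∀ z, (∀ x ∈ D j, f z x = 0) → z ∈ D i := by
    intro i j hij z hz
    have h0 : dcomp hint j z = 0 := by
      by_contra h
      obtain ⟨w, hw, hw'⟩ := hnd j _ (dcomp_mem hint j z) h
      refine hw' ?_
      have h1 := hz w hw
      rw [← hsplit z, hf.add_left] at h1
      fin_cases i <;> fin_cases j <;> simp at hij ⊢
      · rw [hff, hD.orthogonal 0 1 (by decide) _ (dcomp_mem hint 0 z) w hw, zero_add, ← hff] at h1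
        exact h1
      · rw [hff, hD.orthogonal 1 0 (by decide) _ (dcomp_mem hint 1 z) w hw, add_zero, ← hff] at h1
        exact h1
    rw [← hsplit z]
    fin_cases i <;> fin_cases j <;> simp at hij h0 ⊢
    · simpa [h0] using dcomp_mem hint 0 z
    · simpa [h0] using dcomp_mem hint 1 z
  -- a second unit vector in the same plane
  have hsecond : ∀ i j : Fin 2, i ≠ j → ∀ x ∈ D i, f x x = 1 → ∃ z ∈ D i, f z z = 1 ∧ f x z = 0 ∧ f z x = 0 ∧
      ∀ g : GL (Fin n) F, ∀ E : Submodule F (Fin n → F), (g : Matrix (Fin n) (Fin n) F) *ᵥ x ∈ E →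
        (g : Matrix (Fin n) (Fin n) F) *ᵥ z ∈ E → ∀ y ∈ D i, (g : Matrix (Fin n) (Fin n) F) *ᵥ y ∈ E := by
    intro i j hij x hx hxx
    obtain ⟨v, hv, hvs⟩ := CfsgLib.Classical.exists_orthonormal_span hF (D j) fun u hu h => by
      by_contra hu0
      obtain ⟨w, hw, hw'⟩ := hnd j u hu hu0
      exact hw' (hff ▸ h w hw)
    have hvD : ∀ r, v r ∈ D j := fun r => hvs.le (Submodule.subset_span ⟨r, rfl⟩)
    have hxv : ∀ r, hermForm n F q x (v r) = 0 ∧ hermForm n F q (v r) x = 0 := fun r =>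
      ⟨hD.orthogonal i j hij x hx _ (hvD r), hD.orthogonal j i hij.symm _ (hvD r) x hx⟩
    have hd : Module.finrank F (D j) = 2 := by rw [hD.decomp.finrank_eq, hk2]
    obtain ⟨c, hc⟩ : ∃ c : Option (Fin (Module.finrank F (D j))) → Fin n → F,
        ∀ o, c o = o.elim x v := ⟨_, fun _ => rfl⟩
    obtain ⟨z, hzz, hcz⟩ := exists_unit_perp hF (c := c) (fun o o' => by
      rw [hc, hc]
      rcases o with _ | r <;> rcases o' with _ | r' <;> simp [hv, hxv]
      rw [← hff, hxx]) (by rw [Fintype.card_option, Fintype.card_fin, hd, hn]; norm_num)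
    have hxz : f x z = 0 := by rw [hff]; simpa [hc] using hcz none
    have hzD : z ∈ D i := hperp i j hij z fun w hw => (eq_zero_comm hf).mp (by
      rw [← hvs] at hw
      refine Submodule.span_induction (p := fun w _ => f w z = 0) ?_ (zero_left' hf _) ?_ ?_ hw
      · rintro _ ⟨r, rfl⟩
        rw [hff]; simpa [hc] using hcz (some r)
      · intro p r _ _ hp hr; rw [hf.add_left, hp, hr, add_zero]
      · intro t p _ hp; rw [hf.smul_left, hp, mul_zero])
    refine ⟨z, hzD, hff ▸ hzz, hxz, (eq_zero_comm hf).mp hxz, fun g E hgx hgz y hy => ?_⟩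
    have hli := CfsgLib.Classical.orthonormal_li (q := q) (b := ![x, z]) fun p r => by
      rw [← hff]
      fin_cases p <;> fin_cases r <;> simp [hxx, hxz, (eq_zero_comm hf).mp hxz]
      rw [hff, hzz]
    have hle : Submodule.span F (Set.range ![x, z]) ≤ D i := Submodule.span_le.mpr (by
      rintro _ ⟨p, rfl⟩
      fin_cases p
      · simpa using hx
      · simpa using hzD)
    have heq := Submodule.eq_of_le_of_finrank_le hle (by
      rw [finrank_span_eq_card hli, Fintype.card_fin, hD.decomp.finrank_eq, hk2])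
    rw [← heq] at hy
    refine Submodule.span_induction (p := fun y _ => (g : Matrix (Fin n) (Fin n) F) *ᵥ y ∈ E) ?_ ?_ ?_ ?_ hy
    · rintro _ ⟨p, rfl⟩
      fin_cases p
      · simpa using hgx
      · simpa using hgz
    · rw [mulVec_zero]; exact E.zero_mem
    · intro p r _ _ hp hr; rw [mulVec_add]; exact E.add_mem hp hr
    · intro t p _ hp; rw [mulVec_smul]; exact E.smul_mem _ hp
  -- transitivity of the stabiliser
  have hmove : ∀ a ∈ A, ∀ a' ∈ A, ∀ b ∈ B, ∀ b' ∈ B, f a a ≠ 0 → f a a = f a' a' → f b b ≠ 0 → f b b = f b' b' →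
      ∃ h : GL (Fin n) F, Iso f h ∧ (h : Matrix (Fin n) (Fin n) F).det = 1 ∧
      (∀ x ∈ A, (h : Matrix (Fin n) (Fin n) F) *ᵥ x ∈ A) ∧ (∀ x ∈ B, (h : Matrix (Fin n) (Fin n) F) *ᵥ x ∈ B) ∧
      (h : Matrix (Fin n) (Fin n) F) *ᵥ a = a' ∧ (h : Matrix (Fin n) (Fin n) F) *ᵥ b = b' := by
    intro a ha a' ha' b hb b' hb' haa haa' hbb hbb'
    obtain ⟨s, hs⟩ := exists_norm_eq hne hinv (b := (f a a)⁻¹) (by rw [map_inv₀, self_fixed hf])
    obtain ⟨t, ht⟩ := exists_norm_eq hne hinv (b := (f b b)⁻¹) (by rw [map_inv₀, self_fixed hf])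
    have hs0 : s ≠ 0 := fun h => by rw [h, zero_mul, eq_comm, inv_eq_zero] at hs; exact haa hs
    have ht0 : t ≠ 0 := fun h => by rw [h, zero_mul, eq_comm, inv_eq_zero] at ht; exact hbb ht
    have hunit : ∀ {x : Fin n → F} {r : F}, f x x ≠ 0 → r * σ r = (f x x)⁻¹ → f (r • x) (r • x) = 1 := by
      intro x r hx hr
      rw [hf.smul_left, smul_right' hf, ← mul_assoc, hr, inv_mul_cancel₀ hx]
    have fam : ∀ a ∈ A, ∀ b ∈ B, f a a = 1 → f b b = 1 → ∃ za zb, za ∈ A ∧ zb ∈ B ∧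
        (∀ p r : Fin 4, hermForm n F q (![a, za, b, zb] p) (![a, za, b, zb] r) = if p = r then 1 else 0) ∧
        (∀ g : GL (Fin n) F, ∀ E : Submodule F (Fin n → F), (g : Matrix (Fin n) (Fin n) F) *ᵥ a ∈ E →
          (g : Matrix (Fin n) (Fin n) F) *ᵥ za ∈ E → ∀ y ∈ A, (g : Matrix (Fin n) (Fin n) F) *ᵥ y ∈ E) ∧
        (∀ g : GL (Fin n) F, ∀ E : Submodule F (Fin n → F), (g : Matrix (Fin n) (Fin n) F) *ᵥ b ∈ E →
          (g : Matrix (Fin n) (Fin n) F) *ᵥ zb ∈ E → ∀ y ∈ B, (g : Matrix (Fin n) (Fin n) F) *ᵥ y ∈ E) := by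
      intro a ha b hb haa hbb
      obtain ⟨za, hza, h1, h2, h3, hga⟩ := hsecond 0 1 (by decide) a (hA ▸ ha) haa
      obtain ⟨zb, hzb, k1, k2, k3, hgb⟩ := hsecond 1 0 (by decide) b (hB ▸ hb) hbb
      rw [← hA] at hza
      rw [← hB] at hzb
      refine ⟨za, zb, hza, hzb, fun p r => ?_, hA ▸ hga, hB ▸ hgb⟩
      rw [← hff]
      fin_cases p <;> fin_cases r <;>
        simp [haa, hbb, h1, h2, h3, k1, k2, k3, horth a ha b hb, horth za hza b hb, horth a ha zb hzb,
          horth za hza zb hzb]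
    obtain ⟨za, zb, hza, hzb, hfam, hga, hgb⟩ :=
      fam _ (A.smul_mem s ha) _ (B.smul_mem t hb) (hunit haa hs) (hunit hbb ht)
    obtain ⟨za', zb', hza', hzb', hfam', -, -⟩ := fam _ (A.smul_mem s ha') _ (B.smul_mem t hb')
      (hunit (haa' ▸ haa) (haa' ▸ hs)) (hunit (hbb' ▸ hbb) (hbb' ▸ ht))
    obtain ⟨g, hgi, hg⟩ := exists_iso_map hF hfam hfam'
    obtain ⟨d, hd⟩ : ∃ d, d = (g : Matrix (Fin n) (Fin n) F).det := ⟨_, rfl⟩
    have hdn : d * σ d = 1 := by
      rw [hd, hσ]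
      have h := CfsgLib.Classical.det_gu_pow (CfsgLib.Classical.det_map_pow hF)
        (by have := CfsgLib.Classical.two_le_q hF; omega) ⟨g, fun u v => hgi u v⟩
      rwa [pow_succ'] at h
    have hl : d⁻¹ * σ d⁻¹ = 1 := by rw [map_inv₀, ← mul_inv, hdn, inv_one]
    rw [← hff] at hgi hfam'
    have hzz : f za' za' = 1 := by simpa using hfam' 1 1
    have hfix : ∀ p : Fin 4, p ≠ 1 → (qR f za' d⁻¹ : Matrix (Fin n) (Fin n) F) *ᵥ ![s • a', za', t • b', zb'] p =
        ![s • a', za', t • b', zb'] p := fun p hp => by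
      have h0 : f (![s • a', za', t • b', zb'] p) za' = 0 := by simpa [hp] using hfam' p 1
      rw [qR_mulVec hf hzz hl, h0, mul_zero, zero_smul, add_zero]
    obtain ⟨h, hh⟩ : ∃ h, h = qR f za' d⁻¹ * g := ⟨_, rfl⟩
    have e : ∀ p : Fin 4, (h : Matrix (Fin n) (Fin n) F) *ᵥ ![s • a, za, t • b, zb] p =
        (qR f za' d⁻¹ : Matrix (Fin n) (Fin n) F) *ᵥ ![s • a', za', t • b', zb'] p := fun p => by
      rw [hh, mul_mulVec, hg p]
    refine ⟨h, hh ▸ (iso_qR hf hzz hl).mul hgi, ?_, hga h A ?_ ?_, hgb h B ?_ ?_, ?_, ?_⟩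
    · rw [hh, Units.val_mul, det_mul, det_qR hf hzz hl, ← hd, inv_mul_cancel₀ (left_ne_zero_of_mul_eq_one hdn)]
    · have := (e 0).trans (hfix 0 (by decide))
      simp only [Matrix.cons_val_zero] at this
      rw [this]; exact A.smul_mem _ ha'
    · have := e 1
      simp only [Matrix.cons_val_one, Matrix.cons_val_zero] at this
      rw [this, qR_mulVec hf hzz hl]
      exact A.add_mem hza' (A.smul_mem _ hza')
    · have := (e 2).trans (hfix 2 (by decide))
      simp only [Matrix.cons_val] at this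
      rw [this]; exact B.smul_mem _ hb'
    · have := (e 3).trans (hfix 3 (by decide))
      simp only [Matrix.cons_val] at this
      rw [this]; exact hzb'
    · have := (e 0).trans (hfix 0 (by decide))
      simp only [Matrix.cons_val_zero, mulVec_smul] at this
      exact smul_right_injective _ hs0 this
    · have := (e 2).trans (hfix 2 (by decide))
      simp only [Matrix.cons_val, mulVec_smul] at this
      exact smul_right_injective _ ht0 this
  have hstab : ∀ h : GL (Fin n) F, Iso f h → (h : Matrix (Fin n) (Fin n) F).det = 1 →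
      (∀ x ∈ A, (h : Matrix _ _ F) *ᵥ x ∈ A) → (∀ x ∈ B, (h : Matrix _ _ F) *ᵥ x ∈ B) →
      h ∈ Cfsg.Geo.decompositionStabilizer D ⊓ (Cfsg.GU n F q ⊓ Cfsg.Geo.specialLinear (Fin n) F) := by
    intro h hi hdet h0 h1
    subst hA hB hff
    refine ⟨hmaps h 1 fun i x hx => ?_, hi, (mem_specialLinear_iff _).mpr hdet⟩
    rw [Equiv.Perm.one_apply]
    fin_cases i
    · exact h0 x hx
    · exact h1 x hx
  obtain ⟨c, hc0, hc, hc1⟩ := CfsgLib.Classical.Unitary.exists_skew_ne_neg_one hF hq hσ hinv hne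
  -- orthonormal bases of the planes
  have hunitv : ∀ i, ∃ u ∈ D i, ∃ u' ∈ D i, f u u = 1 ∧ f u' u' = 1 ∧ f u u' = 0 ∧ f u' u = 0 ∧
      ∀ g : GL (Fin n) F, ∀ E : Submodule F (Fin n → F), (g : Matrix (Fin n) (Fin n) F) *ᵥ u ∈ E →
        (g : Matrix (Fin n) (Fin n) F) *ᵥ u' ∈ E → ∀ y ∈ D i, (g : Matrix (Fin n) (Fin n) F) *ᵥ y ∈ E := by
    intro i
    obtain ⟨v, hv, hvs⟩ := CfsgLib.Classical.exists_orthonormal_span hF (D i) fun u hu h => by
      by_contra hu0
      obtain ⟨w, hw, hw'⟩ := hnd i u hu hu0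
      exact hw' (hff ▸ h w hw)
    obtain ⟨r, hr⟩ : ∃ r : Fin (Module.finrank F (D i)), r.1 = 0 :=
      ⟨⟨0, by rw [hD.decomp.finrank_eq, hk2]; norm_num⟩, rfl⟩
    have hu : v r ∈ D i := hvs.le (Submodule.subset_span ⟨r, rfl⟩)
    have huu : f (v r) (v r) = 1 := by rw [hff, hv, if_pos rfl]
    obtain ⟨j, hj⟩ : ∃ j : Fin 2, i ≠ j := by
      fin_cases i
      · exact ⟨1, by decide⟩
      · exact ⟨0, by decide⟩
    obtain ⟨z, hz, h1, h2, h3, h4⟩ := hsecond i j hj _ hu huu
    exact ⟨_, hu, z, hz, huu, h1, h2, h3, h4⟩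
  refine ⟨lt_of_le_not_ge inf_le_right fun hle => ?_, fun M hHM hMK => ?_⟩
  · obtain ⟨a, ha, -, -, haa, -⟩ := hunitv 0
    obtain ⟨b, hb, -, -, hbb, -⟩ := hunitv 1
    obtain ⟨m, hm⟩ := exists_norm_eq hne hinv (b := (-1 : F)) (by rw [map_neg, map_one])
    have hm0 : m ≠ 0 := fun h => by rw [h, zero_mul] at hm; exact neg_ne_zero.mpr one_ne_zero hm.symm
    rw [← hA] at ha
    rw [← hB] at hb
    have hv : f (a + m • b) (a + m • b) = 0 := by
      rw [hf.add_left, add_right' hf, add_right' hf, hf.smul_left, hf.smul_left, smul_right' hf, smul_right' hf,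
        haa, hbb, (horth a ha b hb).1, (horth a ha b hb).2]
      linear_combination hm
    obtain ⟨τ, hτ⟩ := (hle (hff ▸ uT_mem_SU hσ hinv hne (hff ▸ hv) hc :
      uT f (a + m • b) c ∈ _)).1
    have h : (uT f (a + m • b) c : Matrix _ _ F) *ᵥ a ∈ D (τ 0) := by
      rw [← hτ 0]; exact Submodule.mem_map.mpr ⟨a, hA ▸ ha, by rw [Matrix.toLin'_apply]⟩
    rw [uT_mulVec hf hv, add_right' hf, haa, smul_right' hf, (horth a ha b hb).1, mul_zero, add_zero, mul_one,
      show a + c • (a + m • b) = (1 + c) • a + (c * m) • b by module] at h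
    have h0 := dcomp_of_mem hint h 0
    have h1 := dcomp_of_mem hint h 1
    rw [map_add, map_smul, map_smul, dcomp_of_mem hint (hA ▸ ha : a ∈ D 0),
      dcomp_of_mem hint (hB ▸ hb : b ∈ D 1)] at h0 h1
    by_cases hs : τ 0 = 0
    · rw [hs] at h1
      simp [hc0, hm0] at h1
      rw [h1, zero_left' hf] at hbb
      exact zero_ne_one hbb
    · rw [if_neg (Ne.symm hs)] at h0
      simp [hc1] at h0
      rw [h0, zero_left' hf] at haa
      exact zero_ne_one haa
  by_cases hM : M ≤ Cfsg.Geo.decompositionStabilizer D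
  · exact Or.inl (le_antisymm (le_inf hM hMK) hHM)
  right
  obtain ⟨g, hgM, hgD⟩ := SetLike.not_le_iff_exists.mp hM
  have hgi : Iso f g := hff ▸ (hMK hgM).1
  have H : Pair2 σ f M A B (dcomp hint 0) (dcomp hint 1) :=
    ⟨fun x => hA ▸ dcomp_mem hint 0 x, fun x => hB ▸ dcomp_mem hint 1 x, hsplit, horth, hA ▸ hnd 0, hB ▸ hnd 1,
      fun h hi hd h0 h1 => hHM (hstab h hi hd h0 h1), fun a ha a' ha' b hb b' hb' h1 h2 h3 h4 => by
        obtain ⟨h, hi, hd, hA', hB', hea, heb⟩ := hmove a ha a' ha' b hb b' hb' h1 h2 h3 h4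
        exact ⟨h, hHM (hstab h hi hd hA' hB'), hi, hea, heb⟩⟩
  -- a full vector meeting both planes
  obtain ⟨u, hu, huA, huB⟩ : ∃ u, UFull σ f M u ∧ u ∉ A ∧ u ∉ B := by
    by_contra hcon
    simp only [not_exists, not_and, not_not] at hcon
    obtain ⟨m, hm⟩ := exists_norm_eq hne hinv (b := (-1 : F)) (by rw [map_neg, map_one])
    have hm0 : m ≠ 0 := fun h => by rw [h, zero_mul] at hm; exact neg_ne_zero.mpr one_ne_zero hm.symm
    obtain ⟨θ, hθ⟩ : ∃ θ : F, σ θ ≠ θ := by
      by_contra h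
      simp only [not_exists, not_not] at h
      exact hne (RingEquiv.ext h)
    have hθ0 : θ ≠ 0 := fun h => hθ (by rw [h, map_zero])
    have hσθ : σ θ ≠ 0 := (map_ne_zero_iff _ σ.injective).mpr hθ0
    obtain ⟨l, hl⟩ : ∃ l, l = σ θ / θ := ⟨_, rfl⟩
    have hl1 : l ≠ 1 := fun h => hθ ((div_eq_one_iff_eq hθ0).mp (hl ▸ h))
    have hln : l * σ l = 1 := by rw [hl, map_div₀, hinv]; field_simp
    have himg : ∀ i, ∃ j, ∀ x ∈ D i, (g : Matrix _ _ F) *ᵥ x ∈ D j := by
      intro i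
      obtain ⟨u, hu, u', hu', huu, hu'u', huu', hu'u, hspan⟩ := hunitv i
      obtain ⟨e, he⟩ : ∃ e : F → Fin n → F, ∀ z, e z = u + (m * z) • u' := ⟨_, fun _ => rfl⟩
      have hee : ∀ z, z * σ z = 1 → f (e z) (e z) = 0 := fun z hz => by
        rw [he, hf.add_left, add_right' hf, add_right' hf, hf.smul_left, hf.smul_left, smul_right' hf,
          smul_right' hf, huu, hu'u', huu', hu'u, map_mul]
        linear_combination hm + m * σ m * hz
      have hin : ∀ z, z * σ z = 1 → ∃ j, (g : Matrix _ _ F) *ᵥ e z ∈ D j := by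
        intro z hz
        have hzD : e z ∈ D i := he z ▸ (D i).add_mem hu ((D i).smul_mem _ hu')
        have hfull : UFull σ f M (e z) := by
          fin_cases i
          · exact H.full_pure hf (hA ▸ hzD) (hee z hz)
          · exact H.symm.full_pure hf (hB ▸ hzD) (hee z hz)
        by_cases h : (g : Matrix _ _ F) *ᵥ e z ∈ A
        · exact ⟨0, hA ▸ h⟩
        · exact ⟨1, hB ▸ hcon _ (ufull_conj hf hgM hgi hfull) h⟩
      obtain ⟨j, hj⟩ := hin 1 (by simp)
      obtain ⟨j', hj'⟩ := hin l hln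
      have hjj : j = j' := by
        by_contra hne'
        have h1 : f ((g : Matrix _ _ F) *ᵥ e 1) ((g : Matrix _ _ F) *ᵥ e l) = 0 :=
          hff ▸ hD.orthogonal j j' hne' _ hj _ hj'
        rw [hgi, he, he, hf.add_left, add_right' hf, add_right' hf, hf.smul_left, hf.smul_left, smul_right' hf,
          smul_right' hf, huu, hu'u', huu', hu'u, map_mul] at h1
        refine hl1 (σ.injective ?_)
        rw [map_one]
        linear_combination -h1 + σ l * hm
      subst hjj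
      refine ⟨j, hspan g (D j) ?_ ?_⟩
      · have h2 := (D j).sub_mem hj' ((D j).smul_mem l hj)
        rw [← mulVec_smul, ← mulVec_sub, he, he, mul_one,
          show u + (m * l) • u' - l • (u + m • u') = (1 - l) • u by module, mulVec_smul,
          (D j).smul_mem_iff (sub_ne_zero.mpr (Ne.symm hl1))] at h2
        exact h2
      · have h2 := (D j).sub_mem hj' hj
        rw [← mulVec_sub, he, he, mul_one,
          show u + (m * l) • u' - (u + m • u') = (m * (l - 1)) • u' by module, mulVec_smul,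
          (D j).smul_mem_iff (mul_ne_zero hm0 (sub_ne_zero.mpr hl1))] at h2
        exact h2
    choose s hs using himg
    have himg : ∀ i, (D i).map (Matrix.toLin' (g : Matrix _ _ F)) = D (s i) := fun i =>
      map_gl_eq_of_le g (by rw [hD.decomp.finrank_eq, hD.decomp.finrank_eq]) (hs i)
    have hsne : s 0 ≠ s 1 := by
      intro h
      have h01 : D 0 = D 1 := Submodule.map_injective_of_injective
        (fun x y hxy => mulVec_injective g (by simpa using hxy)) ((himg 0).trans ((congrArg D h).trans (himg 1).symm))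
      obtain ⟨a, ha, -, -, haa, -⟩ := hunitv 0
      rw [hff, hD.orthogonal 0 1 (by decide) a ha a (h01 ▸ ha)] at haa
      exact zero_ne_one haa
    have hsinj : Function.Injective s := by
      intro i j hij
      fin_cases i <;> fin_cases j
      · rfl
      · exact absurd hij hsne
      · exact absurd hij.symm hsne
      · rfl
    exact hgD ⟨Equiv.ofBijective s hsinj.bijective_of_finite, himg⟩
  obtain ⟨y, hy, hy'⟩ := exists_neither hF hσ
  have ha1 : dcomp hint 0 u ≠ 0 := fun h => huB (by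
    rw [← hsplit u, h, zero_add]; exact hB ▸ dcomp_mem hint 1 u)
  have hb1 : dcomp hint 1 u ≠ 0 := fun h => huA (by
    rw [← hsplit u, h, add_zero]; exact hA ▸ dcomp_mem hint 0 u)
  rw [← hsplit u] at hu
  refine le_antisymm hMK (su_le_of_transv hF hσ hinv hne (by omega) fun v hv d hd => ?_)
  rw [← hff] at hv ⊢
  exact (H.spread hf hy hy' hc0 hc hc1 (hA ▸ dcomp_mem hint 0 u) (hB ▸ dcomp_mem hint 1 u) ha1 hb1 hu v hv).2 d hd

end CfsgLib.SUFour
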