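/-
Stabilisers of non-degenerate points are maximal in `SU_n(q)`, `n ≥ 4`.
-/
import Cfsg.Agent.Lib.SUFour.Transitive
import Cfsg.Agent.Lib.SUFour.Basic

set_option autoImplicit false
set_option linter.all false

namespace CfsgLib.SUFour

open Matrix Cfsg CfsgLib.Transvec CfsgLib.Transvec.Unitary
open scoped MatrixGroups

theorem isMaximalIn_point {F : Type*} [Field F] [Fintype F] (n q : ℕ) (hF : Fintype.card F = q ^ 2) (hn : 4 ≤ n)
    (W : Submodule F (Fin n → F)) (hW1 : Module.finrank F W = 1)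
    (hW : Cfsg.Geo.IsNondegenerateOn (Cfsg.hermForm n F q) W) :
    Cfsg.Geo.IsMaximalIn (Cfsg.GU n F q ⊓ Cfsg.Geo.specialLinear (Fin n) F)
      (Cfsg.Geo.subspaceStabilizer W ⊓ (Cfsg.GU n F q ⊓ Cfsg.Geo.specialLinear (Fin n) F)) := by
  classical
  obtain ⟨σ, hσ, hinv, hne⟩ := exists_frob hF
  have hf := isUnitaryForm_hermForm (n := n) hσ hinv hne
  obtain ⟨f, hff⟩ : ∃ f, f = Cfsg.hermForm n F q := ⟨_, rfl⟩
  rw [← hff] at hf
  have hnd : ∀ w ∈ W, w ≠ 0 → ∃ x ∈ W, f x w ≠ 0 := fun w hw h => hff ▸ (hW w hw h).1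
  obtain ⟨w₀, hw₀, hw₀0⟩ := Submodule.exists_mem_ne_zero_of_ne_bot (p := W) fun h => by
    rw [h, finrank_bot] at hW1; omega
  have hWspan : ∀ {z}, z ∈ W ↔ ∃ a : F, a • w₀ = z := fun {z} => by
    have h : Submodule.span F {w₀} = W := Submodule.eq_of_le_of_finrank_le
      ((Submodule.span_singleton_le_iff_mem _ _).mpr hw₀) (by rw [hW1, finrank_span_singleton hw₀0])
    rw [← h, Submodule.mem_span_singleton]
  have hw₀₀ : f w₀ w₀ ≠ 0 := by
    obtain ⟨x, hx, hxw⟩ := hnd w₀ hw₀ hw₀0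
    obtain ⟨a, rfl⟩ := hWspan.mp hx
    rw [hf.smul_left] at hxw
    exact right_ne_zero_of_mul hxw
  obtain ⟨k, hk⟩ := exists_norm_eq hne hinv (b := (f w₀ w₀)⁻¹) (by rw [map_inv₀, self_fixed hf])
  have hk0 : k ≠ 0 := fun h => by rw [h, zero_mul, eq_comm, inv_eq_zero] at hk; exact hw₀₀ hk
  obtain ⟨w, hw⟩ : ∃ w, w = k • w₀ := ⟨_, rfl⟩
  have hwW : w ∈ W := hw ▸ W.smul_mem _ hw₀
  have hww : f w w = 1 := by rw [hw, hf.smul_left, smul_right' hf, ← mul_assoc, hk, inv_mul_cancel₀ hw₀₀]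
  have hmemW : ∀ {z}, z ∈ W → ∃ a : F, a • w = z := fun {z} hz => by
    obtain ⟨a, rfl⟩ := hWspan.mp hz
    exact ⟨a * k⁻¹, by rw [hw, smul_smul, inv_mul_cancel_right₀ hk0]⟩
  obtain ⟨U, hU⟩ : ∃ U, U = perpU hf W := ⟨_, rfl⟩
  have horth : ∀ b ∈ U, f b w = 0 ∧ f w b = 0 := fun b hb =>
    ⟨(hU ▸ hb : b ∈ perpU hf W) w hwW, perp_left hf (hU ▸ hb) hwW⟩
  -- the stabiliser is transitive on the vectors of norm -1 in the complement
  obtain ⟨m, hm⟩ := exists_norm_eq hne hinv (b := (-1 : F)) (by rw [map_neg, map_one])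
  have hm0 : m ≠ 0 := fun h => by rw [h, zero_mul] at hm; exact neg_ne_zero.mpr one_ne_zero hm.symm
  have hmove : ∀ b ∈ U, ∀ b' ∈ U, f b b = -1 → f b' b' = -1 → ∃ h : GL (Fin n) F,
      h ∈ Cfsg.Geo.subspaceStabilizer W ⊓ (Cfsg.GU n F q ⊓ Cfsg.Geo.specialLinear (Fin n) F) ∧
      (h : Matrix (Fin n) (Fin n) F) *ᵥ (w + b) = w + b' := by
    intro b hb b' hb' hbb hbb'
    have hfam : ∀ b ∈ U, f b b = -1 → ∀ i j, f (![w, m⁻¹ • b] i) (![w, m⁻¹ • b] j) = if i = j then 1 else 0 := by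
      intro b hb hbb i j
      have hm' : m⁻¹ * (σ m⁻¹ * -1) = 1 := by
        rw [map_inv₀, ← mul_assoc, ← mul_inv, hm]; norm_num
      fin_cases i <;> fin_cases j <;>
        simp [hww, hbb, hf.smul_left, smul_right' hf, horth b hb]
      rw [← mul_inv, hm, inv_neg, inv_one, neg_neg]
    rw [hff] at hfam
    obtain ⟨h, hi, hd, hh⟩ := exists_map_det hF (hfam b hb (hff ▸ hbb)) (hfam b' hb' (hff ▸ hbb'))
      (by rw [Fintype.card_fin]; omega) (δ := 1) (by simp)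
    have h0 : (h : Matrix (Fin n) (Fin n) F) *ᵥ w = w := by simpa using hh 0
    have h1 : (h : Matrix (Fin n) (Fin n) F) *ᵥ b = b' := by
      have h2 := hh 1
      simp only [Matrix.cons_val_one, Matrix.cons_val_fin_one, mulVec_smul] at h2
      exact smul_right_injective _ (inv_ne_zero hm0) h2
    refine ⟨h, ⟨mem_subspaceStabilizer_of_maps fun z hz => ?_, hi, (mem_specialLinear_iff _).mpr hd⟩,
      by rw [mulVec_add, h0, h1]⟩
    obtain ⟨a, rfl⟩ := hmemW hz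
    rw [mulVec_smul, h0]
    exact W.smul_mem _ hwW
  have hstabT : ∀ v ∈ U, f v v = 0 → ∀ c, c + σ c = 0 → uT f v c ∈
      Cfsg.Geo.subspaceStabilizer W ⊓ (Cfsg.GU n F q ⊓ Cfsg.Geo.specialLinear (Fin n) F) := fun v hv hvv c hc =>
    ⟨uT_mem_stab_of_perp hf hvv (hU ▸ hv) c, hff ▸ uT_mem_SU hσ hinv hne (hff ▸ hvv) hc⟩
  -- isotropic vectors span the complement
  have hspan : ∀ x ∈ U, x ∈ Submodule.span F {v | v ∈ U ∧ f v v = 0} := by
    obtain ⟨b, hb, hbs⟩ := CfsgLib.Classical.exists_orthonormal_span hF U fun u hu h => by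
      by_contra hu0
      obtain ⟨x, hx, hxu⟩ := perpU_nondegenerate hf hnd u (hU ▸ hu) hu0
      exact hxu ((eq_zero_comm hf).mp (hff ▸ h x (hU ▸ hx)))
    rw [← hff] at hb
    have hd : 2 ≤ Module.finrank F U := by
      have h1 := finrank_perpU_ge hf W
      rw [Fintype.card_fin, ← hU, hW1] at h1
      omega
    have hbU : ∀ i, b i ∈ U := fun i => hbs.le (Submodule.subset_span ⟨i, rfl⟩)
    intro x hx
    refine Submodule.span_le.mpr ?_ (hbs.symm.le hx)
    rintro _ ⟨i, rfl⟩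
    obtain ⟨j, hj⟩ : ∃ j, j ≠ i := by
      by_cases h : i.1 = 0
      · exact ⟨⟨1, by omega⟩, fun e => by rw [← e] at h; simp at h⟩
      · exact ⟨⟨0, by omega⟩, fun e => h (by rw [← e])⟩
    exact mem_span_iso_plane hf (hbU i) (hbU j) (by rw [hb, if_pos rfl]) (by rw [hb, if_pos rfl])
      (by rw [hb, if_neg hj.symm])
  refine ⟨lt_of_le_not_ge inf_le_right fun hle => ?_, fun M hHM hMK => ?_⟩
  · obtain ⟨x, hx, hxw⟩ := exists_unit_perp hF (κ := Unit) (c := fun _ => w)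
      (fun _ _ => by rw [if_pos rfl, ← hff, hww]) (by rw [Fintype.card_unit]; omega)
    have hxw' : f w x = 0 := hff ▸ hxw ()
    rw [← hff] at hx
    have hv : f (w + m • x) (w + m • x) = 0 := by
      rw [hf.add_left, add_right' hf, add_right' hf, hf.smul_left, hf.smul_left, smul_right' hf, smul_right' hf,
        hww, hxw', (eq_zero_comm hf).mp hxw', hx]
      linear_combination hm
    obtain ⟨c, hc0, hc⟩ := exists_skew hne hinv
    have h := mulVec_mem_of_mem_subspaceStabilizer (hle (uT_mem_SU hσ hinv hne (hff ▸ hv) hc)).1 hwW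
    rw [← hff, uT_mulVec hf hv, W.add_mem_iff_right hwW, add_right' hf, hww, smul_right' hf, hxw', mul_zero,
      add_zero, mul_one, W.smul_mem_iff hc0, W.add_mem_iff_right hwW, W.smul_mem_iff hm0] at h
    obtain ⟨a, ha⟩ := hmemW h
    have h' := hxw'
    rw [← ha, smul_right' hf, hww, mul_one, map_eq_zero_iff _ σ.injective] at h'
    rw [← ha, h', zero_smul, zero_left' hf] at hx
    exact zero_ne_one hx
  by_cases hM : M ≤ Cfsg.Geo.subspaceStabilizer W
  · exact Or.inl (le_antisymm (le_inf hM hMK) hHM)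
  right
  obtain ⟨g, hgM, hgW⟩ := SetLike.not_le_iff_exists.mp hM
  have hgi : Iso f g := hff ▸ (hMK hgM).1
  obtain ⟨u, hu, huU⟩ : ∃ u, UFull σ f M u ∧ u ∉ U := by
    by_contra hcon
    simp only [not_exists, not_and, not_not] at hcon
    have hall : ∀ x ∈ U, (g : Matrix (Fin n) (Fin n) F) *ᵥ x ∈ U := by
      intro x hx
      refine Submodule.span_induction (p := fun x _ => (g : Matrix (Fin n) (Fin n) F) *ᵥ x ∈ U) ?_ ?_ ?_ ?_
        (hspan x hx)
      · rintro y ⟨hy, hyy⟩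
        exact hcon _ (ufull_conj hf hgM hgi ⟨hyy, fun c hc => hHM (hstabT y hy hyy c hc)⟩)
      · rw [mulVec_zero]; exact U.zero_mem
      · intro a b _ _ ha hb; rw [mulVec_add]; exact U.add_mem ha hb
      · intro c a _ ha; rw [mulVec_smul]; exact U.smul_mem _ ha
    refine hgW (mem_subspaceStabilizer_of_maps fun z hz => ?_)
    rw [← perpU_perpU hf W, ← hU]
    intro y hy
    rw [← map_gl_eq_of_le g rfl hall] at hy
    obtain ⟨x, hx, rfl⟩ := hy
    rw [Matrix.toLin'_apply, hgi]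
    exact perp_left hf (hU ▸ hx) hz
  have hnorm : ∀ x, f x x = 0 → x ∉ U → ∃ a : F, a ≠ 0 ∧ ∃ b ∈ U, f b b = -1 ∧ x = a • (w + b) := by
    intro x hxx hxU
    obtain ⟨z, hz, b, hb, rfl⟩ := exists_add_perpU hf hnd x
    rw [← hU] at hb
    obtain ⟨a, rfl⟩ := hmemW hz
    have ha : a ≠ 0 := fun h => hxU (by rw [h, zero_smul, zero_add]; exact hb)
    refine ⟨a, ha, a⁻¹ • b, U.smul_mem _ hb, ?_, by rw [smul_add, smul_inv_smul₀ ha]⟩
    rw [hf.add_left, add_right' hf, add_right' hf, hf.smul_left, hf.smul_left, smul_right' hf, smul_right' hf,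
      hww, (horth b hb).1, (horth b hb).2] at hxx
    rw [hf.smul_left, smul_right' hf, map_inv₀]
    have hσa : σ a ≠ 0 := (map_ne_zero_iff _ σ.injective).mpr ha
    field_simp
    linear_combination hxx
  refine le_antisymm hMK (su_le_of_transv hF hσ hinv hne hn fun v hv c hc => ?_)
  rw [← hff] at hv ⊢
  by_cases hvU : v ∈ U
  · exact hHM (hstabT v hvU hv c hc)
  obtain ⟨a, ha, b, hb, hbb, rfl⟩ := hnorm v hv hvU
  obtain ⟨a₀, ha₀, b₀, hb₀, hb₀₀, rfl⟩ := hnorm u hu.1 huU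
  obtain ⟨h, hh, hhe⟩ := hmove b₀ hb₀ b hb hb₀₀ hbb
  have h1 := ufull_smul hf (ufull_conj hf (hHM hh) (hff ▸ hh.2.1) hu) (a * a₀⁻¹)
  rw [mulVec_smul, hhe, smul_smul, inv_mul_cancel_right₀ ha₀] at h1
  exact h1.2 c hc

end CfsgLib.SUFour
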