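/-
Stabilisers of totally isotropic subspaces and symplectic subfield groups in `SU_4(q)`.
-/
import Cfsg.Agent.Lib.SUFour.Basic
import Cfsg.Agent.S5653
import Cfsg.Agent.S5660

set_option autoImplicit false

namespace CfsgLib.SUFour

open Matrix Cfsg CfsgLib.Transvec CfsgLib.Transvec.Unitary
open scoped MatrixGroups

variable {F : Type*} [Field F] [Fintype F]

theorem isMaximalIn_singular (n q : ℕ) (hF : Fintype.card F = q ^ 2) (hn : 4 ≤ n)
    (W : Submodule F (Fin n → F)) (hW0 : W ≠ ⊥)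
    (hW : Cfsg.Geo.IsTotallySingularFor (Cfsg.hermForm n F q) W) :
    Cfsg.Geo.IsMaximalIn (Cfsg.GU n F q ⊓ Cfsg.Geo.specialLinear (Fin n) F)
      (Cfsg.Geo.subspaceStabilizer W ⊓ (Cfsg.GU n F q ⊓ Cfsg.Geo.specialLinear (Fin n) F)) := by
  obtain ⟨σ, hσ, hinv, hne⟩ := exists_frob hF
  have hf := isUnitaryForm_hermForm (n := n) hσ hinv hne
  refine ⟨lt_of_le_not_ge inf_le_right fun hle => ?_, fun M hHM hMK => ?_⟩
  · obtain ⟨w, hw, hw0⟩ := Submodule.exists_mem_ne_zero_of_ne_bot hW0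
    obtain ⟨y, hy, hyw'⟩ := CfsgLib.Classical.Unitary.exists_iso_partner hf (hW w hw w hw) hw0
    have hyw : Cfsg.hermForm n F q y w ≠ 0 := by rw [hyw']; exact one_ne_zero
    obtain ⟨c, hc0, hc⟩ := exists_skew hne hinv
    have h := mulVec_mem_of_mem_subspaceStabilizer (hle (uT_mem_SU hσ hinv hne hy hc)).1 hw
    rw [uT_mulVec hf hy, W.add_mem_iff_right hw,
      W.smul_mem_iff (mul_ne_zero hc0 fun h0 => hyw ((eq_zero_comm hf).mp h0))] at h
    exact hyw (hW y h w hw)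
  by_cases hM : M ≤ Cfsg.Geo.subspaceStabilizer W
  · exact Or.inl (le_antisymm (le_inf hM hMK) hHM)
  right
  obtain ⟨g, hgM, hg⟩ := SetLike.not_le_iff_exists.mp hM
  refine le_antisymm hMK (su_le_of_transv hF hσ hinv hne hn fun v hv c hc => ?_)
  exact (Cfsg.Agent.S5653.all_full hf hW
    (fun h hi hdet hs => hHM ⟨hs, hi, (mem_specialLinear_iff h).mpr hdet⟩) hgM
    (hMK hgM).1 hg v hv).2 c hc

end CfsgLib.SUFour
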