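/-
Six coordinates over the field with three elements: overgroups of the even monomial isometries.
-/
import Cfsg.Agent.Lib.Classical22.SLFour.SixPair

set_option autoImplicit false

namespace CfsgLib.SUFour.SixThree

open Cfsg CfsgLib.Classical CfsgLib.Classical22 CfsgLib.Classical22.Frame CfsgLib.SLFour.Six
open scoped Matrix _root_.Classical

variable {F : Type*} [Field F] [Fintype F] {H : Subgroup (qAut (sq F 6))}

/-- Over the field with three elements, monomial axis stabilisers give a monomial group. -/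
theorem all_mono (B : Base H) (hst : ∀ g ∈ H, ∀ i, g.1 (ax i) = ax i → Mono g) (h3 : (3 : F) = 0) :
    ∀ g ∈ H, Mono g := by
  have h2 := B.two
  have hone : (1 : F) ≠ 0 := one_ne_zero
  have hprH : ∀ {a b : Fin 6}, a ≠ b → pr F a b ∈ H := fun {a b} h =>
    B.sgn_mem _ (by rw [Finset.card_pair h]; exact ⟨1, rfl⟩)
  -- a column on one axis
  have hcolone : ∀ g ∈ H, ∀ (i j : Fin 6) (s : F), g.1 (ax i) = s • ax j → Mono g := by
    intro g hg i j s h
    obtain ⟨m, hm, hmm, hmj⟩ : ∃ m ∈ H, Mono m ∧ m.1 (ax j : Fin 6 → F) = ax i := by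
      by_cases hji : j = i
      · exact ⟨1, H.one_mem, (monoGroup F 6).one_mem, by rw [hji]; rfl⟩
      obtain ⟨k, hk⟩ := exists_out (A := {i, j}) (lt_of_le_of_lt Finset.card_le_two (by norm_num))
      simp only [Finset.mem_insert, Finset.mem_singleton, not_or] at hk
      exact ⟨cy h2 hji (Ne.symm hk.1), B.cyc j i k hji (Ne.symm hk.1) (Ne.symm hk.2),
        cy_mono hji (Ne.symm hk.1) (Ne.symm hk.2), cy_a hji (Ne.symm hk.1) (Ne.symm hk.2)⟩
    obtain ⟨q, hq, hqm, hqi⟩ : ∃ q ∈ H, Mono q ∧ q.1 (s • ax i : Fin 6 → F) = ax i := by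
      rcases mul_self_eq_one_iff.1 (mono_coeff h) with rfl | rfl
      · exact ⟨1, H.one_mem, (monoGroup F 6).one_mem, by rw [one_smul]; rfl⟩
      obtain ⟨l, hl⟩ := exists_out (A := {i}) (by simp)
      rw [Finset.mem_singleton] at hl
      exact ⟨_, hprH (Ne.symm hl), pr_mono _ _, by
        rw [map_smul, sgn_ax, if_pos (by simp), neg_one_smul, neg_neg]⟩
    have hmg := hst _ (H.mul_mem (H.mul_mem hq hm) hg) i (by
      rw [qAut_mul_apply, qAut_mul_apply, h, map_smul, hmj, hqi])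
    have := (monoGroup F 6).mul_mem ((monoGroup F 6).inv_mem ((monoGroup F 6).mul_mem (mem_monoGroup.2 hqm)
      (mem_monoGroup.2 hmm))) (mem_monoGroup.2 hmg)
    rwa [inv_mul_cancel_left] at this
  intro g₁ hg₁
  by_contra hnm₁
  have hweight : ∀ g ∈ H, ¬ Mono g → ∀ j, (supp (g.1 (ax j))).card = 4 := by
    intro g hg hnm j
    have h := dot_self_three B.prime h3 (g.1 (ax j))
    rw [col_unit h2] at h
    have h6 : (supp (g.1 (ax j))).card ≤ 6 := (Finset.card_le_univ _).trans (by simp)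
    by_contra h4
    interval_cases hc : (supp (g.1 (ax j))).card
    · exact hone (by simpa using h)
    · obtain ⟨l, hl⟩ := Finset.card_eq_one.1 hc
      refine hnm (hcolone g hg j l (g.1 (ax j) l) (funext fun i => ?_))
      by_cases hil : i = l
      · subst hil; rw [Pi.smul_apply, ax_self, smul_eq_mul, mul_one]
      · rw [Pi.smul_apply, ax_ne hil, smul_zero]; exact eq_zero_of_supp hl.le (by simpa using hil)
    · exact hone (by push_cast at h; linear_combination -h)
    · exact hone (by push_cast at h; linear_combination h + h3)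
    · exact h4 rfl
    · exact hone (by push_cast at h; linear_combination -h - h3)
    · exact hone (by push_cast at h; linear_combination h + 2 * h3)
  -- the first column has four ones
  obtain ⟨S, hSd⟩ : ∃ S, S = supp (g₁.1 (ax 0)) := ⟨_, rfl⟩
  have hS4 : S.card = 4 := hSd ▸ hweight g₁ hg₁ hnm₁ 0
  obtain ⟨e, f, hef, hSc⟩ := Finset.card_eq_two.1 (show Sᶜ.card = 2 by
    rw [Finset.card_compl, hS4, Fintype.card_fin])
  have hmemS : ∀ i, i ∈ S ↔ i ≠ e ∧ i ≠ f := fun i => by
    have : i ∈ Sᶜ ↔ i = e ∨ i = f := by simp [hSc]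
    rw [Finset.mem_compl] at this
    tauto
  obtain ⟨D, hDev, hD⟩ : ∃ D : Finset (Fin 6), Even D.card ∧
      ∀ i ∈ S, (sgn F D).1 (g₁.1 (ax 0)) i = 1 := by
    obtain ⟨N, hN⟩ : ∃ N, N = S.filter fun i => g₁.1 (ax 0) i ≠ 1 := ⟨_, rfl⟩
    have hval : ∀ i ∈ S, g₁.1 (ax 0) i * g₁.1 (ax 0) i = 1 := fun i hi =>
      mul_self_of_three B.prime h3 (mem_supp.1 (hSd ▸ hi))
    have heN : e ∉ N := fun h => ((hmemS e).1 (Finset.mem_filter.1 (hN ▸ h)).1).1 rfl
    have hrest : ∀ D : Finset (Fin 6), (∀ i ∈ S, i ∈ D ↔ i ∈ N) → ∀ i ∈ S, (sgn F D).1 (g₁.1 (ax 0)) i = 1 := by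
      intro D hD i hi
      rw [sgn_apply]
      by_cases h : g₁.1 (ax 0) i = 1
      · rw [if_neg, h]
        rw [hD i hi, hN, Finset.mem_filter]
        exact fun h' => h'.2 h
      · rw [if_pos ((hD i hi).2 (hN ▸ Finset.mem_filter.2 ⟨hi, h⟩)),
          (mul_self_eq_one_iff.1 (hval i hi)).resolve_left h, neg_neg]
    rcases Nat.even_or_odd N.card with hev | hod
    · exact ⟨N, hev, hrest N fun i _ => Iff.rfl⟩
    · refine ⟨insert e N, by rw [Finset.card_insert_of_notMem heN]; exact hod.add_one, hrest _ fun i hi => ?_⟩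
      rw [Finset.mem_insert, or_iff_right ((hmemS i).1 hi).1]
  obtain ⟨g, hgd⟩ : ∃ g, g = sgn F D * g₁ := ⟨_, rfl⟩
  have hg : g ∈ H := hgd ▸ H.mul_mem (B.sgn_mem D hDev) hg₁
  have hnm : ¬ Mono g := fun hm => hnm₁ (by
    have hDm : sgn F D ∈ monoGroup F 6 := fun i => by
      rw [sgn_ax]
      split_ifs
      · exact ⟨i, -1, by rw [neg_one_smul]⟩
      · exact ⟨i, 1, by rw [one_smul]⟩
    have h := (monoGroup F 6).mul_mem hDm (mem_monoGroup.2 hm)
    rwa [hgd, ← mul_assoc, sgn_mul_self, one_mul] at h)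
  obtain ⟨v, hv⟩ : ∃ v, v = g.1 (ax 0) := ⟨_, rfl⟩
  have hvS : ∀ i ∈ S, v i = 1 := fun i hi => by rw [hv, hgd, qAut_mul_apply]; exact hD i hi
  have hvo : ∀ i ∉ S, v i = 0 := fun i hi => by
    rw [hv, hgd, qAut_mul_apply, sgn_apply, eq_zero_of_supp hSd.ge hi, neg_zero, ite_self]
  -- some column is non-zero at `e`
  obtain ⟨j, hj⟩ : ∃ j, g.1 (ax j) e ≠ 0 := by
    by_contra hcon
    push Not at hcon
    have h := congrFun (show g.1 ((g⁻¹).1 (ax e)) = ax e by rw [qApply_inv_self]) e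
    rw [eq_sum_ax ((g⁻¹).1 (ax e)), map_sum, Finset.sum_apply, Finset.sum_eq_zero fun i _ => by
      rw [map_smul, Pi.smul_apply, hcon i, smul_zero], ax_self] at h
    exact hone h.symm
  have hj0 : j ≠ 0 := fun h => hj (by rw [h, ← hv, hvo e (by simp [hmemS])])
  obtain ⟨w, hw⟩ : ∃ w, w = g.1 (ax j) := ⟨_, rfl⟩
  rw [← hw] at hj
  have hw4 : (supp w).card = 4 := hw ▸ hweight g hg hnm j
  have hww : w ⬝ᵥ w = 1 := by rw [hw, col_unit h2]
  have hvw : v ⬝ᵥ w = 0 := by rw [hv, hw, col_orth h2 g (Ne.symm hj0)]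
  -- elements fixing the first column move `w` to a column
  have himg : ∀ m ∈ H, m.1 v = v → m.1 w = w ∨ m.1 w = -w ∨ w ⬝ᵥ m.1 w = 0 := by
    intro m hm hfix
    obtain ⟨k, σ, hk⟩ := hst (g⁻¹ * m * g) (H.mul_mem (H.mul_mem (H.inv_mem hg) hm) hg) 0 (by
      rw [qAut_mul_apply, qAut_mul_apply, ← hv, hfix, hv, qInv_apply_self]) j
    have h := congrArg g.1 hk
    rw [qAut_mul_apply, qAut_mul_apply, qApply_inv_self, map_smul, ← hw] at h
    by_cases hkj : k = j
    · subst hkj
      rw [h, ← hw]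
      rcases mul_self_eq_one_iff.1 (mono_coeff hk) with e | e <;> rw [e]
      · exact Or.inl (one_smul _ _)
      · exact Or.inr (Or.inl (neg_one_smul _ _))
    · right; right
      rw [h, dotProduct_smul, hw, col_orth h2 g (Ne.symm hkj), smul_zero]
  by_cases hwf : w f = 0
  · -- one of the two outer coordinates
    have hne : ∃ l, l ≠ e ∧ l ≠ f ∧ w l ≠ 0 := by
      by_contra hcon
      push Not at hcon
      have := Finset.card_le_card (show supp w ⊆ {e} from supp_subset fun i hi => by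
        rw [Finset.mem_singleton] at hi
        by_cases hif : i = f
        · exact hif ▸ hwf
        · exact hcon i hi hif)
      rw [hw4, Finset.card_singleton] at this
      omega
    obtain ⟨l, hle, hlf, hl⟩ := hne
    rcases himg (pr F e f) (hprH hef) (pr_fix (hvo e (by simp [hmemS])) (hvo f (by simp [hmemS]))) with h | h | h
    · have := congrFun h e
      rw [sgn_apply, if_pos (by simp)] at this
      exact hj ((mul_eq_zero.1 (show (2 : F) * w e = 0 by linear_combination -this)).resolve_left h2)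
    · have := congrFun h l
      rw [sgn_apply, if_neg (by simp [hle, hlf]), Pi.neg_apply] at this
      exact hl ((mul_eq_zero.1 (show (2 : F) * w l = 0 by linear_combination this)).resolve_left h2)
    · have he2 := mul_self_of_three B.prime h3 hj
      rw [pr_apply hef, dotProduct_sub, dotProduct_sub, dotProduct_smul, dotProduct_smul, hww, dot_ax, dot_ax, hwf,
        smul_eq_mul, smul_eq_mul, mul_zero, sub_zero] at h
      exact hone (by linear_combination -h - 2 * he2)
  -- both outer coordinates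
  obtain ⟨x, y, hxy, hwS⟩ := Finset.card_eq_two.1 (show (((supp w).erase e).erase f).card = 2 by
    rw [Finset.card_erase_of_mem (Finset.mem_erase.2 ⟨Ne.symm hef, mem_supp.2 hwf⟩),
      Finset.card_erase_of_mem (mem_supp.2 hj), hw4])
  have hmemw : ∀ i, (i = x ∨ i = y) ↔ i ≠ f ∧ i ≠ e ∧ w i ≠ 0 := fun i => by
    rw [show (i = x ∨ i = y) ↔ i ∈ ({x, y} : Finset (Fin 6)) by simp, ← hwS, Finset.mem_erase, Finset.mem_erase,
      mem_supp]
  obtain ⟨hxf, hxe, hwx⟩ := (hmemw x).1 (Or.inl rfl)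
  obtain ⟨hyf, hye, hwy⟩ := (hmemw y).1 (Or.inr rfl)
  obtain ⟨z, hz⟩ := exists_out (A := {e, f, x, y}) (lt_of_le_of_lt Finset.card_le_four (by norm_num))
  simp only [Finset.mem_insert, Finset.mem_singleton, not_or] at hz
  obtain ⟨hze, hzf, hzx, hzy⟩ := hz
  have hwz : w z = 0 := by
    by_contra h
    rcases (hmemw z).2 ⟨hzf, hze, h⟩ with h' | h'
    · exact hzx h'
    · exact hzy h'
  have hwo : ∀ i, i ≠ e → i ≠ f → i ≠ x → i ≠ y → w i = 0 := fun i h1 h1' h1'' h1''' => by
    by_contra h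
    rcases (hmemw i).2 ⟨h1', h1, h⟩ with h' | h'
    · exact h1'' h'
    · exact h1''' h'
  have hwxy : w y = -w x := by
    rw [dot_eq_sum (T := S) (supp_subset fun i hi => hvo i hi), Finset.sum_eq_add x y hxy (fun i hi hne => by
      obtain ⟨hie, hif⟩ := (hmemS i).1 hi
      rw [hwo i hie hif hne.1 hne.2, mul_zero]) (fun h => absurd ((hmemS x).2 ⟨hxe, hxf⟩) h)
      (fun h => absurd ((hmemS y).2 ⟨hye, hyf⟩) h), hvS x ((hmemS x).2 ⟨hxe, hxf⟩),
      hvS y ((hmemS y).2 ⟨hye, hyf⟩)] at hvw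
    linear_combination hvw
  have hyz : y ≠ z := Ne.symm hzy
  have hxz : x ≠ z := Ne.symm hzx
  obtain ⟨m, hm⟩ : ∃ m, m = cy h2 hxy hyz := ⟨_, rfl⟩
  have hmH : m ∈ H := hm ▸ B.cyc x y z hxy hyz hxz
  have hmx : ∀ u : Fin 6 → F, m.1 u = u + (u z - u x) • ax x + (u x - u y) • ax y + (u y - u z) • ax z := by
    intro u
    rw [hm, qAut_mul_apply, swp_apply, swp_apply]
    simp only [Pi.sub_apply, Pi.smul_apply, ax_self, ax_ne hxy, ax_ne hxz, ax_ne (Ne.symm hxy), ax_ne (Ne.symm hxz),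
      ax_ne hyz, ax_ne (Ne.symm hyz), smul_eq_mul]
    module
  have hfix : m.1 v = v := by
    rw [hmx, hvS x ((hmemS x).2 ⟨hxe, hxf⟩), hvS y ((hmemS y).2 ⟨hye, hyf⟩), hvS z ((hmemS z).2 ⟨hze, hzf⟩)]
    simp
  have hmz : m.1 w z = w y := by
    rw [hmx]
    simp [ax_self, ax_ne (Ne.symm hxz), ax_ne (Ne.symm hyz), hwz]
  rcases himg m hmH hfix with h | h | h
  · exact hwy (by rw [← hmz, h, hwz])
  · exact hwy (by rw [← hmz, h, Pi.neg_apply, hwz, neg_zero])
  · have hx2 := mul_self_of_three B.prime h3 hwx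
    rw [hmx, dotProduct_add, dotProduct_add, dotProduct_add, dotProduct_smul, dotProduct_smul, dotProduct_smul, hww,
      dot_ax, dot_ax, dot_ax, hwz, hwxy, smul_eq_mul, smul_eq_mul, smul_eq_mul] at h
    exact hone (by linear_combination h + 3 * hx2 + h3)

end CfsgLib.SUFour.SixThree
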