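/-
Rational structures on unitary spaces: orthogonals, representation of functionals, isotropic vectors.
-/
import Cfsg.Agent.Lib.Transvec.UnitaryPair

set_option autoImplicit false

namespace CfsgLib.SUFour.SubHerm

open CfsgLib.Transvec CfsgLib.Transvec.Unitary

variable {ι : Type} [Fintype ι] [DecidableEq ι] {F : Type*} [Field F] [Finite F]

/-- A rational structure on a unitary space: a space over a subfield, spanning, on which the form has values in the
subfield and has enough isotropic vectors. -/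
structure Setting (σ : F ≃+* F) (f : (ι → F) → (ι → F) → F) (F₀ : Subfield F) (R₀ : Submodule F₀ (ι → F)) :
    Prop where
  uni : Cfsg.Geo.IsUnitaryForm σ f
  stable : ∀ c ∈ F₀, σ c ∈ F₀
  rat : ∀ a ∈ R₀, ∀ b ∈ R₀, f a b ∈ F₀
  span : ∀ v, v ∈ Submodule.span F (R₀ : Set (ι → F))
  trace : ∀ b ∈ F₀, σ b = b → ∃ a ∈ F₀, a + σ a = b
  iso2 : ∀ S ≤ R₀, 2 ≤ Module.finrank F₀ S → ∃ u ∈ S, u ≠ 0 ∧ f u u = 0
  dim : 4 ≤ Module.finrank F₀ R₀

/-- A rational vector multiplied by a scalar. -/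
def IsPoint {F₀ : Subfield F} (R₀ : Submodule F₀ (ι → F)) (v : ι → F) : Prop :=
  ∃ r ∈ R₀, ∃ t : F, v = t • r

variable {σ : F ≃+* F} {f : (ι → F) → (ι → F) → F} {F₀ : Subfield F} {R₀ : Submodule F₀ (ι → F)}

theorem coe_smul_eq (c : F₀) (v : ι → F) : c • v = (c : F) • v := Subfield.smul_def c v

theorem smul_mem_rat {S : Submodule F₀ (ι → F)} {c : F} (hc : c ∈ F₀) {v : ι → F} (hv : v ∈ S) : c • v ∈ S := by
  have h := S.smul_mem (⟨c, hc⟩ : F₀) hv
  rwa [coe_smul_eq] at h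

/-- The linear functional given by the product with a rational vector. -/
def Setting.lin (E : Setting σ f F₀ R₀) (a : ι → F) (ha : a ∈ R₀) : R₀ →ₗ[F₀] F₀ where
  toFun v := ⟨f v a, E.rat v v.2 a ha⟩
  map_add' v w := Subtype.ext (E.uni.add_left v w a)
  map_smul' c v := Subtype.ext (by
    show f ((c • v : R₀) : ι → F) a = _
    rw [Submodule.coe_smul, coe_smul_eq, E.uni.smul_left]
    rfl)

/-- The vectors of `S` orthogonal to `a`. -/
def perpIn (hf : Cfsg.Geo.IsUnitaryForm σ f) (S : Submodule F₀ (ι → F)) (a : ι → F) :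
    Submodule F₀ (ι → F) where
  carrier := {v | v ∈ S ∧ f v a = 0}
  zero_mem' := ⟨S.zero_mem, zero_left' hf a⟩
  add_mem' hv hw := ⟨S.add_mem hv.1 hw.1, by rw [hf.add_left, hv.2, hw.2, add_zero]⟩
  smul_mem' c v hv := ⟨S.smul_mem c hv.1, by rw [coe_smul_eq, hf.smul_left, hv.2, mul_zero]⟩

namespace Setting

variable (E : Setting σ f F₀ R₀)
include E

theorem eq_zero_of_perp {z : ι → F} (h : ∀ r ∈ R₀, f r z = 0) : z = 0 := by
  by_contra hz
  obtain ⟨x, hx⟩ := (E.uni.nondegenerate z hz).1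
  refine hx ?_
  clear hx
  induction E.span x using Submodule.span_induction with
  | mem a ha => exact h a ha
  | zero => exact zero_left' E.uni z
  | add a b _ _ ha hb => rw [E.uni.add_left, ha, hb, add_zero]
  | smul t a _ ha => rw [E.uni.smul_left, ha, mul_zero]

theorem perpIn_le {S : Submodule F₀ (ι → F)} (a : ι → F) : perpIn E.uni S a ≤ S := fun _ h => h.1

theorem finrank_le_perpIn {S : Submodule F₀ (ι → F)} (hS : S ≤ R₀) {a : ι → F} (ha : a ∈ R₀) :
    Module.finrank F₀ S ≤ Module.finrank F₀ (perpIn E.uni S a) + 1 := by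
  obtain ⟨φ, hφ⟩ : ∃ φ, φ = (E.lin a ha).comp (Submodule.inclusion hS) := ⟨_, rfl⟩
  have h1 := LinearMap.finrank_range_add_finrank_ker φ
  have h2 := Submodule.finrank_le (LinearMap.range φ)
  rw [Module.finrank_self] at h2
  have hle : (LinearMap.ker φ).map S.subtype ≤ perpIn E.uni S a := by
    rintro _ ⟨⟨v, hv⟩, hvk, rfl⟩
    refine ⟨hv, ?_⟩
    rw [hφ] at hvk
    exact congrArg Subtype.val (LinearMap.mem_ker.1 hvk)
  have h3 := Submodule.finrank_mono hle
  rw [Submodule.finrank_map_subtype_eq] at h3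
  omega

theorem lin_bijective : Function.Bijective fun u : R₀ => E.lin u u.2 := by
  have hinj : Function.Injective fun u : R₀ => E.lin u u.2 := by
    intro u w h
    refine Subtype.ext (sub_eq_zero.1 (E.eq_zero_of_perp fun r hr => ?_))
    have := congrArg Subtype.val (LinearMap.congr_fun h ⟨r, hr⟩)
    change f r u = f r w at this
    rw [sub_right' E.uni, this, sub_self]
  haveI : Finite (R₀ →ₗ[F₀] F₀) := Module.finite_of_finite F₀
  refine hinj.bijective_of_nat_card_le ?_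
  rw [Module.natCard_eq_pow_finrank (K := F₀) (V := R₀ →ₗ[F₀] F₀),
    Module.natCard_eq_pow_finrank (K := F₀) (V := R₀), Subspace.dual_finrank_eq]

/-- A rational functional is the product with a rational vector. -/
theorem exists_rep_lin (g : R₀ →ₗ[F₀] F₀) : ∃ u ∈ R₀, ∀ r : R₀, f r u = (g r : F) := by
  obtain ⟨⟨u, hu⟩, he⟩ := E.lin_bijective.2 g
  exact ⟨u, hu, fun r => congrArg Subtype.val (LinearMap.congr_fun he r)⟩

/-- Separation of a rational vector from a rational subspace. -/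
theorem exists_sep {P : Submodule F₀ (ι → F)} (hP : P ≤ R₀) {u : ι → F} (hu : u ∈ R₀) (huP : u ∉ P) :
    ∃ r ∈ R₀, (∀ p ∈ P, f r p = 0) ∧ f r u = 1 := by
  obtain ⟨P', hP'⟩ : ∃ P', P' = P.comap R₀.subtype := ⟨_, rfl⟩
  have hu' : (⟨u, hu⟩ : R₀) ∉ P' := by rw [hP']; exact huP
  obtain ⟨g, hg, hgP⟩ := Submodule.exists_dual_map_eq_bot_of_notMem hu' inferInstance
  obtain ⟨r, hr, hrg⟩ := E.exists_rep_lin g
  obtain ⟨d, hd⟩ : ∃ d, d = (σ (g ⟨u, hu⟩ : F))⁻¹ := ⟨_, rfl⟩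
  have hdF : d ∈ F₀ := hd ▸ inv_mem (E.stable _ (g ⟨u, hu⟩).2)
  refine ⟨d • r, smul_mem_rat hdF hr, fun p hp => ?_, ?_⟩
  · rw [E.uni.smul_left]
    have : g ⟨p, hP hp⟩ = 0 := (Submodule.mem_bot F₀).1
      (hgP ▸ Submodule.mem_map_of_mem (f := g) (show (⟨p, hP hp⟩ : R₀) ∈ P' by rw [hP']; exact hp))
    rw [(eq_zero_comm E.uni).1 (show f p r = 0 by rw [hrg ⟨p, hP hp⟩, this]; rfl), mul_zero]
  · rw [E.uni.smul_left, E.uni.herm r u, hrg ⟨u, hu⟩, hd, inv_mul_cancel₀]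
    exact (map_ne_zero_iff _ σ.injective).2 fun h => hg (Subtype.ext h)

/-- A rational vector in the span of rational vectors is in their rational span. -/
theorem mem_of_mem_span {P : Submodule F₀ (ι → F)} (hP : P ≤ R₀) {u : ι → F} (hu : u ∈ R₀)
    (h : u ∈ Submodule.span F (P : Set (ι → F))) : u ∈ P := by
  by_contra huP
  obtain ⟨r, -, hrP, hru⟩ := E.exists_sep hP hu huP
  have h0 : f r u = 0 := by
    clear hru huP hu
    induction h using Submodule.span_induction with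
    | mem a ha => exact hrP a ha
    | zero => exact zero_right' E.uni r
    | add a b _ _ ha hb => rw [add_right' E.uni, ha, hb, add_zero]
    | smul t a _ ha => rw [smul_right' E.uni, ha, mul_zero]
  exact one_ne_zero (hru.symm.trans h0)

theorem exists_dual {x : ι → F} (hx : x ∈ R₀) (hx0 : x ≠ 0) : ∃ y ∈ R₀, f y x = 1 := by
  obtain ⟨r, hr, -, h⟩ := E.exists_sep (bot_le : (⊥ : Submodule F₀ (ι → F)) ≤ R₀) hx (by simpa using hx0)
  exact ⟨r, hr, h⟩

/-- Rational isotropic partners. -/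
theorem exists_partner {S : Submodule F₀ (ι → F)} (hS : S ≤ R₀) {u r : ι → F} (hu : u ∈ S) (hr : r ∈ S)
    (huu : f u u = 0) (hur : f r u ≠ 0) : ∃ z ∈ S, f z z = 0 ∧ f z u = 1 ∧ f u z = 1 := by
  obtain ⟨z₀, hz₀⟩ : ∃ z₀, z₀ = (f r u)⁻¹ • r := ⟨_, rfl⟩
  have hz₀S : z₀ ∈ S := hz₀ ▸ smul_mem_rat (inv_mem (E.rat r (hS hr) u (hS hu))) hr
  have hz₀u : f z₀ u = 1 := by rw [hz₀, E.uni.smul_left, inv_mul_cancel₀ hur]
  have huz₀ : f u z₀ = 1 := by rw [E.uni.herm, hz₀u, map_one]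
  obtain ⟨t, ht, htr⟩ := E.trace (-f z₀ z₀) (neg_mem (E.rat _ (hS hz₀S) _ (hS hz₀S)))
    (by rw [map_neg, self_fixed E.uni])
  refine ⟨z₀ + t • u, S.add_mem hz₀S (smul_mem_rat ht hu), ?_, ?_, ?_⟩
  · simp only [E.uni.add_left, add_right' E.uni, E.uni.smul_left, smul_right' E.uni, hz₀u, huz₀, huu]
    linear_combination htr
  · rw [E.uni.add_left, E.uni.smul_left, hz₀u, huu, mul_zero, add_zero]
  · rw [add_right' E.uni, smul_right' E.uni, huz₀, huu, mul_zero, add_zero]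

/-- A space containing a hyperbolic pair is spanned by its isotropic vectors outside the radical. -/
theorem mem_span_paired {S : Submodule F₀ (ι → F)} (hS : S ≤ R₀) {u z : ι → F} (hu : u ∈ S) (hz : z ∈ S)
    (huu : f u u = 0) (hzz : f z z = 0) (hzu : f z u = 1) {a : ι → F} (ha : a ∈ S) :
    a ∈ Submodule.span F₀ {s | s ∈ S ∧ f s s = 0 ∧ ∃ r ∈ S, f r s ≠ 0} := by
  obtain ⟨T, hT⟩ : ∃ T, T = Submodule.span F₀ {s | s ∈ S ∧ f s s = 0 ∧ ∃ r ∈ S, f r s ≠ 0} := ⟨_, rfl⟩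
  rw [← hT]
  have huz : f u z = 1 := by rw [E.uni.herm, hzu, map_one]
  have huT : u ∈ T := hT ▸ Submodule.subset_span ⟨hu, huu, z, hz, by rw [hzu]; exact one_ne_zero⟩
  have hzT : z ∈ T := hT ▸ Submodule.subset_span ⟨hz, hzz, u, hu, by rw [huz]; exact one_ne_zero⟩
  obtain ⟨a', ha'⟩ : ∃ a', a' = a - f a z • u - f a u • z := ⟨_, rfl⟩
  have hc1 : f a z ∈ F₀ := E.rat a (hS ha) z (hS hz)
  have hc2 : f a u ∈ F₀ := E.rat a (hS ha) u (hS hu)
  have ha'S : a' ∈ S := ha' ▸ S.sub_mem (S.sub_mem ha (smul_mem_rat hc1 hu)) (smul_mem_rat hc2 hz)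
  have e1 : f a' u = 0 := by
    rw [ha', sub_left' E.uni, sub_left' E.uni, E.uni.smul_left, E.uni.smul_left, huu, hzu]; ring
  have e2 : f a' z = 0 := by
    rw [ha', sub_left' E.uni, sub_left' E.uni, E.uni.smul_left, E.uni.smul_left, hzz, huz]; ring
  have e1' : f u a' = 0 := (eq_zero_comm E.uni).1 e1
  have e2' : f z a' = 0 := (eq_zero_comm E.uni).1 e2
  obtain ⟨t, ht, htr⟩ := E.trace (-f a' a') (neg_mem (E.rat _ (hS ha'S) _ (hS ha'S)))
    (by rw [map_neg, self_fixed E.uni])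
  obtain ⟨s, hs⟩ : ∃ s, s = a' + z + t • u := ⟨_, rfl⟩
  have hsT : s ∈ T := by
    refine hT ▸ Submodule.subset_span ⟨hs ▸ S.add_mem (S.add_mem ha'S hz) (smul_mem_rat ht hu), ?_, u, hu, ?_⟩
    · simp only [hs, E.uni.add_left, add_right' E.uni, E.uni.smul_left, smul_right' E.uni, e1, e2, e1', e2', huu,
        hzz, huz, hzu]
      linear_combination htr
    · simp only [hs, add_right' E.uni, smul_right' E.uni, e1', huz, huu]
      simp
  have e : a = s - z - t • u + f a z • u + f a u • z := by rw [hs, ha']; abel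
  rw [e]
  exact T.add_mem (T.add_mem (T.sub_mem (T.sub_mem hsT hzT) (smul_mem_rat ht huT)) (smul_mem_rat hc1 huT))
    (smul_mem_rat hc2 hzT)

/-- The isotropic vectors orthogonal to an isotropic one span its orthogonal. -/
theorem mem_span_iso_perp {x : ι → F} (hx : x ∈ R₀) (hx0 : x ≠ 0) (hxx : f x x = 0) {a : ι → F}
    (ha : a ∈ R₀) (hax : f a x = 0) :
    a ∈ Submodule.span F₀ {s | s ∈ R₀ ∧ f s s = 0 ∧ f s x = 0} := by
  obtain ⟨r, hr, hrx⟩ := E.exists_dual hx hx0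
  obtain ⟨y, hy, hyy, hyx, hxy⟩ := E.exists_partner le_rfl hx hr hxx (by rw [hrx]; exact one_ne_zero)
  have hS : perpIn E.uni (perpIn E.uni R₀ x) y ≤ R₀ := (E.perpIn_le y).trans (E.perpIn_le x)
  obtain ⟨u, hu, hu0, huu⟩ := E.iso2 _ hS (by
    have h1 := E.finrank_le_perpIn le_rfl hx
    have h2 := E.finrank_le_perpIn (E.perpIn_le x) hy
    have := E.dim
    omega)
  obtain ⟨w, hw, hwu⟩ := E.exists_dual (hS hu) hu0
  obtain ⟨r', hr'⟩ : ∃ r', r' = w - f w y • x - f w x • y := ⟨_, rfl⟩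
  have hr'S : r' ∈ perpIn E.uni R₀ x := by
    refine ⟨hr' ▸ R₀.sub_mem (R₀.sub_mem hw (smul_mem_rat (E.rat w hw y hy) hx))
      (smul_mem_rat (E.rat w hw x hx) hy), ?_⟩
    rw [hr', sub_left' E.uni, sub_left' E.uni, E.uni.smul_left, E.uni.smul_left, hxx, hyx]; ring
  have hr'u : f r' u ≠ 0 := by
    rw [hr', sub_left' E.uni, sub_left' E.uni, E.uni.smul_left, E.uni.smul_left, hwu,
      (eq_zero_comm E.uni).1 hu.1.2, (eq_zero_comm E.uni).1 hu.2]
    simp
  obtain ⟨z, hz, hzz, hzu, -⟩ := E.exists_partner (E.perpIn_le x) hu.1 hr'S huu hr'u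
  refine Submodule.span_mono ?_ (E.mem_span_paired (E.perpIn_le x) hu.1 hz huu hzz hzu (a := a)
    (show a ∈ perpIn E.uni R₀ x from ⟨ha, hax⟩))
  exact fun s hs => ⟨hs.1.1, hs.2.1, hs.1.2⟩

/-- The isotropic vectors span. -/
theorem mem_span_iso {a : ι → F} (ha : a ∈ R₀) : a ∈ Submodule.span F₀ {s | s ∈ R₀ ∧ f s s = 0} := by
  obtain ⟨u, hu, hu0, huu⟩ := E.iso2 R₀ le_rfl (by have := E.dim; omega)
  obtain ⟨r, hr, hru⟩ := E.exists_dual hu hu0
  obtain ⟨z, hz, hzz, hzu, -⟩ := E.exists_partner le_rfl hu hr huu (by rw [hru]; exact one_ne_zero)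
  refine Submodule.span_mono ?_ (E.mem_span_paired le_rfl hu hz huu hzz hzu ha)
  exact fun s hs => ⟨hs.1, hs.2.1⟩

/-- An isotropic vector not orthogonal to a given one. -/
theorem exists_iso_ne {v : ι → F} (hv : v ≠ 0) : ∃ x ∈ R₀, f x x = 0 ∧ f x v ≠ 0 := by
  by_contra h
  simp only [not_exists, not_and, not_not] at h
  refine hv (E.eq_zero_of_perp fun r hr => ?_)
  have hm := E.mem_span_iso hr
  clear hr
  induction hm using Submodule.span_induction with
  | mem s hs => exact h s hs.1 hs.2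
  | zero => exact zero_left' E.uni v
  | add a b _ _ ha hb => rw [E.uni.add_left, ha, hb, add_zero]
  | smul t a _ ha => rw [coe_smul_eq, E.uni.smul_left, ha, mul_zero]

/-- A vector orthogonal to the orthogonal of a rational point lies on it. -/
theorem mem_line_of_perp {x : ι → F} (hx : x ∈ R₀) (hx0 : x ≠ 0) {z : ι → F}
    (h : ∀ r ∈ R₀, f r x = 0 → f r z = 0) : ∃ c : F, z = c • x := by
  obtain ⟨y, hy, hyx⟩ := E.exists_dual hx hx0
  refine ⟨σ (f y z), sub_eq_zero.1 (E.eq_zero_of_perp fun r hr => ?_)⟩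
  have h1 := h (r - f r x • y) (R₀.sub_mem hr (smul_mem_rat (E.rat r hr x hx) hy))
    (by rw [sub_left' E.uni, E.uni.smul_left, hyx, mul_one, sub_self])
  rw [sub_left' E.uni, E.uni.smul_left] at h1
  rw [sub_right' E.uni, smul_right' E.uni, E.uni.involutive]
  linear_combination h1

end Setting

end CfsgLib.SUFour.SubHerm
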