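/-
Overgroups of a rational unitary group in small dimension: one irrational transvection gives every value.
-/
import Cfsg.Agent.Lib.SUFour.SubHermSpace

set_option autoImplicit false

namespace CfsgLib.SUFour.SubHerm

open Matrix CfsgLib.Transvec CfsgLib.Transvec.Unitary
open scoped MatrixGroups

variable {ι : Type} [Fintype ι] [DecidableEq ι] {F : Type*} [Field F] [Finite F]
variable {σ : F ≃+* F} {f : (ι → F) → (ι → F) → F} {F₀ : Subfield F} {R₀ : Submodule F₀ (ι → F)}

/-- An overgroup of the rational transvections and rational root elements. -/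
structure Over (σ : F ≃+* F) (f : (ι → F) → (ι → F) → F) (R₀ : Submodule F₀ (ι → F)) (M : Subgroup (GL ι F)) :
    Prop where
  transv : ∀ a ∈ R₀, f a a = 0 → ∀ c ∈ F₀, c + σ c = 0 → uT f a c ∈ M
  root : ∀ a ∈ R₀, ∀ b ∈ R₀, f a a = 0 → f b b = 0 → f a b = 0 → uX σ f a b 1 ∈ M
  iso : ∀ g ∈ M, Iso f g

/-- Transvections of `M` centred on the orthogonal of a rational isotropic point have rational centres. -/
def Tight (σ : F ≃+* F) (f : (ι → F) → (ι → F) → F) (R₀ : Submodule F₀ (ι → F)) (M : Subgroup (GL ι F)) : Prop :=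
  ∀ w ∈ R₀, w ≠ 0 → f w w = 0 → ∀ v, f v v = 0 → f v w = 0 → ∀ c, c ≠ 0 → c + σ c = 0 → uT f v c ∈ M →
    IsPoint R₀ v

namespace Setting

variable (E : Setting σ f F₀ R₀)
include E

omit [Finite F] in
theorem uT_neg_mem {M : Subgroup (GL ι F)} {v : ι → F} (hv : f v v = 0) {c : F} (h : uT f v c ∈ M) :
    uT f v (-c) ∈ M := by
  have e : uT f v c * uT f v (-c) = 1 := gl_ext fun x => by
    simp only [mul_mulVec, uT_mulVec E.uni hv, E.uni.add_left, E.uni.smul_left, hv, Units.val_one, one_mulVec]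
    module
  exact inv_eq_of_mul_eq_one_right e ▸ M.inv_mem h

omit [Finite F] in
theorem uT_smul_eq {v : ι → F} (hv : f v v = 0) (a c : F) : uT f (a • v) c = uT f v (a * σ a * c) :=
  gl_ext fun x => by
    have hi : f (a • v) (a • v) = 0 := by rw [E.uni.smul_left, smul_right' E.uni, hv]; ring
    rw [uT_mulVec E.uni hi, uT_mulVec E.uni hv, smul_right' E.uni, smul_smul]
    congr 2
    ring

omit [Finite F] in
/-- The second difference of transvections along an orthogonal isotropic vector. -/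
theorem second_diff {M : Subgroup (GL ι F)} {v w : ι → F} (hv : f v v = 0) (hw : f w w = 0) (hvw : f v w = 0)
    {a b c : F} (h0 : uT f v c ∈ M) (ha : uT f (v + a • w) c ∈ M) (hb : uT f (v + b • w) c ∈ M)
    (hab : uT f (v + (a + b) • w) c ∈ M) : uT f w (c * (a * σ b + b * σ a)) ∈ M := by
  have hwv : f w v = 0 := (eq_zero_comm E.uni).1 hvw
  have hi : ∀ t : F, f (v + t • w) (v + t • w) = 0 := fun t => by
    simp only [E.uni.add_left, add_right' E.uni, E.uni.smul_left, smul_right' E.uni, hv, hw, hvw, hwv]; ring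
  have e : uT f (v + (a + b) • w) c * uT f (v + a • w) (-c) * uT f (v + b • w) (-c) * uT f v c =
      uT f w (c * (a * σ b + b * σ a)) := gl_ext fun x => by
    simp only [mul_mulVec, uT_mulVec E.uni (hi _), uT_mulVec E.uni hv, uT_mulVec E.uni hw, E.uni.add_left,
      add_right' E.uni, E.uni.smul_left, smul_right' E.uni, hv, hw, hvw, hwv, map_add]
    module
  rw [← e]
  exact M.mul_mem (M.mul_mem (M.mul_mem hab (E.uT_neg_mem (hi a) ha)) (E.uT_neg_mem (hi b) hb)) h0

omit [Finite F] in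
/-- An element moved by the traces of all rational multiples lies in the subfield. -/
theorem mem_of_traces {e : F} (heF : e ∈ F₀) (hee : σ e ≠ e) {μ : F}
    (h : ∀ t ∈ F₀, t * μ + σ (t * μ) ∈ F₀) : μ ∈ F₀ := by
  have h1 := h 1 (one_mem F₀)
  have h2 := h e heF
  rw [one_mul] at h1
  rw [map_mul] at h2
  have h3 : (e - σ e) * μ ∈ F₀ := by
    have := sub_mem h2 (mul_mem (E.stable e heF) h1)
    convert this using 1
    ring
  have h4 := div_mem h3 (sub_mem heF (E.stable e heF))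
  rwa [mul_div_assoc, mul_comm, div_mul_eq_mul_div, mul_div_assoc, mul_comm, div_mul_eq_mul_div,
    mul_div_cancel_left₀ _ (sub_ne_zero.2 (Ne.symm hee))] at h4

variable {M : Subgroup (GL ι F)} (O : Over σ f R₀ M)
include O

/-- Moving a transvection along an orthogonal rational isotropic vector. -/
theorem shift {w : ι → F} (hw : w ∈ R₀) (hw0 : w ≠ 0) (hww : f w w = 0) {v : ι → F} (hvw : f v w = 0) (c : F)
    (hvv : f v v = 0) {a : ι → F} (ha : a ∈ R₀) (haw : f a w = 0) {ξ : F} (hξ : uT f (v + ξ • w) c ∈ M) :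
    uT f (v + (ξ + f v a) • w) c ∈ M := by
  have key : ∀ y, y ∈ Submodule.span F₀ {s | s ∈ R₀ ∧ f s s = 0 ∧ f s w = 0} → ∀ t ∈ F₀, ∀ ξ : F,
      uT f (v + ξ • w) c ∈ M → uT f (v + (ξ + f v (t • y)) • w) c ∈ M := by
    intro y hy
    induction hy using Submodule.span_induction with
    | mem s hs =>
      intro t ht ξ hξ
      obtain ⟨hs1, hs2, hs3⟩ := hs
      have hss : f (t • s) (t • s) = 0 := by rw [E.uni.smul_left, smul_right' E.uni, hs2]; ring
      have hws : f w (t • s) = 0 := by rw [smul_right' E.uni, (eq_zero_comm E.uni).1 hs3, mul_zero]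
      have hh := O.root w hw (t • s) (smul_mem_rat ht hs1) hww hss hws
      have hvi : f (v + ξ • w) (v + ξ • w) = 0 := by
        simp only [E.uni.add_left, add_right' E.uni, E.uni.smul_left, smul_right' E.uni, hvv, hww, hvw,
          (eq_zero_comm E.uni).1 hvw]
        ring
      have h1 := M.mul_mem (M.mul_mem hh hξ) (M.inv_mem hh)
      rw [conj_uT E.uni (O.iso _ hh) hvi, uX_mulVec E.uni hss hws] at h1
      convert h1 using 2
      simp only [E.uni.add_left, E.uni.smul_left, hvw, hww, hws, map_one]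
      module
    | zero => intro t _ ξ hξ; rwa [smul_zero, zero_right' E.uni, add_zero]
    | add p r _ _ hp hr =>
      intro t ht ξ hξ
      rw [smul_add, add_right' E.uni, ← add_assoc]
      exact hr t ht _ (hp t ht _ hξ)
    | smul u p _ hp =>
      intro t ht ξ hξ
      rw [coe_smul_eq, smul_smul]
      exact hp _ (mul_mem ht u.2) _ hξ
  have := key a (E.mem_span_iso_perp hw hw0 hww ha haw) 1 (one_mem F₀) ξ hξ
  rwa [one_smul] at this

/-- An irrational centre on the orthogonal of a rational isotropic point gives an irrational value there. -/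
theorem exists_value {e : F} (heF : e ∈ F₀) (he : e + σ e = 1) (hee : σ e ≠ e) (hnt : ¬ Tight σ f R₀ M) :
    ∃ w ∈ R₀, w ≠ 0 ∧ f w w = 0 ∧ ∃ d, d + σ d = 0 ∧ d ∉ F₀ ∧ uT f w d ∈ M := by
  simp only [Tight, not_forall] at hnt
  obtain ⟨w, hw, hw0, hww, v, hvv, hvw, c, hc0, hc, hm, hnp⟩ := hnt
  by_contra hcon
  simp only [not_exists, not_and] at hcon
  have hno : ∀ d, d + σ d = 0 → uT f w d ∈ M → d ∈ F₀ := fun d hd hdm =>
    by_contra fun h => hcon w hw hw0 hww d hd h hdm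
  have hσ0 : ∀ {y : F}, y ≠ 0 → σ y ≠ 0 := fun hy => (map_ne_zero_iff _ σ.injective).2 hy
  have hskew : ∀ a b : F, c * (a * σ b + b * σ a) + σ (c * (a * σ b + b * σ a)) = 0 := fun a b => by
    simp only [map_mul, map_add, E.uni.involutive]; linear_combination (a * σ b + b * σ a) * hc
  have hm0 : uT f (v + (0 : F) • w) c ∈ M := by rwa [zero_smul, add_zero]
  have hshift : ∀ a ∈ R₀, f a w = 0 → uT f (v + f v a • w) c ∈ M := fun a ha haw => by
    have := E.shift O hw hw0 hww hvw c hvv ha haw hm0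
    rwa [zero_add] at this
  have hval : ∀ a ∈ R₀, ∀ b ∈ R₀, f a w = 0 → f b w = 0 →
      c * (f v a * σ (f v b) + f v b * σ (f v a)) ∈ F₀ := fun a ha b hb haw hbw => by
    refine hno _ (hskew _ _) (E.second_diff hvv hww hvw hm (hshift a ha haw) (hshift b hb hbw) ?_)
    rw [← add_right' E.uni]
    exact hshift _ (R₀.add_mem ha hb) (by rw [E.uni.add_left, haw, hbw, add_zero])
  obtain ⟨a0, ha0, ha0w, hδ⟩ : ∃ a ∈ R₀, f a w = 0 ∧ f v a ≠ 0 := by
    by_contra h
    simp only [not_exists, not_and, not_not] at h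
    obtain ⟨k, hk⟩ := E.mem_line_of_perp hw hw0 (z := v) fun r hr hrw => (eq_zero_comm E.uni).1 (h r hr hrw)
    exact hnp ⟨w, hw, k, hk⟩
  obtain ⟨δ, hδd⟩ : ∃ δ, δ = f v a0 := ⟨_, rfl⟩
  rw [← hδd] at hδ
  obtain ⟨c0, hc0d⟩ : ∃ c0, c0 = c * (δ * σ δ) := ⟨_, rfl⟩
  have hc00 : c0 ≠ 0 := hc0d ▸ mul_ne_zero hc0 (mul_ne_zero hδ (hσ0 hδ))
  have hc0s : c0 + σ c0 = 0 := by
    rw [hc0d]; simp only [map_mul, E.uni.involutive]; linear_combination (δ * σ δ) * hc
  have hc0F : c0 ∈ F₀ := by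
    have := hval _ (smul_mem_rat heF ha0) a0 ha0 (by rw [E.uni.smul_left, ha0w, mul_zero]) ha0w
    rw [smul_right' E.uni, ← hδd] at this
    convert this using 1
    rw [hc0d, map_mul, E.uni.involutive]
    linear_combination (-(c * δ * σ δ)) * he
  have hrat : ∀ a ∈ R₀, f a w = 0 → f v a / δ ∈ F₀ := fun a ha haw =>
    E.mem_of_traces heF hee fun t ht => by
      have := div_mem (hval _ (smul_mem_rat (E.stable t ht) ha) a0 ha0
        (by rw [E.uni.smul_left, haw, mul_zero]) ha0w) hc0F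
      rw [smul_right' E.uni, ← hδd, E.uni.involutive] at this
      convert this using 1
      have hδσ := hσ0 hδ
      rw [hc0d, map_mul, map_mul, map_div₀]
      field_simp
  obtain ⟨v₁, hv₁⟩ : ∃ v₁, v₁ = δ⁻¹ • v := ⟨_, rfl⟩
  have hv₁v₁ : f v₁ v₁ = 0 := by rw [hv₁, E.uni.smul_left, smul_right' E.uni, hvv]; ring
  have hv₁w : f v₁ w = 0 := by rw [hv₁, E.uni.smul_left, hvw, mul_zero]
  have hm₁ : uT f v₁ c0 ∈ M := by
    rw [hv₁, E.uT_smul_eq hvv]
    convert hm using 2
    rw [hc0d, map_inv₀]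
    have := hσ0 hδ
    field_simp
  have hperp : ∀ a ∈ R₀, f a w = 0 → f a v₁ ∈ F₀ := fun a ha haw => by
    rw [E.uni.herm, hv₁, E.uni.smul_left, inv_mul_eq_div]
    exact E.stable _ (hrat a ha haw)
  obtain ⟨y0, hy0, hy0w⟩ := E.exists_dual hw hw0
  let g : R₀ →ₗ[F₀] F₀ :=
    { toFun := fun r => ⟨f ((r : ι → F) - f r w • y0) v₁, hperp _
        (R₀.sub_mem r.2 (smul_mem_rat (E.rat r r.2 w hw) hy0))
        (by rw [sub_left' E.uni, E.uni.smul_left, hy0w, mul_one, sub_self])⟩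
      map_add' := fun a b => Subtype.ext (by
        simp only [Submodule.coe_add, E.uni.add_left, sub_left' E.uni, E.uni.smul_left, AddMemClass.mk_add_mk]
        ring)
      map_smul' := fun t a => Subtype.ext (by
        simp only [Submodule.coe_smul, coe_smul_eq, E.uni.smul_left, sub_left' E.uni, RingHom.id_apply,
          smul_eq_mul, MulMemClass.coe_mul]
        ring) }
  obtain ⟨u, hu, hug⟩ := E.exists_rep_lin g
  obtain ⟨s, hs⟩ := E.mem_line_of_perp hw hw0 (z := v₁ - u) (fun r hr hrw => by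
    rw [sub_right' E.uni, hug ⟨r, hr⟩]
    show f r v₁ - f (r - f r w • y0) v₁ = 0
    rw [hrw, zero_smul, sub_zero, sub_self])
  have hv₁e : v₁ = u + s • w := by rw [← hs, add_sub_cancel]
  have huw : f u w = 0 := by
    rw [show u = v₁ - s • w by rw [hv₁e, add_sub_cancel_right], sub_left' E.uni, E.uni.smul_left, hv₁w, hww]; ring
  have hwu : f w u = 0 := (eq_zero_comm E.uni).1 huw
  have huu : f u u = 0 := by
    have h1 := hv₁v₁
    simp only [hv₁e, E.uni.add_left, add_right' E.uni, E.uni.smul_left, smul_right' E.uni, hww, huw, hwu] at h1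
    linear_combination h1
  have hvd : v = δ • v₁ := by rw [hv₁, smul_smul, mul_inv_cancel₀ hδ, one_smul]
  have hum : u ∉ Submodule.span F₀ {w} := fun h => by
    obtain ⟨k, hk⟩ := Submodule.mem_span_singleton.1 h
    exact hnp ⟨w, hw, δ * (k + s), by
      rw [hvd, hv₁e, ← hk, coe_smul_eq, mul_smul, add_smul]⟩
  obtain ⟨b, hb, hbP, hbu⟩ := E.exists_sep (Submodule.span_le.2 (Set.singleton_subset_iff.2 hw)) hu hum
  have hbw : f b w = 0 := hbP w (Submodule.mem_span_singleton_self w)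
  have hub : f u b = 1 := by rw [E.uni.herm, hbu, map_one]
  have hwb : f w b = 0 := (eq_zero_comm E.uni).1 hbw
  have hu0 : uT f u c0 ∈ M := O.transv u hu huu c0 hc0F hc0s
  refine hnp ⟨u + s • w, R₀.add_mem hu (smul_mem_rat ?_ hw), δ, by rw [hvd, hv₁e]⟩
  refine E.mem_of_traces heF hee fun t ht => ?_
  have hσt := E.stable t ht
  have hi : f (u + s • w) w = 0 := by rw [E.uni.add_left, E.uni.smul_left, huw, hww]; ring
  have h1 : uT f (u + s • w + f (u + s • w) (t • b) • w) c0 ∈ M := by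
    have := E.shift O hw hw0 hww hi c0 (hv₁e ▸ hv₁v₁) (smul_mem_rat ht hb)
      (by rw [E.uni.smul_left, hbw, mul_zero]) (ξ := 0) (by rw [zero_smul, add_zero, ← hv₁e]; exact hm₁)
    rwa [zero_add] at this
  rw [smul_right' E.uni, E.uni.add_left, E.uni.smul_left, hub, hwb, mul_zero, add_zero, mul_one, add_assoc,
    ← add_smul] at h1
  have h2 : uT f (u + σ t • w) c0 ∈ M := O.transv _ (R₀.add_mem hu (smul_mem_rat hσt hw)) (by
    simp only [E.uni.add_left, add_right' E.uni, E.uni.smul_left, smul_right' E.uni, huu, hww, huw, hwu]; ring)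
    c0 hc0F hc0s
  have h3 := hno _ (by simp only [map_mul, map_add, E.uni.involutive]
                       linear_combination (s * t + σ t * σ s) * hc0s)
    (E.second_diff huu hww huw hu0 (hv₁e ▸ hm₁) h2 h1)
  have h4 := div_mem h3 hc0F
  rw [mul_div_cancel_left₀ _ hc00] at h4
  convert h4 using 1
  simp only [map_mul, E.uni.involutive]
  ring

/-- Values move between non-orthogonal rational isotropic points. -/
theorem value_step {θ : F} (hθF : θ ∈ F₀) (hθ0 : θ ≠ 0) (hθ : θ + σ θ = 0) {x y : ι → F} (hx : x ∈ R₀)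
    (hxx : f x x = 0) (hy : y ∈ R₀) (hyy : f y y = 0) (hyx : f y x ≠ 0) :
    ∃ ν ∈ F₀, σ ν = ν ∧ ν ≠ 0 ∧ ∀ d, uT f x d ∈ M → uT f y (ν * d) ∈ M := by
  have hσθ : σ θ = -θ := by linear_combination hθ
  obtain ⟨ξ, hξd⟩ : ∃ ξ, ξ = θ / f y x := ⟨_, rfl⟩
  have hξF : ξ ∈ F₀ := hξd ▸ div_mem hθF (E.rat y hy x hx)
  have hξ0 : ξ ≠ 0 := hξd ▸ div_ne_zero hθ0 hyx
  have hξσ0 : σ ξ ≠ 0 := (map_ne_zero_iff _ σ.injective).2 hξ0
  have hξm : ξ * f y x = θ := by rw [hξd, div_mul_cancel₀ _ hyx]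
  have hξm' : σ ξ * f x y = -θ := by rw [E.uni.herm x y, ← map_mul, hξm, hσθ]
  obtain ⟨z, hz⟩ : ∃ z, z = ξ • y - x := ⟨_, rfl⟩
  have hzz : f z z = 0 := by
    simp only [hz, sub_left' E.uni, sub_right' E.uni, E.uni.smul_left, smul_right' E.uni, hyy, hxx]
    linear_combination -hξm - hξm'
  have hes : -θ⁻¹ + σ (-θ⁻¹) = 0 := by rw [map_neg, map_inv₀, hσθ, inv_neg, neg_neg, neg_add_cancel]
  have hk := O.transv z (hz ▸ R₀.sub_mem (smul_mem_rat hξF hy) hx) hzz (-θ⁻¹) (neg_mem (inv_mem hθF)) hes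
  have hkx : (uT f z (-θ⁻¹) : Matrix ι ι F) *ᵥ x = ξ • y := by
    rw [uT_mulVec E.uni hzz, show f x z = -θ by
      simp only [hz, sub_right' E.uni, smul_right' E.uni, hxx]; linear_combination hξm',
      neg_mul_neg, inv_mul_cancel₀ hθ0, one_smul, hz, add_sub_cancel]
  refine ⟨ξ * σ ξ, mul_mem hξF (E.stable ξ hξF), by rw [map_mul, E.uni.involutive, mul_comm],
    mul_ne_zero hξ0 hξσ0, fun d hd => ?_⟩
  have h1 := M.mul_mem (M.mul_mem hk hd) (M.inv_mem hk)
  rwa [conj_uT E.uni (O.iso _ hk) hxx, hkx, E.uT_smul_eq hyy] at h1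

omit O in
/-- Two rational isotropic points have a common non-orthogonal one. -/
theorem exists_common_ne {θ : F} (hθF : θ ∈ F₀) (hθ0 : θ ≠ 0) (hθ : θ + σ θ = 0) {x y : ι → F} (hx : x ∈ R₀)
    (hx0 : x ≠ 0) (hxx : f x x = 0) (hy : y ∈ R₀) (hy0 : y ≠ 0)
    (hyy : f y y = 0) : ∃ z ∈ R₀, f z z = 0 ∧ f z x ≠ 0 ∧ f z y ≠ 0 := by
  obtain ⟨r, hr, hrx⟩ := E.exists_dual hx hx0
  obtain ⟨z₁, hz₁, h11, h1x, hx1⟩ := E.exists_partner le_rfl hx hr hxx (by rw [hrx]; exact one_ne_zero)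
  by_cases h1y : f z₁ y = 0
  swap
  · exact ⟨z₁, hz₁, h11, by rw [h1x]; exact one_ne_zero, h1y⟩
  obtain ⟨r', hr', hr'y⟩ := E.exists_dual hy hy0
  obtain ⟨z₂, hz₂, h22, h2y, hy2⟩ := E.exists_partner le_rfl hy hr' hyy (by rw [hr'y]; exact one_ne_zero)
  by_cases h2x : f z₂ x = 0
  swap
  · exact ⟨z₂, hz₂, h22, h2x, by rw [h2y]; exact one_ne_zero⟩
  by_cases hxy : f x y = 0
  swap
  · refine ⟨z₁ + θ • x, R₀.add_mem hz₁ (smul_mem_rat hθF hx), ?_, ?_, ?_⟩
    · simp only [E.uni.add_left, add_right' E.uni, E.uni.smul_left, smul_right' E.uni, h11, hxx, h1x, hx1]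
      linear_combination hθ
    · simp only [E.uni.add_left, E.uni.smul_left, h1x, hxx, mul_zero, add_zero]; exact one_ne_zero
    · simp only [E.uni.add_left, E.uni.smul_left, h1y, zero_add]; exact mul_ne_zero hθ0 hxy
  obtain ⟨t, ht, htr⟩ := E.trace (-(f z₁ z₂ + f z₂ z₁)) (neg_mem (add_mem (E.rat _ hz₁ _ hz₂) (E.rat _ hz₂ _ hz₁)))
    (by rw [map_neg, map_add, ← E.uni.herm, ← E.uni.herm]; ring)
  refine ⟨z₁ + z₂ + t • x, R₀.add_mem (R₀.add_mem hz₁ hz₂) (smul_mem_rat ht hx), ?_, ?_, ?_⟩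
  · simp only [E.uni.add_left, add_right' E.uni, E.uni.smul_left, smul_right' E.uni, h11, h22, hxx, h1x, hx1, h2x,
      (eq_zero_comm E.uni).1 h2x]
    linear_combination htr
  · simp only [E.uni.add_left, E.uni.smul_left, h1x, h2x, hxx, mul_zero, add_zero]; exact one_ne_zero
  · simp only [E.uni.add_left, E.uni.smul_left, h1y, h2y, hxy, mul_zero, zero_add, add_zero]; exact one_ne_zero

end Setting

end CfsgLib.SUFour.SubHerm
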