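/-
Overgroups of a rational unitary group in small dimension: an irrational value gives all transvections.
-/
import Cfsg.Agent.Lib.SUFour.SubHermValues

set_option autoImplicit false

namespace CfsgLib.SUFour.SubHerm

open Matrix CfsgLib.Transvec CfsgLib.Transvec.Unitary
open scoped MatrixGroups

variable {ι : Type} [Fintype ι] [DecidableEq ι] {F : Type*} [Field F] [Finite F]
variable {σ : F ≃+* F} {f : (ι → F) → (ι → F) → F} {F₀ : Subfield F} {R₀ : Submodule F₀ (ι → F)}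

/-- A subset closed under sums and products, larger than a maximal subfield, is everything. -/
theorem eq_univ_of_closed (hgen : ∀ K : Subfield F, F₀ < K → K = ⊤) {S : Set F} (hF₀ : ∀ a ∈ F₀, a ∈ S)
    (hadd : ∀ {a b : F}, a ∈ S → b ∈ S → a + b ∈ S) (hmul : ∀ {a b : F}, a ∈ S → b ∈ S → a * b ∈ S)
    (hex : ∃ a ∈ S, a ∉ F₀) (x : F) : x ∈ S := by
  have := Fintype.ofFinite F
  let K : Subfield F :=
    { carrier := S
      mul_mem' := hmul
      one_mem' := hF₀ 1 (one_mem F₀)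
      add_mem' := hadd
      zero_mem' := hF₀ 0 (zero_mem F₀)
      neg_mem' := fun {a} ha => by
        have := hmul (hF₀ (-1) (neg_mem (one_mem F₀))) ha
        rwa [neg_one_mul] at this
      inv_mem' := fun a ha => by
        rcases eq_or_ne a 0 with rfl | ha0
        · rw [_root_.inv_zero]; exact hF₀ 0 (zero_mem F₀)
        have e : a⁻¹ = a ^ (Fintype.card F - 2) := by
          have hq : 1 < Fintype.card F := Fintype.one_lt_card
          refine inv_eq_of_mul_eq_one_right ?_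
          rw [← pow_succ', show Fintype.card F - 2 + 1 = Fintype.card F - 1 by omega,
            FiniteField.pow_card_sub_one_eq_one a ha0]
        rw [e]
        induction Fintype.card F - 2 with
        | zero => rw [pow_zero]; exact hF₀ 1 (one_mem F₀)
        | succ k ih => rw [pow_succ]; exact hmul ih ha }
  obtain ⟨a, ha, haF⟩ := hex
  have hlt : F₀ < K := lt_of_le_of_ne (fun b hb => hF₀ b hb) fun h => haF (by rw [h]; exact ha)
  have : x ∈ K := by rw [hgen K hlt]; trivial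
  exact this

namespace Setting

variable (E : Setting σ f F₀ R₀)
include E

omit [Fintype ι] [DecidableEq ι] [Finite F] in
theorem exists_trace_moved {θ : F} (hθF : θ ∈ F₀) (hθ0 : θ ≠ 0) (hθ : θ + σ θ = 0) :
    ∃ e ∈ F₀, e + σ e = 1 ∧ σ e ≠ e := by
  obtain ⟨a, ha, hae⟩ := E.trace 1 (one_mem F₀) (map_one σ)
  by_cases h : σ a = a
  · refine ⟨a + θ, add_mem ha hθF, by rw [map_add]; linear_combination hae + hθ, fun h' => hθ0 ?_⟩
    rw [map_add] at h'
    linear_combination a * hθ - a * h' - θ * hae + (a + θ) * h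
  · exact ⟨a, ha, hae, h⟩

/-- An isotropic vector orthogonal to two given vectors. -/
theorem exists_perp_two {x y : ι → F} (hx : x ∈ R₀) (hy : y ∈ R₀) :
    ∃ u ∈ R₀, u ≠ 0 ∧ f u u = 0 ∧ f u x = 0 ∧ f u y = 0 := by
  obtain ⟨u, hu, hu0, huu⟩ := E.iso2 (perpIn E.uni (perpIn E.uni R₀ x) y)
    ((E.perpIn_le y).trans (E.perpIn_le x)) (by
      have h1 := E.finrank_le_perpIn le_rfl hx
      have h2 := E.finrank_le_perpIn (E.perpIn_le x) hy
      have := E.dim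
      omega)
  exact ⟨u, hu.1.1, hu0, huu, hu.1.2, hu.2⟩

/-- A second isotropic vector orthogonal to a given one. -/
theorem exists_perp_indep {x : ι → F} (hx : x ∈ R₀) (hx0 : x ≠ 0) (hxx : f x x = 0) :
    ∃ u ∈ R₀, f u u = 0 ∧ f u x = 0 ∧ u ∉ Submodule.span F₀ {x} := by
  obtain ⟨r, hr, hrx⟩ := E.exists_dual hx hx0
  obtain ⟨y, hy, -, -, hxy⟩ := E.exists_partner le_rfl hx hr hxx (by rw [hrx]; exact one_ne_zero)
  obtain ⟨u, hu, hu0, huu, hux, huy⟩ := E.exists_perp_two hx hy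
  refine ⟨u, hu, huu, hux, fun hm => hu0 ?_⟩
  obtain ⟨t, rfl⟩ := Submodule.mem_span_singleton.1 hm
  rw [coe_smul_eq, E.uni.smul_left, hxy, mul_one] at huy
  rw [coe_smul_eq, huy, zero_smul]

/-- A hyperbolic pair orthogonal to an isotropic vector. -/
theorem exists_pair_perp {w : ι → F} (hw : w ∈ R₀) (hw0 : w ≠ 0) (hww : f w w = 0) :
    ∃ x ∈ R₀, ∃ y ∈ R₀, f x x = 0 ∧ f y y = 0 ∧ f x w = 0 ∧ f y w = 0 ∧ f y x = 1 ∧ f x y = 1 ∧
      x ∉ Submodule.span F₀ {w} := by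
  obtain ⟨x, hx, hxx, hxw, hxm⟩ := E.exists_perp_indep hw hw0 hww
  obtain ⟨r, hr, hrw, hrx⟩ := E.exists_sep (Submodule.span_le.2 (Set.singleton_subset_iff.2 hw)) hx hxm
  obtain ⟨y, hy, hyy, hyx, hxy⟩ := E.exists_partner (E.perpIn_le w)
    (show x ∈ perpIn E.uni R₀ w from ⟨hx, hxw⟩)
    (show r ∈ perpIn E.uni R₀ w from ⟨hr, hrw w (Submodule.mem_span_singleton_self w)⟩) hxx
    (by rw [hrx]; exact one_ne_zero)
  exact ⟨x, hx, y, hy.1, hxx, hyy, hxw, hy.2, hyx, hxy, hxm⟩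

variable {M : Subgroup (GL ι F)} (O : Over σ f R₀ M)
include O

/-- All transvections at every rational isotropic point, from one irrational value. -/
theorem ufull_rat (hgen : ∀ K : Subfield F, F₀ < K → K = ⊤) {θ : F} (hθF : θ ∈ F₀) (hθ0 : θ ≠ 0)
    (hθ : θ + σ θ = 0) {w : ι → F} (hw : w ∈ R₀) (hw0 : w ≠ 0) (hww : f w w = 0) {d : F} (hd : d + σ d = 0)
    (hdF : d ∉ F₀) (hdm : uT f w d ∈ M) {a : ι → F} (ha : a ∈ R₀) (ha0 : a ≠ 0) (haa : f a a = 0) :
    UFull σ f M a := by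
  obtain ⟨e, heF, he, hee⟩ := E.exists_trace_moved hθF hθ0 hθ
  have hσθ : σ θ = -θ := by linear_combination hθ
  have hσe : σ e = 1 - e := by linear_combination he
  have move : ∀ {p q : ι → F}, p ∈ R₀ → p ≠ 0 → f p p = 0 → q ∈ R₀ → q ≠ 0 → f q q = 0 →
      ∃ ν ∈ F₀, σ ν = ν ∧ ν ≠ 0 ∧ ∀ c, uT f p c ∈ M → uT f q (ν * c) ∈ M := by
    intro p q hp hp0 hpp hq hq0 hqq
    obtain ⟨z, hz, hzz, hzp, hzq⟩ := E.exists_common_ne hθF hθ0 hθ hp hp0 hpp hq hq0 hqq
    obtain ⟨ν, hνF, hν, hν0, hνm⟩ := E.value_step O hθF hθ0 hθ hp hpp hz hzz hzp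
    obtain ⟨κ, hκF, hκ, hκ0, hκm⟩ := E.value_step O hθF hθ0 hθ hz hzz hq hqq
      (fun h => hzq ((eq_zero_comm E.uni).1 h))
    exact ⟨κ * ν, mul_mem hκF hνF, by rw [map_mul, hκ, hν], mul_ne_zero hκ0 hν0,
      fun c hc => by rw [mul_assoc]; exact hκm _ (hνm c hc)⟩
  obtain ⟨x, hx, y, hy, hxx, hyy, hxw, hyw, hyx, hxy, hxm⟩ := E.exists_pair_perp hw hw0 hww
  have hx0 : x ≠ 0 := fun h => hxm (h ▸ Submodule.zero_mem _)
  have hy0 : y ≠ 0 := fun h => by rw [h, zero_left' E.uni] at hyx; exact zero_ne_one hyx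
  obtain ⟨νx, hνxF, hνx, hνx0, hνxm⟩ := move hw hw0 hww hx hx0 hxx
  obtain ⟨νy, hνyF, hνy, hνy0, hνym⟩ := move hw hw0 hww hy hy0 hyy
  obtain ⟨ρ, hρd⟩ : ∃ ρ, ρ = νx * νy * (θ * θ) := ⟨_, rfl⟩
  have hρF : ρ ∈ F₀ := hρd ▸ mul_mem (mul_mem hνxF hνyF) (mul_mem hθF hθF)
  have hρ0 : ρ ≠ 0 := hρd ▸ mul_ne_zero (mul_ne_zero hνx0 hνy0) (mul_ne_zero hθ0 hθ0)
  have hρσ : σ ρ = ρ := by rw [hρd, map_mul, map_mul, map_mul, hνx, hνy, hσθ]; ring
  obtain ⟨S, hS⟩ : ∃ S : F → Prop, ∀ s, S s ↔ σ s = s ∧ uT f w (θ * s) ∈ M := ⟨_, fun _ => Iff.rfl⟩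
  have hskew : ∀ s, σ s = s → θ * s + σ (θ * s) = 0 := fun s hs => by rw [map_mul, hσθ, hs]; ring
  have hSF : ∀ s ∈ F₀, σ s = s → S s := fun s hs hσs =>
    (hS s).2 ⟨hσs, O.transv w hw hww _ (mul_mem hθF hs) (hskew s hσs)⟩
  have hSadd : ∀ {s t}, S s → S t → S (s + t) := fun {s t} hs ht => by
    refine (hS _).2 ⟨by rw [map_add, ((hS s).1 hs).1, ((hS t).1 ht).1], ?_⟩
    have e : uT f w (θ * s) * uT f w (θ * t) = uT f w (θ * (s + t)) := gl_ext fun z => by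
      simp only [mul_mulVec, uT_mulVec E.uni hww, E.uni.add_left, E.uni.smul_left, hww]
      module
    rw [← e]
    exact M.mul_mem ((hS s).1 hs).2 ((hS t).1 ht).2
  have hSmul : ∀ {s t}, S s → S t → S (ρ * (s * t)) := fun {s t} hs ht => by
    obtain ⟨hsσ, hsm⟩ := (hS s).1 hs
    obtain ⟨htσ, htm⟩ := (hS t).1 ht
    refine (hS _).2 ⟨by rw [map_mul, map_mul, hρσ, hsσ, htσ], ?_⟩
    obtain ⟨c, hc⟩ : ∃ c, c = νx * (θ * s) := ⟨_, rfl⟩
    obtain ⟨b, hb⟩ : ∃ b, b = νy * (θ * t) := ⟨_, rfl⟩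
    have hbs : b + σ b = 0 := by rw [hb, map_mul, hνy, map_mul, hσθ, htσ]; ring
    have hcm : uT f x c ∈ M := hc ▸ hνxm _ hsm
    have hbm : uT f y b ∈ M := hb ▸ hνym _ htm
    have hwy : f w y = 0 := (eq_zero_comm E.uni).1 hyw
    have hwx : f w x = 0 := (eq_zero_comm E.uni).1 hxw
    obtain ⟨v, hv⟩ : ∃ v, v = x + b • y := ⟨_, rfl⟩
    have hvm : uT f v c ∈ M := by
      have := M.mul_mem (M.mul_mem hbm hcm) (M.inv_mem hbm)
      rwa [conj_uT E.uni (iso_uT E.uni hyy hbs) hxx, uT_mulVec E.uni hyy, hxy, mul_one, ← hv] at this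
    have hvv : f v v = 0 := by
      simp only [hv, E.uni.add_left, add_right' E.uni, E.uni.smul_left, smul_right' E.uni, hxx, hyy, hxy, hyx]
      linear_combination hbs
    have hvw : f v w = 0 := by rw [hv, E.uni.add_left, E.uni.smul_left, hxw, hyw]; ring
    have hm0 : uT f (v + (0 : F) • w) c ∈ M := by rwa [zero_smul, add_zero]
    have hshift : ∀ r ∈ R₀, f r w = 0 → uT f (v + f v r • w) c ∈ M := fun r hr hrw => by
      have := E.shift O hw hw0 hww hvw c hvv hr hrw hm0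
      rwa [zero_add] at this
    have hey : θ * e ∈ F₀ := mul_mem hθF heF
    have h2 := E.second_diff hvv hww hvw hvm (hshift _ (smul_mem_rat hey hy) (by
        rw [E.uni.smul_left, hyw, mul_zero])) (hshift x hx hxw)
      (by
        rw [← add_right' E.uni]
        exact hshift _ (R₀.add_mem (smul_mem_rat hey hy) hx) (by
          rw [E.uni.add_left, E.uni.smul_left, hxw, hyw]; ring))
    convert h2 using 2
    simp only [hv, E.uni.add_left, E.uni.smul_left, smul_right' E.uni, hxx, hyy, hxy, hyx, map_mul,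
      mul_zero, add_zero, zero_add, mul_one, E.uni.involutive]
    rw [hρd, hc, hb]
    simp only [map_mul, hσθ, hνy, htσ, hσe]
    ring
  obtain ⟨T, hT⟩ : ∃ T : Set F, ∀ z, z ∈ T ↔ ∃ a b, S (ρ⁻¹ * a) ∧ S (ρ⁻¹ * b) ∧ z = a + b * e :=
    ⟨{z | ∃ a b, S (ρ⁻¹ * a) ∧ S (ρ⁻¹ * b) ∧ z = a + b * e}, fun _ => Iff.rfl⟩
  have hmulS : ∀ {s t}, S (ρ⁻¹ * s) → S (ρ⁻¹ * t) → S (ρ⁻¹ * (s * t)) := fun {s t} hs ht => by
    have := hSmul hs ht
    convert this using 1
    field_simp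
  have hn0 : S (ρ⁻¹ * -(e * σ e)) := hSF _ (mul_mem (inv_mem hρF) (neg_mem (mul_mem heF (E.stable e heF))))
    (by rw [map_mul, map_inv₀, hρσ, map_neg, map_mul, E.uni.involutive, mul_comm (σ e)])
  have hTF : ∀ z ∈ F₀, z ∈ T := fun z hz => by
    have hes : e - σ e ≠ 0 := sub_ne_zero.2 (Ne.symm hee)
    obtain ⟨b, hb⟩ : ∃ b, b = (z - σ z) / (e - σ e) := ⟨_, rfl⟩
    have hbF : b ∈ F₀ := hb ▸ div_mem (sub_mem hz (E.stable z hz)) (sub_mem heF (E.stable e heF))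
    have hbσ : σ b = b := by
      rw [hb, map_div₀, map_sub, map_sub, E.uni.involutive, E.uni.involutive, ← neg_div_neg_eq, neg_sub, neg_sub]
    have hbm : b * (e - σ e) = z - σ z := by rw [hb, div_mul_cancel₀ _ hes]
    refine (hT z).2 ⟨z - b * e, b, hSF _ (mul_mem (inv_mem hρF) (sub_mem hz (mul_mem hbF heF))) ?_,
      hSF _ (mul_mem (inv_mem hρF) hbF) (by rw [map_mul, map_inv₀, hρσ, hbσ]), by ring⟩
    rw [map_mul, map_inv₀, hρσ, map_sub, map_mul, hbσ]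
    linear_combination ρ⁻¹ * hbm
  obtain ⟨s₀, hs₀, hs₀F⟩ : ∃ s, S s ∧ s ∉ F₀ := by
    refine ⟨d / θ, (hS _).2 ⟨?_, by rwa [mul_div_cancel₀ _ hθ0]⟩, fun h => hdF ?_⟩
    · rw [map_div₀, hσθ, show σ d = -d by linear_combination hd, neg_div_neg_eq]
    · have := mul_mem hθF h
      rwa [mul_div_cancel₀ _ hθ0] at this
  have hall : ∀ z, z ∈ T := by
    refine eq_univ_of_closed hgen hTF (fun {z z'} hz hz' => ?_) (fun {z z'} hz hz' => ?_) ⟨ρ * s₀, ?_, fun h => hs₀F ?_⟩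
    · obtain ⟨a1, b1, h1, h2, rfl⟩ := (hT z).1 hz
      obtain ⟨a2, b2, h3, h4, rfl⟩ := (hT z').1 hz'
      exact (hT _).2 ⟨a1 + a2, b1 + b2, by rw [mul_add]; exact hSadd h1 h3, by rw [mul_add]; exact hSadd h2 h4,
        by ring⟩
    · obtain ⟨a1, b1, h1, h2, rfl⟩ := (hT z).1 hz
      obtain ⟨a2, b2, h3, h4, rfl⟩ := (hT z').1 hz'
      refine (hT _).2 ⟨a1 * a2 + (b1 * b2) * -(e * σ e), a1 * b2 + b1 * a2 + b1 * b2, ?_, ?_, ?_⟩
      · rw [mul_add]; exact hSadd (hmulS h1 h3) (hmulS (hmulS h2 h4) hn0)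
      · rw [mul_add, mul_add]; exact hSadd (hSadd (hmulS h1 h4) (hmulS h2 h3)) (hmulS h2 h4)
      · rw [hσe]; ring
    · exact (hT _).2 ⟨ρ * s₀, 0, by rwa [inv_mul_cancel_left₀ hρ0],
        hSF _ (by rw [mul_zero]; exact zero_mem F₀) (by rw [mul_zero, map_zero]), by ring⟩
    · have := mul_mem (inv_mem hρF) h
      rwa [inv_mul_cancel_left₀ hρ0] at this
  have hwfull : ∀ c, c + σ c = 0 → uT f w c ∈ M := fun c hc => by
    obtain ⟨s, hs⟩ : ∃ s, s = c / θ := ⟨_, rfl⟩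
    have hsσ : σ s = s := by rw [hs, map_div₀, hσθ, show σ c = -c by linear_combination hc, neg_div_neg_eq]
    obtain ⟨a1, b1, h1, h2, h3⟩ := (hT _).1 (hall (ρ * s))
    have hfix : ∀ {u}, S (ρ⁻¹ * u) → σ u = u := fun {u} hu => by
      have := ((hS _).1 hu).1
      rw [map_mul, map_inv₀, hρσ] at this
      exact mul_left_cancel₀ (inv_ne_zero hρ0) this
    have h4 := congrArg σ h3
    rw [map_mul, map_add, map_mul, hρσ, hsσ, hfix h1, hfix h2] at h4
    have hb0 : b1 = 0 := by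
      have : b1 * (e - σ e) = 0 := by linear_combination h4 - h3
      exact (mul_eq_zero.1 this).resolve_right (sub_ne_zero.2 (Ne.symm hee))
    rw [hb0, zero_mul, add_zero] at h3
    rw [← h3, inv_mul_cancel_left₀ hρ0] at h1
    have := ((hS _).1 h1).2
    rwa [hs, mul_div_cancel₀ _ hθ0] at this
  refine ⟨haa, fun c hc => ?_⟩
  obtain ⟨ν, -, hν, hν0, hνm⟩ := move hw hw0 hww ha ha0 haa
  have := hνm (c / ν) (hwfull _ (by rw [map_div₀, hν, ← add_div, hc, zero_div]))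
  rwa [mul_div_cancel₀ _ hν0] at this

omit O in
/-- Root elements with any scalar between rational orthogonal points. -/
theorem uX_mem (hfull : ∀ a ∈ R₀, a ≠ 0 → f a a = 0 → UFull σ f M a) {θ : F} (hθF : θ ∈ F₀) (hθ0 : θ ≠ 0)
    (hθ : θ + σ θ = 0) {p q : ι → F} (hp : p ∈ R₀) (hq : q ∈ R₀) (hpp : f p p = 0) (hqq : f q q = 0)
    (hpq : f p q = 0) (hind : p ∉ Submodule.span F₀ {q}) (ν : F) : uX σ f p q ν ∈ M := by
  obtain ⟨e, heF, he, hee⟩ := E.exists_trace_moved hθF hθ0 hθ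
  have hσθ : σ θ = -θ := by linear_combination hθ
  have hqp : f q p = 0 := (eq_zero_comm E.uni).1 hpq
  obtain ⟨r, hr, hrq, hrp⟩ := E.exists_sep (Submodule.span_le.2 (Set.singleton_subset_iff.2 hq)) hp hind
  obtain ⟨p', hp', hp'p', hp'p, hpp'⟩ := E.exists_partner (E.perpIn_le q)
    (show p ∈ perpIn E.uni R₀ q from ⟨hp, hpq⟩)
    (show r ∈ perpIn E.uni R₀ q from ⟨hr, hrq q (Submodule.mem_span_singleton_self q)⟩) hpp
    (by rw [hrp]; exact one_ne_zero)
  have hp'q : f p' q = 0 := hp'.2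
  have hqp' : f q p' = 0 := (eq_zero_comm E.uni).1 hp'q
  have hp'0 : p' ≠ 0 := fun h => by rw [h, zero_left' E.uni] at hp'p; exact zero_ne_one hp'p
  have hp0 : p ≠ 0 := fun h => hind (h ▸ Submodule.zero_mem _)
  have step : ∀ μ, UFull σ f M (p + μ • q) → ∀ a ∈ F₀, ∀ c, c + σ c = 0 →
      UFull σ f M (p + (μ + c * a) • q) := by
    intro μ hμ a ha c hc
    obtain ⟨u, hu⟩ : ∃ u, u = p' + a • q := ⟨_, rfl⟩
    have huu : f u u = 0 := by
      simp only [hu, E.uni.add_left, add_right' E.uni, E.uni.smul_left, smul_right' E.uni, hp'p', hp'q, hqp', hqq]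
      ring
    have hu0 : u ≠ 0 := fun h => by
      have h2 : f u p = 1 := by rw [hu, E.uni.add_left, E.uni.smul_left, hp'p, hqp]; ring
      rw [h, zero_left' E.uni] at h2
      exact zero_ne_one h2
    have hg := (hfull u (hu ▸ R₀.add_mem hp'.1 (smul_mem_rat ha hq)) hu0 huu).2 c hc
    have h1 := ufull_conj E.uni hg (iso_uT E.uni huu hc) hμ
    have hnc : -c + σ (-c) = 0 := by rw [map_neg]; linear_combination -hc
    have hh := (hfull p' hp'.1 hp'0 hp'p').2 (-c) hnc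
    have h2 := ufull_conj E.uni hh (iso_uT E.uni hp'p' hnc) h1
    convert h2 using 1
    rw [uT_mulVec E.uni huu, uT_mulVec E.uni hp'p', hu]
    simp only [E.uni.add_left, add_right' E.uni, E.uni.smul_left,
      smul_right' E.uni, hpp', hpq, hqq, hqp', hp'p']
    module
  have hall : ∀ μ : F, UFull σ f M (p + μ • q) := by
    intro μ
    have hes : e - σ e ≠ 0 := sub_ne_zero.2 (Ne.symm hee)
    obtain ⟨c1, hc1⟩ : ∃ c1, c1 = (μ + σ μ) / (e - σ e) := ⟨_, rfl⟩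
    have hc1m : c1 * (e - σ e) = μ + σ μ := by rw [hc1, div_mul_cancel₀ _ hes]
    have hc1s : c1 + σ c1 = 0 := by
      rw [hc1, map_div₀, map_add, map_sub, E.uni.involutive, E.uni.involutive, ← neg_sub e (σ e), div_neg,
        add_comm (σ μ), add_neg_cancel]
    have hc2s : (μ - c1 * e) + σ (μ - c1 * e) = 0 := by
      rw [map_sub, map_mul, show σ c1 = -c1 by linear_combination hc1s]
      linear_combination -hc1m
    have h0 : UFull σ f M (p + (0 : F) • q) := by rw [zero_smul, add_zero]; exact hfull p hp hp0 hpp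
    have := step _ (step 0 h0 e heF c1 hc1s) 1 (one_mem F₀) _ hc2s
    rwa [show 0 + c1 * e + (μ - c1 * e) * 1 = μ by ring] at this
  obtain ⟨μ, hμ⟩ : ∃ μ, μ = σ (ν / θ) := ⟨_, rfl⟩
  have hμq : f (μ • q) (μ • q) = 0 := by rw [E.uni.smul_left, smul_right' E.uni, hqq]; ring
  have hnθ : -θ + σ (-θ) = 0 := by rw [map_neg]; linear_combination -hθ
  have hq' : UFull σ f M (μ • q) := by
    rcases eq_or_ne q 0 with rfl | hq0
    · refine ⟨hμq, fun c _ => ?_⟩
      have : uT f (μ • (0 : ι → F)) c = 1 := gl_ext fun z => by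
        rw [uT_mulVec E.uni hμq, smul_zero, smul_zero, add_zero, Units.val_one, one_mulVec]
      rw [this]
      exact M.one_mem
    · exact ufull_smul E.uni (hfull q hq hq0 hqq) μ
  have hm := M.mul_mem (M.mul_mem ((hall μ).2 θ hθ) ((hfull p hp hp0 hpp).2 (-θ) hnθ)) (hq'.2 (-θ) hnθ)
  convert hm using 1
  refine gl_ext fun z => ?_
  simp only [mul_mulVec, uX_mulVec E.uni hqq hpq, uT_mulVec E.uni (hall μ).1, uT_mulVec E.uni hμq,
    uT_mulVec E.uni hpp]
  simp only [E.uni.add_left, add_right' E.uni, E.uni.smul_left, smul_right' E.uni, hpp, hpq, hqp,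
    hqq, hμ, E.uni.involutive, map_div₀, map_neg, hσθ, neg_neg]
  match_scalars <;> field_simp <;> ring

omit O in
/-- Unipotent elements fixing a rational point, with any prescribed translation. -/
theorem exists_unipotent (hall : ∀ p ∈ R₀, ∀ q ∈ R₀, f p p = 0 → f q q = 0 → f p q = 0 →
      p ∉ Submodule.span F₀ {q} → ∀ ν, uX σ f p q ν ∈ M) {x y : ι → F} (hx : x ∈ R₀) (hx0 : x ≠ 0)
    (hxx : f x x = 0) (hy : y ∈ R₀) (hyx : f y x = 1) {w : ι → F} (hw : f w x = 0) :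
    ∃ k ∈ M, (k : Matrix ι ι F) *ᵥ x = x ∧ ∃ t : F, (k : Matrix ι ι F) *ᵥ y = y + w + t • x := by
  obtain ⟨Φ, hΦ⟩ : ∃ Φ : (ι → F) → Prop, ∀ v, Φ v ↔
      ∃ k ∈ M, (k : Matrix ι ι F) *ᵥ x = x ∧ (∀ z, f z x = 0 → ∃ t : F, (k : Matrix ι ι F) *ᵥ z = z + t • x) ∧
        f v x = 0 ∧ ∃ t : F, (k : Matrix ι ι F) *ᵥ y = y + v + t • x :=
    ⟨_, fun _ => Iff.rfl⟩
  have h0 : ∀ t : F, Φ (t • x) := fun t => (hΦ _).2 ⟨1, M.one_mem, by simp, fun z _ => ⟨0, by simp⟩,
    by rw [E.uni.smul_left, hxx, mul_zero], -t, by simp [neg_smul]⟩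
  have hadd : ∀ v v', Φ v → Φ v' → Φ (v + v') := by
    intro v v' h h'
    obtain ⟨k, hk, hkx, hkz, hvx, t, hky⟩ := (hΦ _).1 h
    obtain ⟨k', hk', hk'x, hk'z, hv'x, t', hk'y⟩ := (hΦ _).1 h'
    obtain ⟨s, hs⟩ := hkz v' hv'x
    refine (hΦ _).2 ⟨k * k', M.mul_mem hk hk', by rw [mul_mulVec, hk'x, hkx], fun z hz => ?_,
      by rw [E.uni.add_left, hvx, hv'x, add_zero], t + s + t', ?_⟩
    · obtain ⟨a, ha⟩ := hk'z z hz
      obtain ⟨b, hb⟩ := hkz z hz
      exact ⟨b + a, by rw [mul_mulVec, ha, mulVec_add, mulVec_smul, hb, hkx]; module⟩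
    · rw [mul_mulVec, hk'y, mulVec_add, mulVec_add, mulVec_smul, hky, hs, hkx]
      module
  have hgen : ∀ b ∈ R₀, f b b = 0 → f b x = 0 → ∀ μ : F, Φ (μ • b) := by
    intro b hb hbb hbx μ
    by_cases hbm : b ∈ Submodule.span F₀ {x}
    · obtain ⟨c, rfl⟩ := Submodule.mem_span_singleton.1 hbm
      rw [coe_smul_eq, smul_smul]
      exact h0 _
    have hxb : f x b = 0 := (eq_zero_comm E.uni).1 hbx
    have hk := hall x hx b hb hxx hbb hxb (fun hm => hbm (by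
      obtain ⟨c, hc⟩ := Submodule.mem_span_singleton.1 hm
      rcases eq_or_ne c 0 with rfl | hc0
      · exact absurd (by rw [← hc, zero_smul]) hx0
      · exact Submodule.mem_span_singleton.2 ⟨c⁻¹, by rw [← hc, smul_smul, inv_mul_cancel₀ hc0, one_smul]⟩))
      (-σ μ)
    refine (hΦ _).2 ⟨_, hk, ?_, fun z hz => ⟨-σ μ * f z b, ?_⟩, by rw [E.uni.smul_left, hbx, mul_zero],
      -σ μ * f y b, ?_⟩
    · rw [uX_mulVec E.uni hbb hxb, hxx, hxb]; simp
    · rw [uX_mulVec E.uni hbb hxb, hz, mul_zero, zero_smul, sub_zero]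
    · rw [uX_mulVec E.uni hbb hxb, hyx, map_neg, E.uni.involutive]
      module
  have hmem : ∀ v, v - f v x • y ∈ Submodule.span F {s | s ∈ R₀ ∧ f s s = 0 ∧ f s x = 0} := by
    intro v
    induction E.span v using Submodule.span_induction with
    | mem a ha =>
      have h := E.mem_span_iso_perp hx hx0 hxx (a := a - f a x • y)
        (R₀.sub_mem ha (smul_mem_rat (E.rat a ha x hx) hy))
        (by rw [sub_left' E.uni, E.uni.smul_left, hyx, mul_one, sub_self])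
      exact Submodule.span_le_restrictScalars F₀ F _ h
    | zero => rw [zero_left' E.uni, zero_smul, sub_zero]; exact Submodule.zero_mem _
    | add a b _ _ ha hb =>
      rw [show a + b - f (a + b) x • y = (a - f a x • y) + (b - f b x • y) by rw [E.uni.add_left]; module]
      exact Submodule.add_mem _ ha hb
    | smul t a _ ha =>
      rw [show t • a - f (t • a) x • y = t • (a - f a x • y) by rw [E.uni.smul_left]; module]
      exact Submodule.smul_mem _ _ ha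
  have hall' : ∀ t : F, Φ (t • w) := by
    have := hmem w
    rw [hw, zero_smul, sub_zero] at this
    clear hw
    induction this using Submodule.span_induction with
    | mem a ha => exact fun t => hgen a ha.1 ha.2.1 ha.2.2 t
    | zero => intro t; rw [smul_zero]; simpa using h0 0
    | add a b _ _ ha hb => intro t; rw [smul_add]; exact hadd _ _ (ha t) (hb t)
    | smul c a _ ha => intro t; rw [smul_smul]; exact ha _
  obtain ⟨k, hk, hkx, -, -, t, hky⟩ := (hΦ _).1 (hall' 1)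
  rw [one_smul] at hky
  exact ⟨k, hk, hkx, t, hky⟩

/-- An irrational centre gives every transvection. -/
theorem transv_mem_of_not_tight (hgen : ∀ K : Subfield F, F₀ < K → K = ⊤) {θ : F} (hθF : θ ∈ F₀) (hθ0 : θ ≠ 0)
    (hθ : θ + σ θ = 0) (hnt : ¬ Tight σ f R₀ M) (v : ι → F) (hv : f v v = 0) (c : F) (hc : c + σ c = 0) :
    uT f v c ∈ M := by
  rcases eq_or_ne v 0 with rfl | hv0
  · have : uT f (0 : ι → F) c = 1 := gl_ext fun z => by
      rw [uT_mulVec E.uni (zero_left' E.uni 0)]; simp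
    rw [this]
    exact M.one_mem
  obtain ⟨e, heF, he, hee⟩ := E.exists_trace_moved hθF hθ0 hθ
  obtain ⟨w₀, hw₀, hw₀0, hw₀w₀, d, hd, hdF, hdm⟩ := E.exists_value O heF he hee hnt
  have hfull : ∀ a ∈ R₀, a ≠ 0 → f a a = 0 → UFull σ f M a := fun a ha ha0 haa =>
    E.ufull_rat O hgen hθF hθ0 hθ hw₀ hw₀0 hw₀w₀ hd hdF hdm ha ha0 haa
  have hall : ∀ p ∈ R₀, ∀ q ∈ R₀, f p p = 0 → f q q = 0 → f p q = 0 →
      p ∉ Submodule.span F₀ {q} → ∀ ν, uX σ f p q ν ∈ M := fun p hp q hq hpp hqq hpq hind =>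
    E.uX_mem hfull hθF hθ0 hθ hp hq hpp hqq hpq hind
  obtain ⟨x, hx, hxx, hxv⟩ := E.exists_iso_ne hv0
  have hx0 : x ≠ 0 := fun h => hxv (by rw [h]; exact zero_left' E.uni v)
  have hvx : f v x ≠ 0 := fun h => hxv ((eq_zero_comm E.uni).1 h)
  obtain ⟨r, hr, hrx⟩ := E.exists_dual hx hx0
  obtain ⟨y, hy, hyy, hyx, hxy⟩ := E.exists_partner le_rfl hx hr hxx (by rw [hrx]; exact one_ne_zero)
  have hy0 : y ≠ 0 := fun h => by rw [h, zero_left' E.uni] at hyx; exact zero_ne_one hyx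
  obtain ⟨w, hw⟩ : ∃ w, w = (f v x)⁻¹ • v - y := ⟨_, rfl⟩
  have hwx : f w x = 0 := by
    rw [hw, sub_left' E.uni, E.uni.smul_left, inv_mul_cancel₀ hvx, hyx, sub_self]
  obtain ⟨k, hk, hkx, t, hky⟩ := E.exists_unipotent hall hx hx0 hxx hy hyx hwx
  have hv1 : (f v x)⁻¹ • v = y + w := by rw [hw, add_sub_cancel]
  have hfv1 : f ((f v x)⁻¹ • v) x = 1 := by rw [E.uni.smul_left, inv_mul_cancel₀ hvx]
  have hfv1' : f x ((f v x)⁻¹ • v) = 1 := by rw [E.uni.herm, hfv1, map_one]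
  have ht : t + σ t = 0 := by
    have h := O.iso k hk y y
    rw [hky, ← hv1, hyy, E.uni.add_left, add_right' E.uni, add_right' E.uni, E.uni.smul_left t, E.uni.smul_left t,
      smul_right' E.uni t, smul_right' E.uni t, hfv1, hfv1', hxx] at h
    rw [show f ((f v x)⁻¹ • v) ((f v x)⁻¹ • v) = 0 by
      rw [E.uni.smul_left, smul_right' E.uni, hv, mul_zero, mul_zero]] at h
    linear_combination h
  have hf1 := ufull_conj E.uni hk (O.iso k hk) (hfull y hy hy0 hyy)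
  have hnegt : -t + σ (-t) = 0 := by rw [map_neg]; linear_combination -ht
  have hT2 := (hfull x hx hx0 hxx).2 (-t) hnegt
  have hf2 := uT_add_smul E.uni hf1 hxx hnegt hT2
  have hk1 : f ((k : Matrix ι ι F) *ᵥ y) x = 1 := by
    conv_lhs => arg 2; rw [← hkx]
    rw [O.iso k hk, hyx]
  rw [hk1, mul_one, hky, neg_smul, add_neg_cancel_right, ← hv1] at hf2
  have := (ufull_smul E.uni hf2 (f v x)).2 c hc
  rwa [smul_smul, mul_inv_cancel₀ hvx, one_smul] at this

end Setting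

end CfsgLib.SUFour.SubHerm
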