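/-
Overgroups of a rational unitary group with rational centres preserve the rational structure up to scalars.
-/
import Cfsg.Agent.Lib.SUFour.SubHermFull
import Cfsg.Agent.Lib.Classical22.UnitSubfieldMain

set_option autoImplicit false

namespace CfsgLib.SUFour.SubHerm

open Matrix CfsgLib.Transvec CfsgLib.Transvec.Unitary
open scoped MatrixGroups

variable {ι : Type} [Fintype ι] [DecidableEq ι] {F : Type*} [Field F] [Finite F]
variable {σ : F ≃+* F} {f : (ι → F) → (ι → F) → F} {F₀ : Subfield F} {R₀ : Submodule F₀ (ι → F)}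

namespace Setting

variable (E : Setting σ f F₀ R₀) {M : Subgroup (GL ι F)} (O : Over σ f R₀ M)
include E O

/-- A rational point sent to a point: everything follows. -/
theorem isPoint_of_isPoint (hT : Tight σ f R₀ M) {θ : F} (hθF : θ ∈ F₀) (hθ0 : θ ≠ 0) (hθ : θ + σ θ = 0)
    {g : GL ι F} (hg : g ∈ M) {w u : ι → F} (hw : w ∈ R₀) (hw0 : w ≠ 0) (hu : u ∈ R₀)
    (huu : f u u = 0) (hww : f w w = 0) (hgw : IsPoint R₀ ((g : Matrix ι ι F) *ᵥ w)) :
    IsPoint R₀ ((g : Matrix ι ι F) *ᵥ u) := by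
  have hi := O.iso g hg
  have key : ∀ a b, a ∈ R₀ → a ≠ 0 → f a a = 0 → b ∈ R₀ → f b b = 0 → f b a = 0 →
      IsPoint R₀ ((g : Matrix ι ι F) *ᵥ a) → IsPoint R₀ ((g : Matrix ι ι F) *ᵥ b) := by
    intro a b ha ha0 haa hb hbb hba ⟨r, hr, t, hgt⟩
    have ht : t ≠ 0 := fun h => mulVec_ne_zero g ha0 (by rw [hgt, h, zero_smul])
    have hσt : σ t ≠ 0 := (map_ne_zero_iff _ σ.injective).2 ht
    have hr0 : r ≠ 0 := fun h => mulVec_ne_zero g ha0 (by rw [hgt, h, smul_zero])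
    have hrr : f r r = 0 := by
      have := hi a a
      rw [hgt, haa, E.uni.smul_left, smul_right' E.uni] at this
      simpa [ht, hσt] using this
    have hbr : f ((g : Matrix ι ι F) *ᵥ b) r = 0 := by
      have := hi b a
      rw [hgt, hba, smul_right' E.uni] at this
      simpa [hσt] using this
    refine hT r hr hr0 hrr _ (by rw [hi]; exact hbb) hbr θ hθ0 hθ ?_
    rw [← conj_uT E.uni hi hbb]
    exact M.mul_mem (M.mul_mem hg (O.transv b hb hbb θ hθF hθ)) (M.inv_mem hg)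
  obtain ⟨z, hz, hz0, hzz, hzw, hzu⟩ := E.exists_perp_two hw hu
  exact key z u hz hz0 hzz hu huu ((eq_zero_comm E.uni).1 hzu) (key w z hw hw0 hww hz hzz hzw hgw)

omit O in
/-- An element sending all rational isotropic points to points preserves the rational lines. -/
theorem preserve_of_points {g : GL ι F}
    (hp : ∀ u ∈ R₀, f u u = 0 → IsPoint R₀ ((g : Matrix ι ι F) *ᵥ u)) :
    ∃ l : F, ∀ r ∈ R₀, ∃ r' ∈ R₀, (g : Matrix ι ι F) *ᵥ r = l • r' := by
  obtain ⟨x, hx, hx0, hxx⟩ := E.iso2 R₀ le_rfl (by have := E.dim; omega)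
  obtain ⟨rx, hrx, l, hgx⟩ := hp x hx hxx
  have hl : l ≠ 0 := fun h => mulVec_ne_zero g hx0 (by rw [hgx, h, zero_smul])
  refine ⟨l, ?_⟩
  have key : ∀ a b, a ∈ R₀ → a ≠ 0 → f a a = 0 → b ∈ R₀ → b ≠ 0 → f b b = 0 → f b a = 0 →
      (∃ r' ∈ R₀, (g : Matrix ι ι F) *ᵥ a = l • r') → ∃ r' ∈ R₀, (g : Matrix ι ι F) *ᵥ b = l • r' := by
    intro a b ha ha0 haa hb hb0 hbb hba ⟨ra, hra, hga⟩
    by_cases hbm : b ∈ Submodule.span F₀ {a}
    · obtain ⟨t, rfl⟩ := Submodule.mem_span_singleton.1 hbm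
      exact ⟨(t : F) • ra, smul_mem_rat t.2 hra, by rw [coe_smul_eq, mulVec_smul, hga, smul_comm]⟩
    obtain ⟨rb, hrb, m, hgb⟩ := hp b hb hbb
    obtain ⟨rc, hrc, n, hgc⟩ := hp (a + b) (R₀.add_mem ha hb) (by
      simp only [E.uni.add_left, add_right' E.uni, haa, hbb, hba, (eq_zero_comm E.uni).1 hba, add_zero])
    rw [mulVec_add, hga, hgb] at hgc
    have hn : n ≠ 0 := fun h => hbm (by
      rw [h, zero_smul] at hgc
      have h2 : (g : Matrix ι ι F) *ᵥ (a + b) = 0 := by rw [mulVec_add, hga, hgb, hgc]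
      have hab : b = -a := eq_neg_of_add_eq_zero_right (by_contra fun hne => mulVec_ne_zero g hne h2)
      rw [hab]
      exact Submodule.neg_mem _ (Submodule.mem_span_singleton_self a))
    have hm : m ≠ 0 := fun h => mulVec_ne_zero g hb0 (by rw [hgb, h, zero_smul])
    have hspan : rc ∈ Submodule.span F₀ ({ra, rb} : Set (ι → F)) := by
      refine E.mem_of_mem_span (Submodule.span_le.2 (by
        rintro z (rfl | rfl) <;> assumption)) hrc ((Submodule.smul_mem_iff _ hn).1 ?_)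
      rw [← hgc]
      exact Submodule.add_mem _ (Submodule.smul_mem _ _ (Submodule.subset_span (Submodule.subset_span (by simp))))
        (Submodule.smul_mem _ _ (Submodule.subset_span (Submodule.subset_span (by simp))))
    obtain ⟨α, β, he⟩ := Submodule.mem_span_pair.1 hspan
    rw [← he, coe_smul_eq, coe_smul_eq, smul_add, smul_smul, smul_smul, ← sub_eq_zero] at hgc
    have hind : ∀ u v : F, u • ra + v • rb = 0 → u = 0 ∧ v = 0 := by
      intro u v huv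
      have h1 : (g : Matrix ι ι F) *ᵥ ((u / l) • a + (v / m) • b) = 0 := by
        rw [mulVec_add, mulVec_smul, mulVec_smul, hga, hgb, smul_smul, smul_smul, div_mul_cancel₀ _ hl,
          div_mul_cancel₀ _ hm, huv]
      have h2 : (u / l) • a + (v / m) • b = 0 := by_contra fun h => mulVec_ne_zero g h h1
      have hv : v = 0 := by
        by_contra hv
        refine hbm (E.mem_of_mem_span (Submodule.span_le.2 (Set.singleton_subset_iff.2 ha)) hb
          ((Submodule.smul_mem_iff _ (div_ne_zero hv hm)).1 ?_))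
        rw [eq_neg_of_add_eq_zero_right h2]
        exact Submodule.neg_mem _ (Submodule.smul_mem _ _ (Submodule.subset_span (Submodule.mem_span_singleton_self a)))
      refine ⟨?_, hv⟩
      rw [hv, zero_div, zero_smul, add_zero, smul_eq_zero, div_eq_zero_iff] at h2
      rcases h2 with (h | h) | h
      · exact h
      · exact absurd h hl
      · exact absurd h ha0
    obtain ⟨h1, h2⟩ := hind (l - n * α) (m - n * β) (by rw [← hgc]; module)
    rw [sub_eq_zero] at h1 h2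
    refine ⟨((β : F) / α) • rb, smul_mem_rat (div_mem β.2 α.2) hrb, ?_⟩
    rw [hgb, smul_smul, h2, h1]
    have hα : (α : F) ≠ 0 := fun h => hl (by rw [h1, h, mul_zero])
    congr 1
    field_simp
  have hiso : ∀ b ∈ R₀, f b b = 0 → ∃ r' ∈ R₀, (g : Matrix ι ι F) *ᵥ b = l • r' := by
    intro b hb hbb
    rcases eq_or_ne b 0 with rfl | hb0
    · exact ⟨0, R₀.zero_mem, by rw [mulVec_zero, smul_zero]⟩
    obtain ⟨z, hz, hz0, hzz, hzx, hzb⟩ := E.exists_perp_two hx hb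
    exact key z b hz hz0 hzz hb hb0 hbb ((eq_zero_comm E.uni).1 hzb)
      (key x z hx hx0 hxx hz hz0 hzz hzx ⟨rx, hrx, hgx⟩)
  intro r hr
  have hs := E.mem_span_iso hr
  clear hr
  induction hs using Submodule.span_induction with
  | mem s hs => exact hiso s hs.1 hs.2
  | zero => exact ⟨0, R₀.zero_mem, by rw [mulVec_zero, smul_zero]⟩
  | add a b _ _ ha hb =>
    obtain ⟨a', ha', ea⟩ := ha
    obtain ⟨b', hb', eb⟩ := hb
    exact ⟨a' + b', R₀.add_mem ha' hb', by rw [mulVec_add, ea, eb, smul_add]⟩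
  | smul t a _ ha =>
    obtain ⟨a', ha', ea⟩ := ha
    exact ⟨(t : F) • a', smul_mem_rat t.2 ha', by rw [coe_smul_eq, mulVec_smul, ea, smul_comm]⟩

/-- With rational centres every element preserves the rational structure up to a scalar. -/
theorem preserve (hT : Tight σ f R₀ M) {θ : F} (hθF : θ ∈ F₀) (hθ0 : θ ≠ 0) (hθ : θ + σ θ = 0)
    (h9 : ∀ μ : F, μ ∉ F₀ → ∃ τ : F ≃+* F, (∀ a ∈ F₀, τ a = a) ∧ τ μ ≠ μ ∧ τ (τ μ) ≠ μ)
    {g : GL ι F} (hg : g ∈ M) : ∃ l : F, ∀ r ∈ R₀, ∃ r' ∈ R₀, (g : Matrix ι ι F) *ᵥ r = l • r' := by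
  obtain ⟨u₀, hu₀, hu₀0, huu⟩ := E.iso2 R₀ le_rfl (by have := E.dim; omega)
  have all : ∀ {h : GL ι F}, h ∈ M → IsPoint R₀ ((h : Matrix ι ι F) *ᵥ u₀) →
      ∃ l : F, ∀ r ∈ R₀, ∃ r' ∈ R₀, (h : Matrix ι ι F) *ᵥ r = l • r' := fun {h} hh hp =>
    E.preserve_of_points fun u hu huu' => E.isPoint_of_isPoint O hT hθF hθ0 hθ hh hu₀ hu₀0 hu huu' huu hp
  by_cases hpt : IsPoint R₀ ((g : Matrix ι ι F) *ᵥ u₀)
  · exact all hg hpt
  exfalso
  obtain ⟨v, hvd⟩ : ∃ v, v = (g : Matrix ι ι F) *ᵥ u₀ := ⟨_, rfl⟩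
  rw [← hvd] at hpt
  have hig := O.iso g hg
  have hv : f v v = 0 := by rw [hvd, hig]; exact huu
  have hY : uT f v θ ∈ M := by
    rw [hvd, ← conj_uT E.uni hig huu]
    exact M.mul_mem (M.mul_mem hg (O.transv u₀ hu₀ huu θ hθF hθ)) (M.inv_mem hg)
  have hZ : ∀ w ∈ R₀, w ≠ 0 → f w w = 0 → f w v ≠ 0 := fun w hw hw0 hww hwv =>
    hpt (hT w hw hw0 hww v hv ((eq_zero_comm E.uni).1 hwv) θ hθ0 hθ hY)
  obtain ⟨x', hx', hx'x', hx'x, hind⟩ := E.exists_perp_indep hu₀ hu₀0 huu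
  have hxx' : f u₀ x' = 0 := (eq_zero_comm E.uni).1 hx'x
  have hx'0 : x' ≠ 0 := fun h => hind (h ▸ Submodule.zero_mem _)
  have hxv := hZ u₀ hu₀ hu₀0 huu
  have hx'v := hZ x' hx' hx'0 hx'x'
  obtain ⟨k, hk, ⟨t, ht, hkv⟩, hkfix, -⟩ := CfsgLib.Classical22.UnitSubfield.exists_conjugate_point E.uni O.iso
    huu hv hxv hθ0 (O.transv u₀ hu₀ huu θ hθF hθ) hY
  obtain ⟨k', hk', ⟨t', ht', hk'v⟩, hk'fix, -⟩ := CfsgLib.Classical22.UnitSubfield.exists_conjugate_point E.uni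
    O.iso hx'x' hv hx'v hθ0 (O.transv x' hx' hx'x' θ hθF hθ) hY
  obtain ⟨lA, hA⟩ := all (M.mul_mem hk hg) ⟨u₀, hu₀, t, by rw [mul_mulVec, ← hvd, hkv]⟩
  obtain ⟨lB, hB⟩ := all (M.mul_mem hk' hg) ⟨x', hx', t', by rw [mul_mulVec, ← hvd, hk'v]⟩
  choose φ hφR hφ using hA
  have hlA : lA ≠ 0 := fun h0 => by
    have := hφ u₀ hu₀
    rw [h0, zero_smul] at this
    exact mulVec_ne_zero _ hu₀0 this
  have hsurj : ∀ r ∈ R₀, ∃ s ∈ R₀, ((k * g : GL ι F) : Matrix ι ι F) *ᵥ s = lA • r := by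
    intro r hr
    obtain ⟨⟨s, hs⟩, hsr⟩ := Finite.surjective_of_injective
      (f := fun s : R₀ => (⟨φ s.1 s.2, hφR s.1 s.2⟩ : R₀)) (fun a b hab => Subtype.ext (mulVec_injective (k * g)
        (show ((k * g : GL ι F) : Matrix ι ι F) *ᵥ (a : ι → F) = ((k * g : GL ι F) : Matrix ι ι F) *ᵥ (b : ι → F) by
          rw [hφ a.1 a.2, hφ b.1 b.2, show φ a.1 a.2 = φ b.1 b.2 from congrArg Subtype.val hab]))) ⟨r, hr⟩
    exact ⟨s, hs, by rw [hφ s hs, show φ s hs = r from congrArg Subtype.val hsr]⟩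
  obtain ⟨m, hmd⟩ : ∃ m, m = k' * k⁻¹ := ⟨_, rfl⟩
  obtain ⟨L, hL⟩ : ∃ L, L = lB / lA := ⟨_, rfl⟩
  have hmR : ∀ r ∈ R₀, ∃ r' ∈ R₀, (m : Matrix ι ι F) *ᵥ r = L • r' := by
    intro r hr
    obtain ⟨s, hs, hsr⟩ := hsurj r hr
    obtain ⟨r', hr', hsr'⟩ := hB s hs
    refine ⟨r', hr', smul_right_injective _ hlA ?_⟩
    show lA • ((m : Matrix ι ι F) *ᵥ r) = lA • (L • r')
    rw [← mulVec_smul, ← hsr, ← mul_mulVec, hmd, show k' * k⁻¹ * (k * g) = k' * g by group, hsr', smul_smul, hL,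
      mul_div_cancel₀ _ hlA]
  obtain ⟨s, hs⟩ : ∃ s, s = -(f u₀ v / f x' v) := ⟨_, rfl⟩
  obtain ⟨p, hp⟩ : ∃ p, p = u₀ + s • x' := ⟨_, rfl⟩
  have hpv : f p v = 0 := by
    rw [hp, E.uni.add_left, E.uni.smul_left, hs, neg_mul, div_mul_cancel₀ _ hx'v, add_neg_cancel]
  have hkp : (k : Matrix ι ι F) *ᵥ p = p :=
    hkfix p (by rw [hp, E.uni.add_left, E.uni.smul_left, huu, hx'x]; ring) hpv
  have hk'p : (k' : Matrix ι ι F) *ᵥ p = p :=
    hk'fix p (by rw [hp, E.uni.add_left, E.uni.smul_left, hxx', hx'x']; ring) hpv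
  have hkinv : ((k⁻¹ : GL ι F) : Matrix ι ι F) *ᵥ u₀ = t⁻¹ • v := by
    refine mulVec_injective k ?_
    show (k : Matrix ι ι F) *ᵥ _ = (k : Matrix ι ι F) *ᵥ _
    rw [mulVec_inv_cancel, mulVec_smul, hkv, smul_smul, inv_mul_cancel₀ ht, one_smul]
  have hmp : (m : Matrix ι ι F) *ᵥ p = p := by
    have : ((k⁻¹ : GL ι F) : Matrix ι ι F) *ᵥ p = p := by
      refine mulVec_injective k ?_
      show (k : Matrix ι ι F) *ᵥ _ = (k : Matrix ι ι F) *ᵥ _
      rw [mulVec_inv_cancel, hkp]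
    rw [hmd, mul_mulVec, this, hk'p]
  obtain ⟨a, ha, hma⟩ := hmR u₀ hu₀
  obtain ⟨b, hb, hmb⟩ := hmR x' hx'
  have hmx : (m : Matrix ι ι F) *ᵥ u₀ = (t⁻¹ * t') • x' := by
    rw [hmd, mul_mulVec, hkinv, mulVec_smul, hk'v, smul_smul]
  have hL0 : L ≠ 0 := fun h => mulVec_ne_zero m hu₀0 (by rw [hma, h, zero_smul])
  have hsx' : Submodule.span F₀ {x'} ≤ R₀ := Submodule.span_le.2 (Set.singleton_subset_iff.2 hx')
  obtain ⟨α, hα⟩ := Submodule.mem_span_singleton.1 (E.mem_of_mem_span hsx' ha (u := a)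
    ((Submodule.smul_mem_iff _ hL0).1 (by
      rw [← hma, hmx]
      exact Submodule.smul_mem _ _ (Submodule.subset_span (Submodule.mem_span_singleton_self x')))))
  rw [coe_smul_eq] at hα
  rw [← hα] at hma
  rw [hp, mulVec_add, mulVec_smul, hma, hmb] at hmp
  have hs0 : s ≠ 0 := hs ▸ neg_ne_zero.2 (div_ne_zero hxv hx'v)
  obtain ⟨β, γ, he⟩ := Submodule.mem_span_pair.1 (E.mem_of_mem_span
    (P := Submodule.span F₀ ({u₀, x'} : Set (ι → F))) (Submodule.span_le.2 (by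
      rintro z (rfl | rfl) <;> assumption)) hb ((Submodule.smul_mem_iff _ (mul_ne_zero hs0 hL0)).1 (by
      rw [show (s * L) • b = u₀ + s • x' - (L * α) • x' by rw [← hmp]; module]
      exact Submodule.sub_mem _ (Submodule.add_mem _ (Submodule.subset_span (Submodule.subset_span (by simp)))
        (Submodule.smul_mem _ _ (Submodule.subset_span (Submodule.subset_span (by simp)))))
        (Submodule.smul_mem _ _ (Submodule.subset_span (Submodule.subset_span (by simp)))))))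
  rw [← he, coe_smul_eq, coe_smul_eq] at hmp
  have hind2 : ∀ c d : F, c • u₀ + d • x' = 0 → c = 0 ∧ d = 0 := fun c d hcd => by
    have hd : d = 0 := by
      by_contra hd
      refine hind (E.mem_of_mem_span (Submodule.span_le.2 (Set.singleton_subset_iff.2 hu₀)) hx'
        ((Submodule.smul_mem_iff _ hd).1 ?_))
      rw [eq_neg_of_add_eq_zero_right hcd]
      exact Submodule.neg_mem _ (Submodule.smul_mem _ _ (Submodule.subset_span (Submodule.mem_span_singleton_self u₀)))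
    rw [hd, zero_smul, add_zero, smul_eq_zero] at hcd
    exact ⟨hcd.resolve_right hu₀0, hd⟩
  obtain ⟨h1, h2⟩ := hind2 (s * L * β - 1) (L * α + s * L * γ - s) (by
    rw [← sub_eq_zero] at hmp
    rw [← hmp]
    module)
  have hβ : (β : F) ≠ 0 := fun h => by rw [h] at h1; simp at h1
  have hquad : s * (s - (γ : F) / β) = (α : F) / β := by
    rw [eq_div_iff hβ, mul_assoc, sub_mul, div_mul_cancel₀ _ hβ]
    linear_combination -(s * β) * h2 + ((α : F) + s * γ) * h1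
  obtain ⟨τ, hτ, hτ1, hτ2⟩ := h9 s fun hsF => by
    have hp0 : p ≠ 0 := fun h => by
      have := (hind2 1 s (by rw [one_smul, ← hp, h])).1
      exact one_ne_zero this
    refine hZ p (hp ▸ R₀.add_mem hu₀ (smul_mem_rat hsF hx')) hp0 ?_ hpv
    simp only [hp, E.uni.add_left, add_right' E.uni, E.uni.smul_left, smul_right' E.uni, huu, hx'x', hxx', hx'x]
    ring
  have hquad' := congrArg τ hquad
  rw [map_mul, map_sub, map_div₀, map_div₀, hτ _ α.2, hτ _ β.2, hτ _ γ.2, ← hquad] at hquad'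
  have e1 : τ s = (γ : F) / β - s := by
    have : (τ s - s) * (τ s - ((γ : F) / β - s)) = 0 := by linear_combination hquad'
    exact sub_eq_zero.1 ((mul_eq_zero.1 this).resolve_left (sub_ne_zero.2 hτ1))
  refine hτ2 ?_
  rw [e1, map_sub, map_div₀, hτ _ γ.2, hτ _ β.2, e1, sub_sub_cancel]

end Setting

end CfsgLib.SUFour.SubHerm
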