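/-
Subfield subgroups of odd prime degree of the special unitary groups in dimension four and above are maximal.
-/
import Cfsg.Agent.Lib.SUFour.SubHermTight
import Cfsg.Agent.Lib.SUFour.Basic
import Cfsg.Agent.Lib.Classical22.UnitSubfieldMatrix

set_option autoImplicit false

namespace CfsgLib.SUFour.SubHerm

open Matrix Cfsg CfsgLib.Transvec CfsgLib.Transvec.Unitary
open CfsgLib.Classical22.UnitSubfield (ratSpace mem_ratSpace mem_subfield_of_preserve trace_of_moves exists_skew_mem
  iso3_of_moves mem_of_pow_card)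
open scoped MatrixGroups

theorem isMaximalIn_subfield_odd {F : Type*} [Field F] [Fintype F] {n q : ℕ} (hF : Fintype.card F = q ^ 2)
    (hn : 4 ≤ n) (F₀ : Subfield F) {r : ℕ} (hr : r.Prime) (hro : Odd r) (hcard : Fintype.card F = Nat.card F₀ ^ r)
    (P : GL (Fin n) F) (hP : Cfsg.Geo.IsFormRationalStructure (Cfsg.hermForm n F q) F₀ 1 P) :
    Cfsg.Geo.IsMaximalIn (Cfsg.GU n F q ⊓ Cfsg.Geo.specialLinear (Fin n) F)
      (Cfsg.Geo.subfieldSubgroup F₀ P ⊓ (Cfsg.GU n F q ⊓ Cfsg.Geo.specialLinear (Fin n) F)) := by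
  obtain ⟨σ, hσ, hinv, hne⟩ := exists_frob hF
  have hf := isUnitaryForm_hermForm (n := n) hσ hinv hne
  obtain ⟨hne₀, hgen⟩ := CfsgLib.Classical22.OrthSubfield.eq_top_of_prime_degree F₀ hr hcard
  have hstable : ∀ c ∈ F₀, σ c ∈ F₀ := fun c hc => by rw [hσ]; exact pow_mem hc q
  have hmoves : ∃ a ∈ F₀, σ a ≠ a := by
    by_contra hcon
    simp only [not_exists, not_and, not_not] at hcon
    let K : Subfield F := RingHom.eqLocusField (σ : F →+* F) (RingHom.id F)
    have hle : F₀ ≤ K := hcon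
    have hKtop : K ≠ ⊤ := fun h => hne (RingEquiv.ext fun a => by
      have : a ∈ K := h ▸ Subfield.mem_top a
      exact this)
    have hK : K = F₀ := by
      by_contra hne'
      exact hKtop (hgen K (lt_of_le_of_ne hle (Ne.symm hne')))
    -- every element satisfies a quadratic equation over the fixed field
    obtain ⟨c, hc0, hc⟩ := exists_skew hne hinv
    obtain ⟨e, he⟩ := exists_trace_eq hne hinv (map_one σ)
    have hfin : Module.finrank F₀ F ≤ 2 := by
      let S : Submodule F₀ F := Submodule.span F₀ (Set.range ![e, c])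
      have htop : S = ⊤ := by
        refine top_unique fun y _ => ?_
        have hfix1 : y + σ y ∈ F₀ := hK ▸ (show σ (y + σ y) = y + σ y by rw [map_add, hinv]; ring)
        obtain ⟨d, hd⟩ : ∃ d, d = y - (y + σ y) * e := ⟨_, rfl⟩
        have hσe : σ e = 1 - e := by linear_combination he
        have hd2 : σ d = -d := by
          rw [hd, map_sub, map_mul, map_add, hinv, hσe]; ring
        have hfix2 : d / c ∈ F₀ := hK ▸ (show σ (d / c) = d / c by
          rw [map_div₀, hd2, show σ c = -c by linear_combination hc, neg_div_neg_eq])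
        have ey : y = (⟨_, hfix1⟩ : F₀) • e + (⟨_, hfix2⟩ : F₀) • c := by
          rw [Subfield.smul_def, Subfield.smul_def, smul_eq_mul, smul_eq_mul, div_mul_cancel₀ _ hc0, hd]
          ring
        rw [ey]
        exact S.add_mem (S.smul_mem _ (Submodule.subset_span ⟨0, rfl⟩))
          (S.smul_mem _ (Submodule.subset_span ⟨1, rfl⟩))
      have := finrank_range_le_card (R := F₀) (b := ![e, c])
      rw [Set.finrank, show Submodule.span F₀ (Set.range ![e, c]) = ⊤ from htop, finrank_top,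
        Fintype.card_fin] at this
      exact this
    have h1 := Module.natCard_eq_pow_finrank (K := F₀) (V := F)
    rw [Nat.card_eq_fintype_card, hcard] at h1
    have h2 := Nat.pow_right_injective (Nat.succ_le_of_lt Finite.one_lt_card) h1
    have := hr.two_le
    obtain ⟨k, hk⟩ := hro
    omega
  have hrat : ∀ a ∈ ratSpace F₀ P, ∀ b ∈ ratSpace F₀ P, Cfsg.hermForm n F q a b ∈ F₀ := by
    intro a ha b hb
    obtain ⟨u, rfl⟩ := mem_ratSpace.1 ha
    obtain ⟨w, rfl⟩ := mem_ratSpace.1 hb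
    have := hP (coeVec F₀ u) (coeVec F₀ w) (fun i => (u i).2) fun i => (w i).2
    rwa [one_mul] at this
  have hspan : ∀ v, v ∈ Submodule.span F (ratSpace F₀ P : Set (Fin n → F)) := fun v => by
    refine Submodule.span_mono ?_ (mem_span_rational (F₀ := F₀) (P := P) v)
    rintro _ ⟨u, rfl⟩
    exact ⟨u, rfl⟩
  have E : Setting σ (Cfsg.hermForm n F q) F₀ (ratSpace F₀ P) :=
    { uni := hf
      stable := hstable
      rat := hrat
      span := hspan
      trace := trace_of_moves hstable hinv hmoves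
      iso2 := fun S hS hd => iso3_of_moves hf hstable hmoves hrat S hS hd
      dim := by
        rw [ratSpace, LinearMap.finrank_range_of_inj, Module.finrank_fin_fun]
        · exact hn
        · exact fun a b h => coeVec_injective (mulVec_injective P h) }
  obtain ⟨θ, hθF, hθ0, hθ⟩ := exists_skew_mem hstable hinv hmoves
  have h9 : ∀ μ : F, μ ∉ F₀ → ∃ τ : F ≃+* F, (∀ a ∈ F₀, τ a = a) ∧ τ μ ≠ μ ∧ τ (τ μ) ≠ μ := by
    intro μ hμ
    have : Fintype F₀ := Fintype.ofFinite _
    let τ' : Gal(F/F₀) := FiniteField.frobeniusAlgEquivOfAlgebraic F₀ F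
    have hτ : ∀ a, τ' a = a ^ Nat.card F₀ := fun a => by
      rw [Nat.card_eq_fintype_card]; rfl
    refine ⟨τ'.toRingEquiv, fun a ha => τ'.commutes (⟨a, ha⟩ : F₀), fun h => hμ ?_, fun h => ?_⟩
    · exact (mem_of_pow_card F₀ μ) (by rw [← hτ]; exact h)
    · refine hμ ((mem_of_pow_card F₀ μ) ?_)
      change τ' (τ' μ) = μ at h
      rw [hτ, hτ, ← pow_mul] at h
      have hiter : ∀ k : ℕ, μ ^ ((Nat.card F₀ * Nat.card F₀) ^ k) = μ := fun k => by
        induction k with
        | zero => rw [pow_zero, pow_one]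
        | succ k ih => rw [pow_succ, pow_mul, ih, h]
      obtain ⟨k, hk⟩ := hro
      have h1 : μ ^ (Nat.card F₀ ^ r * Nat.card F₀) = μ := by
        rw [show Nat.card F₀ ^ r * Nat.card F₀ = (Nat.card F₀ * Nat.card F₀) ^ (k + 1) by rw [hk]; ring]
        exact hiter _
      rwa [← hcard, pow_mul, FiniteField.pow_card] at h1
  obtain ⟨x, hx, hx0, hxx⟩ := E.iso2 _ le_rfl (by have := E.dim; omega)
  refine ⟨lt_of_le_not_ge inf_le_right fun hle => ?_, fun M hHM hMK => ?_⟩
  · obtain ⟨μ, -, hμ⟩ := SetLike.exists_of_lt (lt_top_iff_ne_top.2 hne₀)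
    obtain ⟨a, ha, haa, hax, haP⟩ := E.exists_perp_indep hx hx0 hxx
    have hxa : Cfsg.hermForm n F q x a = 0 := (eq_zero_comm hf).1 hax
    obtain ⟨y, hy, hyP, hya⟩ := E.exists_sep (Submodule.span_le.2 (Set.singleton_subset_iff.2 hx)) ha haP
    obtain ⟨y', hy', hy'x⟩ := E.exists_dual hx hx0
    have hk : uX σ (Cfsg.hermForm n F q) x a μ ∈ Cfsg.GU n F q ⊓ Cfsg.Geo.specialLinear (Fin n) F :=
      ⟨iso_uX hf hxx haa hxa μ,
        (Cfsg.Geo.specialLinear (Fin n) F).mul_mem (transv_mem_specialLinear _ _) (transv_mem_specialLinear _ _)⟩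
    obtain ⟨u, rfl⟩ := mem_ratSpace.1 hy
    obtain ⟨l, w, hlr⟩ := lines_of_mem_subfieldSubgroup (hle hk).1 u
    rw [uX_mulVec hf haa hxa, hya, hyP x (Submodule.mem_span_singleton_self x), mul_one, mul_zero, zero_smul,
      sub_zero] at hlr
    obtain ⟨r', hr'⟩ : ∃ r', r' = (P : Matrix (Fin n) (Fin n) F) *ᵥ coeVec F₀ w := ⟨_, rfl⟩
    rw [← hr'] at hlr
    have hrR : r' ∈ ratSpace F₀ P := mem_ratSpace.2 ⟨w, hr'.symm⟩
    have h1 := congrArg (fun z => Cfsg.hermForm n F q z a) hlr
    simp only [hf.add_left, hf.smul_left, hya, hxa, mul_zero, add_zero] at h1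
    have hl : l ∈ F₀ := by
      rw [eq_inv_of_mul_eq_one_left h1.symm]
      exact inv_mem (E.rat r' hrR a ha)
    have h2 := congrArg (fun z => Cfsg.hermForm n F q z y') hlr
    simp only [hf.add_left, hf.smul_left, show Cfsg.hermForm n F q x y' = 1 by
      rw [hf.herm, hy'x, map_one], mul_one] at h2
    refine hμ ?_
    rw [eq_sub_of_add_eq' h2]
    exact sub_mem (mul_mem hl (E.rat r' hrR y' hy')) (E.rat _ hy y' hy')
  have O : Over σ (Cfsg.hermForm n F q) (ratSpace F₀ P) M := by
    refine ⟨fun a ha haa c hc hcs => hHM ⟨?_, uT_mem_SU hσ hinv hne haa hcs⟩,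
      fun a ha b hb haa hbb hab => hHM ⟨?_, iso_uX hf haa hbb hab 1,
        (Cfsg.Geo.specialLinear (Fin n) F).mul_mem (transv_mem_specialLinear _ _) (transv_mem_specialLinear _ _)⟩,
      fun g hg => (hMK hg).1⟩
    · refine mem_subfield_of_preserve _ 1 fun w hw => ⟨_, ?_, (one_smul F _).symm⟩
      rw [uT_mulVec hf haa]
      exact (ratSpace F₀ P).add_mem hw (smul_mem_rat (mul_mem hc (E.rat w hw a ha)) ha)
    · refine mem_subfield_of_preserve _ 1 fun w hw => ⟨_, ?_, (one_smul F _).symm⟩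
      rw [uX_mulVec hf hbb hab]
      exact (ratSpace F₀ P).sub_mem ((ratSpace F₀ P).add_mem hw
        (smul_mem_rat (mul_mem (one_mem F₀) (E.rat w hw b hb)) ha))
        (smul_mem_rat (mul_mem (E.stable 1 (one_mem F₀)) (E.rat w hw a ha)) hb)
  by_cases hT : Tight σ (Cfsg.hermForm n F q) (ratSpace F₀ P) M
  · refine Or.inl (le_antisymm (le_inf (fun g hg => ?_) hMK) hHM)
    obtain ⟨l, hl⟩ := E.preserve O hT hθF hθ0 hθ h9 hg
    exact mem_subfield_of_preserve g l hl
  · exact Or.inr (le_antisymm hMK (su_le_of_transv hF hσ hinv hne hn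
      (fun v hv c hc => E.transv_mem_of_not_tight O hgen hθF hθ0 hθ hT v hv c hc)))

end CfsgLib.SUFour.SubHerm
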