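/-
The possible indices of a real orthogonal group of minus type in an overgroup.
-/
import Mathlib

set_option autoImplicit false

namespace CfsgLib.SUFour.SubOrth

/-- The only proper value of the index is `q³ + 1`. -/
theorem index_cases {q k : ℕ} (hq : 5 ≤ q) (hk : ∃ j, k = j * q ^ 2 + 1) (hkb : k ≤ q ^ 3 + 1)
    (hdiv : k * ((q ^ 2 + 1) * (q ^ 2 * (q ^ 2 - 1))) ∣ q ^ 6 * ((q ^ 2 - 1) * ((q ^ 3 + 1) * (q ^ 4 - 1)))) :
    k = 1 ∨ k = q ^ 3 + 1 := by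
  obtain ⟨j, rfl⟩ := hk
  rcases Nat.eq_zero_or_pos j with rfl | hj1
  · left; simp
  have hjq : j ≤ q := by
    by_contra h
    nlinarith [hkb, Nat.mul_le_mul_right (q ^ 2) (not_le.1 h)]
  rcases eq_or_lt_of_le hjq with rfl | hjlt
  · right; ring
  exfalso
  have h1 : 1 ≤ q ^ 2 := Nat.one_le_pow _ _ (by omega)
  obtain ⟨A, hA⟩ : ∃ A, A = q ^ 2 - 1 := ⟨_, rfl⟩
  have h4 : q ^ 4 - 1 = (q ^ 2 + 1) * A := by
    rw [hA, show q ^ 4 = (q ^ 2) ^ 2 by ring, show (q ^ 2) ^ 2 - 1 = (q ^ 2) ^ 2 - 1 ^ 2 by norm_num, Nat.sq_sub_sq]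
  rw [h4, ← hA] at hdiv
  have hpos : 0 < (q ^ 2 + 1) * (q ^ 2 * A) := by
    have : 25 ≤ q ^ 2 := by nlinarith
    have : 0 < A := by omega
    positivity
  have hd : (j * q ^ 2 + 1) ∣ q ^ 4 * ((q ^ 3 + 1) * A) := by
    refine Nat.dvd_of_mul_dvd_mul_right hpos (hdiv.trans (dvd_of_eq ?_))
    ring
  have hcop : Nat.Coprime (j * q ^ 2 + 1) (q ^ 4) := by
    have : Nat.Coprime (j * q ^ 2 + 1) (q ^ 2) := by
      rw [Nat.coprime_mul_right_add_left]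
      exact Nat.coprime_one_left _
    rw [show q ^ 4 = q ^ 2 * q ^ 2 by ring]
    exact this.mul_right this
  obtain ⟨B, hB⟩ : ∃ B, B = q ^ 2 - q + 1 := ⟨_, rfl⟩
  have hqq : q ≤ q ^ 2 := Nat.le_self_pow two_ne_zero q
  have h3 : q ^ 3 + 1 = (q + 1) * B := by
    have hB' : B + q = q ^ 2 + 1 := by omega
    nlinarith [hB']
  have hd' : (j * q ^ 2 + 1) ∣ (q + 1) * B * A := h3 ▸ hcop.dvd_of_dvd_mul_left hd
  obtain ⟨k, hk⟩ : ∃ k, k = j * q ^ 2 + 1 := ⟨_, rfl⟩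
  rw [← hk] at hd'
  have hdd : k ∣ k.gcd (q + 1) * k.gcd B * k.gcd A := by
    refine (Nat.dvd_gcd dvd_rfl hd').trans ?_
    exact (Nat.gcd_mul_right_dvd_mul_gcd _ _ _).trans (Nat.mul_dvd_mul_right (Nat.gcd_mul_right_dvd_mul_gcd _ _ _) _)
  have hkz : (k : ℤ) = j * q ^ 2 + 1 := by rw [hk]; push_cast; ring
  have hAz : (A : ℤ) = q ^ 2 - 1 := by rw [hA, Nat.cast_sub h1]; push_cast; ring
  have hBz : (B : ℤ) = q ^ 2 - q + 1 := by rw [hB, Nat.cast_add, Nat.cast_sub hqq]; push_cast; ring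
  have g1 : k.gcd A ∣ j + 1 := by
    have : ((k.gcd A : ℕ) : ℤ) ∣ ((j + 1 : ℕ) : ℤ) := by
      have e : ((j + 1 : ℕ) : ℤ) = k - j * A := by rw [hkz, hAz]; push_cast; ring
      rw [e]
      exact dvd_sub (Int.natCast_dvd_natCast.2 (Nat.gcd_dvd_left _ _))
        (dvd_mul_of_dvd_right (Int.natCast_dvd_natCast.2 (Nat.gcd_dvd_right _ _)) _)
    exact Int.natCast_dvd_natCast.1 this
  have g2 : k.gcd (q + 1) ∣ j + 1 := by
    have : ((k.gcd (q + 1) : ℕ) : ℤ) ∣ ((j + 1 : ℕ) : ℤ) := by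
      have e : ((j + 1 : ℕ) : ℤ) = k - j * ((q : ℤ) - 1) * ((q + 1 : ℕ) : ℤ) := by rw [hkz]; push_cast; ring
      rw [e]
      exact dvd_sub (Int.natCast_dvd_natCast.2 (Nat.gcd_dvd_left _ _))
        (dvd_mul_of_dvd_right (Int.natCast_dvd_natCast.2 (Nat.gcd_dvd_right _ _)) _)
    exact Int.natCast_dvd_natCast.1 this
  have g3 : k.gcd B ∣ q - j := by
    have : ((k.gcd B : ℕ) : ℤ) ∣ ((q - j : ℕ) : ℤ) := by
      have e : ((q - j : ℕ) : ℤ) = q * k - j * (q + 1) * (B : ℤ) := by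
        rw [hkz, hBz, Nat.cast_sub hjlt.le]; ring
      rw [e]
      exact dvd_sub (dvd_mul_of_dvd_right (Int.natCast_dvd_natCast.2 (Nat.gcd_dvd_left _ _)) _)
        (dvd_mul_of_dvd_right (Int.natCast_dvd_natCast.2 (Nat.gcd_dvd_right _ _)) _)
    exact Int.natCast_dvd_natCast.1 this
  have hle : k ≤ (j + 1) * (q - j) * (j + 1) :=
    Nat.le_of_dvd (Nat.mul_pos (Nat.mul_pos (by omega) (by omega)) (by omega))
      (hdd.trans (Nat.mul_dvd_mul (Nat.mul_dvd_mul g2 g3) g1))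
  obtain ⟨d, hdq⟩ : ∃ d, q = j + (d + 1) := ⟨q - j - 1, by omega⟩
  subst hdq
  rw [hk, show j + (d + 1) - j = d + 1 by omega] at hle
  nlinarith [Nat.mul_le_mul hj1 hj1, Nat.zero_le d, mul_nonneg (Nat.zero_le j) (Nat.zero_le d),
    mul_nonneg (mul_nonneg (Nat.zero_le j) (Nat.zero_le j)) (Nat.zero_le d)]

end CfsgLib.SUFour.SubOrth
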