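/-
Real structures on four-dimensional unitary spaces, symmetric case: parts, hyperbolic pairs, rational elements.
-/
import Cfsg.Agent.Lib.Transvec.UnitaryPair
import Cfsg.Agent.Lib.Transvec.UnitarySub

set_option autoImplicit false

namespace CfsgLib.SUFour.SubOrth

open Matrix CfsgLib.Transvec CfsgLib.Transvec.Unitary
open scoped MatrixGroups

variable {ι : Type} [Fintype ι] [DecidableEq ι] {F : Type*} [Field F] [Finite F]

/-- A four-dimensional space over the fixed field of `σ`, spanning, on which the form is symmetric. -/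
structure Setting (σ : F ≃+* F) (f : (ι → F) → (ι → F) → F) (F₀ : Subfield F) (R₀ : Submodule F₀ (ι → F))
    (im : F) : Prop where
  uni : Cfsg.Geo.IsUnitaryForm σ f
  fix : ∀ a, σ a = a ↔ a ∈ F₀
  rat : ∀ a ∈ R₀, ∀ b ∈ R₀, f a b ∈ F₀
  span : ∀ v, v ∈ Submodule.span F (R₀ : Set (ι → F))
  dim : Module.finrank F₀ R₀ = 4
  two : (2 : F) ≠ 0
  five : ∃ l ∈ F₀, l ≠ 0 ∧ l * l ≠ 1
  im_ne : im ≠ 0
  im_skew : σ im = -im

/-- Preserving the real structure up to a scalar. -/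
def Pres {F₀ : Subfield F} (R₀ : Submodule F₀ (ι → F)) (g : GL ι F) : Prop :=
  ∃ l : F, ∀ r ∈ R₀, ∃ r' ∈ R₀, (g : Matrix ι ι F) *ᵥ r = l • r'

/-- A real hyperbolic pair. -/
structure Hyp (f : (ι → F) → (ι → F) → F) {F₀ : Subfield F} (R₀ : Submodule F₀ (ι → F)) (u v : ι → F) : Prop where
  hu : u ∈ R₀
  hv : v ∈ R₀
  uu : f u u = 0
  vv : f v v = 0
  vu : f v u = 1
  uv : f u v = 1

/-- The element `x ↦ x + f(x,u) (ζ + c u) - f(x,ζ) u` of the unipotent radical at `u`. -/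
noncomputable def rEl (f : (ι → F) → (ι → F) → F) (u ζ : ι → F) (c : F) : GL ι F :=
  transv u (-uvec f ζ) * transv ζ (uvec f u) * uT f u (c + f ζ ζ)

/-- The reflection along an anisotropic vector. -/
noncomputable def rf (f : (ι → F) → (ι → F) → F) (d : ι → F) : GL ι F :=
  pseudo d ((-2 / f d d) • uvec f d)

variable {σ : F ≃+* F} {f : (ι → F) → (ι → F) → F} {F₀ : Subfield F} {R₀ : Submodule F₀ (ι → F)} {im : F}

omit [Fintype ι] [DecidableEq ι] [Finite F] in
theorem coe_smul_eq (c : F₀) (v : ι → F) : c • v = (c : F) • v := Subfield.smul_def c v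

omit [Fintype ι] [DecidableEq ι] [Finite F] in
theorem smul_mem_rat {c : F} (hc : c ∈ F₀) {v : ι → F} (hv : v ∈ R₀) : c • v ∈ R₀ := by
  have h := R₀.smul_mem (⟨c, hc⟩ : F₀) hv
  rwa [coe_smul_eq] at h

namespace Setting

variable (E : Setting σ f F₀ R₀ im)
include E

omit [Fintype ι] [DecidableEq ι] [Finite F] in
theorem sym {a b : ι → F} (ha : a ∈ R₀) (hb : b ∈ R₀) : f a b = f b a := by
  rw [E.uni.herm a b, (E.fix _).2 (E.rat b hb a ha)]

omit [Fintype ι] [DecidableEq ι] [Finite F] in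
theorem im_sq_mem : im * im ∈ F₀ := (E.fix _).1 (by rw [map_mul, E.im_skew, neg_mul_neg])

omit [Fintype ι] [DecidableEq ι] [Finite F] in
theorem im_notMem : im ∉ F₀ := fun h => E.im_ne (by
  have h2 := (E.fix _).2 h
  rw [E.im_skew] at h2
  exact (mul_eq_zero.1 (show (2 : F) * im = 0 by linear_combination -h2)).resolve_left E.two)

omit [Fintype ι] [DecidableEq ι] [Finite F] in
theorem scal_eq_zero {a b : F} (ha : a ∈ F₀) (hb : b ∈ F₀) (h : a + im * b = 0) : a = 0 ∧ b = 0 := by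
  rcases eq_or_ne b 0 with rfl | hb0
  · exact ⟨by simpa using h, rfl⟩
  · refine absurd ?_ E.im_notMem
    rw [show im = -a / b by rw [eq_div_iff hb0]; linear_combination h]
    exact div_mem (neg_mem ha) hb

omit [Fintype ι] [DecidableEq ι] [Finite F] in
theorem scal_parts (t : F) : ∃ a ∈ F₀, ∃ b ∈ F₀, t = a + im * b := by
  refine ⟨(t + σ t) / 2, (E.fix _).1 ?_, (t - σ t) / (2 * im), (E.fix _).1 ?_, ?_⟩
  · rw [map_div₀, map_add, E.uni.involutive, map_ofNat, add_comm]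
  · rw [map_div₀, map_sub, E.uni.involutive, map_mul, map_ofNat, E.im_skew, mul_neg, div_neg, ← neg_div, neg_sub]
  · have := E.two
    have := E.im_ne
    field_simp
    ring

omit [Finite F] in
theorem eq_zero_of_perp {z : ι → F} (h : ∀ r ∈ R₀, f r z = 0) : z = 0 := by
  by_contra hz
  obtain ⟨x, hx⟩ := (E.uni.nondegenerate z hz).1
  refine hx ?_
  clear hx
  induction E.span x using Submodule.span_induction with
  | mem a ha => exact h a ha
  | zero => exact zero_left' E.uni z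
  | add a b _ _ ha hb => rw [E.uni.add_left, ha, hb, add_zero]
  | smul t a _ ha => rw [E.uni.smul_left, ha, mul_zero]

omit [Fintype ι] [DecidableEq ι] [Finite F] in
theorem decomp (z : ι → F) : ∃ a, ∃ b, a ∈ R₀ ∧ b ∈ R₀ ∧ z = a + im • b := by
  induction E.span z using Submodule.span_induction with
  | mem a ha => exact ⟨a, 0, ha, R₀.zero_mem, by rw [smul_zero, add_zero]⟩
  | zero => exact ⟨0, 0, R₀.zero_mem, R₀.zero_mem, by rw [smul_zero, add_zero]⟩
  | add p r _ _ hp hr =>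
    obtain ⟨a, b, ha, hb, rfl⟩ := hp
    obtain ⟨a', b', ha', hb', rfl⟩ := hr
    exact ⟨a + a', b + b', R₀.add_mem ha ha', R₀.add_mem hb hb', by module⟩
  | smul t p _ hp =>
    obtain ⟨a, b, ha, hb, rfl⟩ := hp
    obtain ⟨t₀, h₀, t₁, h₁, rfl⟩ := E.scal_parts t
    exact ⟨t₀ • a + (im * im * t₁) • b, t₁ • a + t₀ • b,
      R₀.add_mem (smul_mem_rat h₀ ha) (smul_mem_rat (mul_mem E.im_sq_mem h₁) hb),
      R₀.add_mem (smul_mem_rat h₁ ha) (smul_mem_rat h₀ hb), by module⟩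

omit [Finite F] in
theorem eq_zero_of_parts {a b : ι → F} (ha : a ∈ R₀) (hb : b ∈ R₀) (h : a + im • b = 0) : a = 0 ∧ b = 0 := by
  have key : ∀ r ∈ R₀, f r a = 0 ∧ f r b = 0 := fun r hr => by
    have h' := congrArg (f r) h
    rw [zero_right' E.uni, add_right' E.uni, smul_right' E.uni, E.im_skew] at h'
    obtain ⟨h1, h2⟩ := E.scal_eq_zero (E.rat r hr a ha) (neg_mem (E.rat r hr b hb)) (by linear_combination h')
    exact ⟨h1, neg_eq_zero.1 h2⟩
  exact ⟨E.eq_zero_of_perp fun r hr => (key r hr).1, E.eq_zero_of_perp fun r hr => (key r hr).2⟩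

omit [Finite F] in
theorem parts_unique {a b a' b' : ι → F} (ha : a ∈ R₀) (hb : b ∈ R₀) (ha' : a' ∈ R₀) (hb' : b' ∈ R₀)
    (h : a + im • b = a' + im • b') : a = a' ∧ b = b' := by
  obtain ⟨h1, h2⟩ := E.eq_zero_of_parts (R₀.sub_mem ha ha') (R₀.sub_mem hb hb') (by
    rw [← sub_eq_zero] at h; rw [← h]; module)
  exact ⟨sub_eq_zero.1 h1, sub_eq_zero.1 h2⟩

omit [Fintype ι] [DecidableEq ι] [Finite F] in
/-- The parts of a vector orthogonal to a rational one are orthogonal to it. -/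
theorem parts_perp {a b r : ι → F} (ha : a ∈ R₀) (hb : b ∈ R₀) (hr : r ∈ R₀) (h : f (a + im • b) r = 0) :
    f a r = 0 ∧ f b r = 0 := by
  rw [E.uni.add_left, E.uni.smul_left] at h
  exact E.scal_eq_zero (E.rat a ha r hr) (E.rat b hb r hr) h

omit [Finite F] in
theorem exists_dual {x : ι → F} (hx : x ∈ R₀) (hx0 : x ≠ 0) : ∃ y ∈ R₀, f y x = 1 := by
  obtain ⟨y, hy, hyx⟩ : ∃ y ∈ R₀, f y x ≠ 0 := by
    by_contra h
    simp only [not_exists, not_and, not_not] at h
    exact hx0 (E.eq_zero_of_perp h)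
  exact ⟨(f y x)⁻¹ • y, smul_mem_rat (inv_mem (E.rat y hy x hx)) hy,
    by rw [E.uni.smul_left, inv_mul_cancel₀ hyx]⟩

omit [Finite F] in
theorem exists_hyp {u : ι → F} (hu : u ∈ R₀) (hu0 : u ≠ 0) (huu : f u u = 0) : ∃ v, Hyp f R₀ u v := by
  obtain ⟨y, hy, hyu⟩ := E.exists_dual hu hu0
  have huy : f u y = 1 := by rw [E.sym hu hy, hyu]
  obtain ⟨t, ht⟩ : ∃ t, t = -f y y / 2 := ⟨_, rfl⟩
  have htF : t ∈ F₀ := ht ▸ div_mem (neg_mem (E.rat y hy y hy)) (ofNat_mem F₀ 2)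
  have hσt : σ t = t := (E.fix t).2 htF
  refine ⟨y + t • u, hu, R₀.add_mem hy (smul_mem_rat htF hu), huu, ?_, ?_, ?_⟩
  · simp only [E.uni.add_left, add_right' E.uni, E.uni.smul_left, smul_right' E.uni, hσt, huu, hyu, huy]
    have := E.two
    rw [ht]
    field_simp
    ring
  · rw [E.uni.add_left, E.uni.smul_left, hyu, huu, mul_zero, add_zero]
  · rw [add_right' E.uni, smul_right' E.uni, huy, huu, mul_zero, add_zero]

omit [Fintype ι] [DecidableEq ι] [Finite F] E in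
theorem hyp_symm {u v : ι → F} (h : Hyp f R₀ u v) : Hyp f R₀ v u := ⟨h.hv, h.hu, h.vv, h.uu, h.uv, h.vu⟩

omit [Finite F] in
theorem hyp_ne {u v : ι → F} (h : Hyp f R₀ u v) : u ≠ 0 := fun e => by
  have := h.vu
  rw [e, zero_right' E.uni] at this
  exact zero_ne_one this

omit [Finite F] in
/-- The component of a vector orthogonal to a hyperbolic pair. -/
theorem split {u v : ι → F} (h : Hyp f R₀ u v) (x : ι → F) :
    f (x - f x v • u - f x u • v) u = 0 ∧ f (x - f x v • u - f x u • v) v = 0 := by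
  constructor <;>
    simp only [sub_left' E.uni, E.uni.smul_left, h.uu, h.vv, h.vu, h.uv, mul_zero, mul_one, sub_zero, sub_self]

omit [Fintype ι] [DecidableEq ι] [Finite F] in
theorem split_mem {u v : ι → F} (h : Hyp f R₀ u v) {x : ι → F} (hx : x ∈ R₀) :
    x - f x v • u - f x u • v ∈ R₀ :=
  R₀.sub_mem (R₀.sub_mem hx (smul_mem_rat (E.rat x hx v h.hv) h.hu)) (smul_mem_rat (E.rat x hx u h.hu) h.hv)

omit [Finite F] in
/-- A vector orthogonal to a pair and to its orthogonal vanishes. -/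
theorem eq_zero_of_perp_pair {u v : ι → F} (h : Hyp f R₀ u v) {z : ι → F} (hu : f z u = 0) (hv : f z v = 0)
    (hW : ∀ w ∈ R₀, f w u = 0 → f w v = 0 → f z w = 0) : z = 0 := by
  refine E.eq_zero_of_perp fun r hr => (eq_zero_comm E.uni).1 ?_
  have := hW _ (E.split_mem h hr) (E.split h r).1 (E.split h r).2
  rw [sub_right' E.uni, sub_right' E.uni, smul_right' E.uni, smul_right' E.uni, hu, hv] at this
  linear_combination this

omit [Finite F] in
theorem rEl_mulVec {u ζ : ι → F} (hu : f u u = 0) (hζ : f ζ u = 0) (c : F) (x : ι → F) :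
    (rEl f u ζ c : Matrix ι ι F) *ᵥ x = x + f x u • ζ + (c * f x u - f x ζ) • u := by
  have hζ' : f u ζ = 0 := (eq_zero_comm E.uni).1 hζ
  rw [rEl, mul_mulVec, mul_mulVec, uT_mulVec E.uni hu, transv_mulVec (v := ζ) (φ := uvec f u) (by rw [uvec_dot E.uni, hζ]),
    transv_mulVec (v := u) (φ := -uvec f ζ) (by rw [neg_dotProduct, uvec_dot E.uni, hζ', neg_zero])]
  simp only [neg_dotProduct, uvec_dot E.uni, E.uni.add_left, E.uni.smul_left, hu, hζ']
  module

omit [Finite F] in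
theorem iso_rEl {u ζ : ι → F} (hu : f u u = 0) (hζ : f ζ u = 0) {c : F} (hc : c + σ c = -f ζ ζ) :
    Iso f (rEl f u ζ c) := fun x y => by
  have hζ' : f u ζ = 0 := (eq_zero_comm E.uni).1 hζ
  simp only [E.rEl_mulVec hu hζ, E.uni.add_left, add_right' E.uni, E.uni.smul_left, smul_right' E.uni, map_sub,
    map_mul, hu, hζ, hζ']
  rw [← E.uni.herm u y, ← E.uni.herm ζ y]
  linear_combination (f x u * f u y) * hc

omit [Finite F] E in
theorem det_rEl (u ζ : ι → F) (c : F) : rEl f u ζ c ∈ Cfsg.Geo.specialLinear ι F :=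
  mul_mem (mul_mem (transv_mem_specialLinear _ _) (transv_mem_specialLinear _ _)) (transv_mem_specialLinear _ _)

omit [Finite F] in
theorem conj_rEl {g : GL ι F} (hg : Iso f g) {u ζ : ι → F} (hu : f u u = 0) (hζ : f ζ u = 0) (c : F) :
    g * rEl f u ζ c * g⁻¹ = rEl f ((g : Matrix ι ι F) *ᵥ u) ((g : Matrix ι ι F) *ᵥ ζ) c := by
  refine gl_ext fun y => ?_
  have h1 := hg (((g⁻¹ : GL ι F) : Matrix ι ι F) *ᵥ y) u
  have h2 := hg (((g⁻¹ : GL ι F) : Matrix ι ι F) *ᵥ y) ζ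
  rw [mulVec_inv_cancel] at h1 h2
  rw [mul_mulVec, mul_mulVec, E.rEl_mulVec hu hζ, E.rEl_mulVec (by rw [hg]; exact hu) (by rw [hg]; exact hζ),
    mulVec_add, mulVec_add, mulVec_smul, mulVec_smul, mulVec_inv_cancel, h1, h2]

omit [Finite F] in
theorem rf_mulVec {d : ι → F} (hd : f d d ≠ 0) (x : ι → F) :
    (rf f d : Matrix ι ι F) *ᵥ x = x + (-2 / f d d * f x d) • d := by
  rw [rf, pseudo_mulVec, smul_dotProduct, uvec_dot E.uni, smul_eq_mul]
  rw [smul_dotProduct, uvec_dot E.uni, smul_eq_mul, div_mul_cancel₀ _ hd]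
  norm_num

omit [Finite F] in
theorem det_rf {d : ι → F} (hd : f d d ≠ 0) : (rf f d : Matrix ι ι F).det = -1 := by
  have h : ((-2 / f d d) • uvec f d) ⬝ᵥ d = -2 := by
    rw [smul_dotProduct, uvec_dot E.uni, smul_eq_mul, div_mul_cancel₀ _ hd]
  rw [rf, det_pseudo (by rw [h]; norm_num), h]
  norm_num

omit [Finite F] in
theorem iso_rf {d : ι → F} (hd : f d d ≠ 0) : Iso f (rf f d) := fun x y => by
  simp only [E.rf_mulVec hd, E.uni.add_left, add_right' E.uni, E.uni.smul_left, smul_right' E.uni, map_mul,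
    map_div₀, map_neg, map_ofNat, self_fixed E.uni]
  rw [← E.uni.herm d y]
  field_simp
  ring

omit [Finite F] in
theorem rf_rat {d : ι → F} (hd : f d d ≠ 0) (hdR : d ∈ R₀) {x : ι → F} (hx : x ∈ R₀) :
    (rf f d : Matrix ι ι F) *ᵥ x ∈ R₀ := by
  rw [E.rf_mulVec hd]
  exact R₀.add_mem hx (smul_mem_rat
    (mul_mem (div_mem (neg_mem (ofNat_mem F₀ 2)) (E.rat d hdR d hdR)) (E.rat x hx d hdR)) hdR)

end Setting

end CfsgLib.SUFour.SubOrth
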