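/-
Overgroups of a real orthogonal group without real transvections: stabilisers of real isotropic points are real.
-/
import Cfsg.Agent.Lib.SUFour.SubOrthSpace

set_option autoImplicit false

namespace CfsgLib.SUFour.SubOrth

open Matrix CfsgLib.Transvec CfsgLib.Transvec.Unitary
open scoped MatrixGroups

variable {ι : Type} [Fintype ι] [DecidableEq ι] {F : Type*} [Field F] [Finite F]
variable {σ : F ≃+* F} {f : (ι → F) → (ι → F) → F} {F₀ : Subfield F} {R₀ : Submodule F₀ (ι → F)} {im : F}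

/-- A subgroup of the special unitary group containing the stabiliser of the real structure. -/
structure Over (f : (ι → F) → (ι → F) → F) (R₀ : Submodule F₀ (ι → F)) (M : Subgroup (GL ι F)) : Prop where
  sub : ∀ g, Iso f g → g ∈ Cfsg.Geo.specialLinear ι F → Pres R₀ g → g ∈ M
  iso : ∀ g ∈ M, Iso f g
  det : ∀ g ∈ M, g ∈ Cfsg.Geo.specialLinear ι F

/-- No transvection with real centre. -/
def NoT (f : (ι → F) → (ι → F) → F) (R₀ : Submodule F₀ (ι → F)) (M : Subgroup (GL ι F)) : Prop :=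
  ∀ u ∈ R₀, u ≠ 0 → f u u = 0 → ∀ c, uT f u c ∈ M → c = 0

namespace Setting

variable (E : Setting σ f F₀ R₀ im)
include E

omit [Fintype ι] [DecidableEq ι] [Finite F] in
theorem mem_of_smul {l : F} {a r : ι → F} (ha : a ∈ R₀) {y : ι → F} (hy : y ∈ R₀)
    (hyr : f r y = 1) (h : a = l • r) : l ∈ F₀ := by
  have := E.rat a ha y hy
  rwa [h, E.uni.smul_left, hyr, mul_one] at this

omit [Finite F] in
/-- An element preserving the real structure up to a scalar which fixes a real vector preserves it. -/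
theorem exact_of_pres {g : GL ι F} (hg : Pres R₀ g) {a : ι → F} (ha : a ∈ R₀) (ha0 : a ≠ 0)
    (hga : (g : Matrix ι ι F) *ᵥ a ∈ R₀) {x : ι → F} (hx : x ∈ R₀) : (g : Matrix ι ι F) *ᵥ x ∈ R₀ := by
  obtain ⟨l, hl⟩ := hg
  obtain ⟨a', ha', hea⟩ := hl a ha
  have ha'0 : a' ≠ 0 := fun h => mulVec_ne_zero g ha0 (by rw [hea, h, smul_zero])
  obtain ⟨y, hy, hya⟩ := E.exists_dual ha' ha'0
  have hlF := E.mem_of_smul hga hy (by rw [E.sym ha' hy, hya]) hea
  obtain ⟨x', hx', hex⟩ := hl x hx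
  rw [hex]
  exact smul_mem_rat hlF hx'

omit [Finite F] in
/-- Real elements of the unipotent radical are real. -/
theorem rEl_rat {u w : ι → F} (hu : u ∈ R₀) (huu : f u u = 0) (hw : w ∈ R₀) (hwu : f w u = 0) {c : F}
    (hc : c ∈ F₀) {x : ι → F} (hx : x ∈ R₀) : (rEl f u w c : Matrix ι ι F) *ᵥ x ∈ R₀ := by
  rw [E.rEl_mulVec huu hwu]
  exact R₀.add_mem (R₀.add_mem hx (smul_mem_rat (E.rat x hx u hu) hw))
    (smul_mem_rat (sub_mem (mul_mem hc (E.rat x hx u hu)) (E.rat x hx w hw)) hu)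

variable {M : Subgroup (GL ι F)} (O : Over f R₀ M)
include O

omit [Finite F] in
theorem rEl_mem {u w : ι → F} (hu : u ∈ R₀) (huu : f u u = 0) (hw : w ∈ R₀) (hwu : f w u = 0) :
    rEl f u w (-(f w w) / 2) ∈ M := by
  have hc : -(f w w) / 2 ∈ F₀ := div_mem (neg_mem (E.rat w hw w hw)) (ofNat_mem F₀ 2)
  refine O.sub _ (E.iso_rEl huu hwu ?_) (det_rEl u w _) ⟨1, fun r hr => ⟨_, E.rEl_rat hu huu hw hwu hc hr,
    (one_smul F _).symm⟩⟩
  rw [(E.fix _).2 hc]
  have := E.two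
  field_simp
  ring

omit [Finite F] in
/-- The elements of the radical at a real point are real. -/
theorem rat_of_rEl (N : NoT f R₀ M) {u v : ι → F} (h : Hyp f R₀ u v) {ζ : ι → F} (hζ : f ζ u = 0) {c : F}
    (hm : rEl f u ζ c ∈ M) {x : ι → F} (hx : x ∈ R₀) : (rEl f u ζ c : Matrix ι ι F) *ᵥ x ∈ R₀ := by
  have hu0 := E.hyp_ne h
  obtain ⟨α, hα⟩ : ∃ α, α = f ζ v := ⟨_, rfl⟩
  obtain ⟨z, hz⟩ : ∃ z, z = ζ - α • u := ⟨_, rfl⟩
  obtain ⟨d, hd⟩ : ∃ d, d = c + α - σ α := ⟨_, rfl⟩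
  have hzu : f z u = 0 := by rw [hz, sub_left' E.uni, E.uni.smul_left, hζ, h.uu, mul_zero, sub_zero]
  have hzv : f z v = 0 := by rw [hz, sub_left' E.uni, E.uni.smul_left, h.uv, mul_one, hα, sub_self]
  have e : rEl f u ζ c = rEl f u z d := gl_ext fun y => by
    rw [E.rEl_mulVec h.uu hζ, E.rEl_mulVec h.uu hzu, hz, hd, sub_right' E.uni, smul_right' E.uni]
    module
  rw [e] at hm ⊢
  obtain ⟨a, b, ha, hb, hab⟩ := E.decomp z
  obtain ⟨hau, hbu⟩ := E.parts_perp ha hb h.hu (hab ▸ hzu)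
  obtain ⟨hav, hbv⟩ := E.parts_perp ha hb h.hv (hab ▸ hzv)
  have hb0 : b = 0 := by
    refine E.eq_zero_of_perp_pair h hbu hbv fun w hw hwu hwv => ?_
    have hsm := E.rEl_mem O h.hu h.uu hw hwu
    have hs := M.mul_mem (M.inv_mem (M.mul_mem hsm hm)) (M.mul_mem hm hsm)
    have he : rEl f u z d * rEl f u w (-(f w w) / 2) =
        rEl f u w (-(f w w) / 2) * rEl f u z d * uT f u (f z w - f w z) := gl_ext fun y => by
      simp only [mul_mulVec, E.rEl_mulVec h.uu hzu, E.rEl_mulVec h.uu hwu, uT_mulVec E.uni h.uu, E.uni.add_left,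
        E.uni.smul_left, h.uu, hzu, hwu, (eq_zero_comm E.uni).1 hzu, (eq_zero_comm E.uni).1 hwu]
      module
    rw [he, inv_mul_cancel_left] at hs
    have h0 := N u h.hu hu0 h.uu _ hs
    rw [E.uni.herm w z, hab, E.uni.add_left, E.uni.smul_left, map_add, map_mul, E.im_skew,
      (E.fix _).2 (E.rat a ha w hw), (E.fix _).2 (E.rat b hb w hw)] at h0
    exact (mul_eq_zero.1 (show (2 * im) * f b w = 0 by linear_combination h0)).resolve_left
      (mul_ne_zero E.two E.im_ne)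
  rw [hb0, smul_zero, add_zero] at hab
  rw [hab] at hm hzu ⊢
  have e2 : rEl f u a d = rEl f u a (-(f a a) / 2) * uT f u (d - -(f a a) / 2) := gl_ext fun y => by
    simp only [mul_mulVec, E.rEl_mulVec h.uu hzu, uT_mulVec E.uni h.uu, E.uni.add_left,
      E.uni.smul_left, h.uu, (eq_zero_comm E.uni).1 hzu]
    module
  rw [e2] at hm
  have h0 := N u h.hu hu0 h.uu _ ((M.mul_mem_cancel_left (E.rEl_mem O h.hu h.uu ha hzu)).1 hm)
  rw [sub_eq_zero.1 h0]
  exact E.rEl_rat h.hu h.uu ha hzu (div_mem (neg_mem (E.rat a ha a ha)) (ofNat_mem F₀ 2)) hx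

omit [Finite F] in
/-- An element fixing a real isotropic point preserves the real structure up to a scalar. -/
theorem pres_of_stab (N : NoT f R₀ M) {u v : ι → F} (h : Hyp f R₀ u v) {g : GL ι F} (hg : g ∈ M) {l : F}
    (hgu : (g : Matrix ι ι F) *ᵥ u = l • u) : Pres R₀ g := by
  have hu0 := E.hyp_ne h
  have key : ∀ {g : GL ι F}, g ∈ M → ∀ {l : F}, (g : Matrix ι ι F) *ᵥ u = l • u →
      ∀ w ∈ R₀, f w u = 0 → f w v = 0 → σ l • ((g : Matrix ι ι F) *ᵥ w) ∈ R₀ := by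
    intro g hg l hgu w hw hwu hwv
    have hi := O.iso g hg
    have hl : l ≠ 0 := fun h0 => mulVec_ne_zero g hu0 (by rw [hgu, h0, zero_smul])
    have hgwu : f ((g : Matrix ι ι F) *ᵥ w) u = 0 := by
      have h1 := hi w u
      rw [hgu, smul_right' E.uni, hwu] at h1
      exact (mul_eq_zero.1 h1).resolve_left ((map_ne_zero_iff _ σ.injective).2 hl)
    obtain ⟨c, hc⟩ : ∃ c, c = -(f w w) / 2 := ⟨_, rfl⟩
    have hcF : c ∈ F₀ := hc ▸ div_mem (neg_mem (E.rat w hw w hw)) (ofNat_mem F₀ 2)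
    have hX := M.mul_mem (M.mul_mem hg (hc ▸ E.rEl_mem O h.hu h.uu hw hwu)) (M.inv_mem hg)
    rw [E.conj_rEl hi h.uu hwu, hgu] at hX
    obtain ⟨γ, hγ⟩ : ∃ γ, γ = σ l • ((g : Matrix ι ι F) *ᵥ w) := ⟨_, rfl⟩
    rw [← hγ]
    have hγu : f γ u = 0 := by rw [hγ, E.uni.smul_left, hgwu, mul_zero]
    have e : rEl f (l • u) ((g : Matrix ι ι F) *ᵥ w) c = rEl f u γ (c * (l * σ l)) := gl_ext fun y => by
      rw [E.rEl_mulVec (by rw [E.uni.smul_left, smul_right' E.uni, h.uu, mul_zero, mul_zero])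
        (by rw [smul_right' E.uni, hgwu, mul_zero]), E.rEl_mulVec h.uu hγu, hγ, smul_right' E.uni,
        smul_right' E.uni, E.uni.involutive]
      module
    rw [e] at hX
    have hXv := E.rat_of_rEl O N h hγu hX h.hv
    rw [E.rEl_mulVec h.uu hγu, h.vu, one_smul, mul_one] at hXv
    have hN : c * (l * σ l) ∈ F₀ := mul_mem hcF ((E.fix _).1 (by rw [map_mul, E.uni.involutive, mul_comm]))
    have hT : γ + (c * (l * σ l) - f v γ) • u ∈ R₀ := by
      have := R₀.sub_mem hXv h.hv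
      rwa [add_assoc, add_sub_cancel_left] at this
    have h1 := E.rat _ hT v h.hv
    rw [E.uni.add_left, E.uni.smul_left, h.uv, mul_one, E.uni.herm v γ] at h1
    have h2 : f γ v - σ (f γ v) = 0 := by
      have h3 := sub_mem h1 hN
      rw [show f γ v + (c * (l * σ l) - σ (f γ v)) - c * (l * σ l) = f γ v - σ (f γ v) by ring] at h3
      have h4 := (E.fix _).2 h3
      rw [map_sub, E.uni.involutive] at h4
      exact (mul_eq_zero.1 (show (2 : F) * (f γ v - σ (f γ v)) = 0 by linear_combination -h4)).resolve_left E.two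
    have hF : f v γ ∈ F₀ := by
      rw [E.uni.herm v γ]
      exact (E.fix _).1 (by rw [E.uni.involutive]; exact sub_eq_zero.1 h2)
    have := R₀.sub_mem hT (smul_mem_rat (sub_mem hN hF) h.hu)
    rwa [add_sub_cancel_right] at this
  have hi := O.iso g hg
  have hl : l ≠ 0 := fun h0 => mulVec_ne_zero g hu0 (by rw [hgu, h0, zero_smul])
  have hσl : σ l ≠ 0 := (map_ne_zero_iff _ σ.injective).2 hl
  have hgu' : ((g⁻¹ : GL ι F) : Matrix ι ι F) *ᵥ u = l⁻¹ • u := by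
    refine mulVec_injective g ?_
    show (g : Matrix ι ι F) *ᵥ _ = (g : Matrix ι ι F) *ᵥ _
    rw [mulVec_inv_cancel, mulVec_smul, hgu, smul_smul, inv_mul_cancel₀ hl, one_smul]
  obtain ⟨y, hy⟩ : ∃ y, y = σ l • ((g : Matrix ι ι F) *ᵥ v) := ⟨_, rfl⟩
  have hyu : f y u = 1 := by
    have h1 := hi v u
    rw [hgu, smul_right' E.uni, h.vu] at h1
    rw [hy, E.uni.smul_left, h1]
  obtain ⟨a, b, ha, hb, hab⟩ := E.decomp y
  have hbu : f b u = 0 := by
    have h1 : f a u + im * f b u = 1 := by rw [← E.uni.smul_left, ← E.uni.add_left, ← hab, hyu]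
    exact (E.scal_eq_zero (sub_mem (E.rat a ha u h.hu) (one_mem F₀)) (E.rat b hb u h.hu)
      (by linear_combination h1)).2
  have hbW : ∀ w ∈ R₀, f w u = 0 → f w v = 0 → f b w = 0 := by
    intro w hw hwu hwv
    have hr := key (M.inv_mem hg) hgu' w hw hwu hwv
    obtain ⟨r, hrd⟩ : ∃ r, r = σ l⁻¹ • (((g⁻¹ : GL ι F) : Matrix ι ι F) *ᵥ w) := ⟨_, rfl⟩
    rw [← hrd] at hr
    have hw' : ((g⁻¹ : GL ι F) : Matrix ι ι F) *ᵥ w = σ l • r := by
      rw [hrd, smul_smul, map_inv₀, mul_inv_cancel₀ hσl, one_smul]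
    have h1 : f y w = σ l * l * f v r := by
      have h2 := hi v (((g⁻¹ : GL ι F) : Matrix ι ι F) *ᵥ w)
      rw [mulVec_inv_cancel, hw', smul_right' E.uni, E.uni.involutive] at h2
      rw [hy, E.uni.smul_left, h2, mul_assoc]
    have h2 : f y w ∈ F₀ := by
      rw [h1]
      exact mul_mem ((E.fix _).1 (by rw [map_mul, E.uni.involutive, mul_comm])) (E.rat v h.hv r hr)
    rw [hab, E.uni.add_left, E.uni.smul_left] at h2
    have h3 : im * f b w ∈ F₀ := by simpa using sub_mem h2 (E.rat a ha w hw)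
    by_contra hne
    exact E.im_notMem (by simpa [hne] using div_mem h3 (E.rat b hb w hw))
  obtain ⟨t, htd⟩ : ∃ t, t = f b v := ⟨_, rfl⟩
  have htF : t ∈ F₀ := htd ▸ E.rat b hb v h.hv
  have hbt : b = t • u := by
    refine sub_eq_zero.1 (E.eq_zero_of_perp_pair h ?_ ?_ fun w hw hwu hwv => ?_)
    · rw [sub_left' E.uni, E.uni.smul_left, hbu, h.uu, mul_zero, sub_zero]
    · rw [sub_left' E.uni, E.uni.smul_left, h.uv, mul_one, htd, sub_self]
    · rw [sub_left' E.uni, E.uni.smul_left, hbW w hw hwu hwv, (eq_zero_comm E.uni).1 hwu, mul_zero, sub_zero]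
  rw [hbt, smul_smul] at hab
  have hgv : (g : Matrix ι ι F) *ᵥ v = (σ l)⁻¹ • y := by rw [hy, inv_smul_smul₀ hσl]
  obtain ⟨c, hc⟩ : ∃ c, c = -(im * t) := ⟨_, rfl⟩
  have hcs : c + σ c = 0 := by rw [hc, map_neg, map_mul, E.im_skew, (E.fix t).2 htF]; ring
  obtain ⟨k, hk⟩ : ∃ k, k = uT f u c * g := ⟨_, rfl⟩
  have hkx : ∀ x, (k : Matrix ι ι F) *ᵥ x =
      (g : Matrix ι ι F) *ᵥ x + (c * f ((g : Matrix ι ι F) *ᵥ x) u) • u := fun x => by
    rw [hk, mul_mulVec, uT_mulVec E.uni h.uu]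
  have hkw : ∀ w ∈ R₀, f w u = 0 → f w v = 0 → ∃ r ∈ R₀, (k : Matrix ι ι F) *ᵥ w = (σ l)⁻¹ • r := by
    intro w hw hwu hwv
    have h1 := hi w u
    rw [hgu, smul_right' E.uni, hwu] at h1
    refine ⟨_, key hg hgu w hw hwu hwv, ?_⟩
    rw [hkx, (mul_eq_zero.1 h1).resolve_left hσl, mul_zero, zero_smul, add_zero, inv_smul_smul₀ hσl]
  have hpk : Pres R₀ k := by
    refine ⟨(σ l)⁻¹, fun x hx => ?_⟩
    obtain ⟨r, hr, hkr⟩ := hkw _ (E.split_mem h hx) (E.split h x).1 (E.split h x).2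
    have hku : (k : Matrix ι ι F) *ᵥ u = (σ l)⁻¹ • ((σ l * l) • u) := by
      rw [hkx, hgu, E.uni.smul_left, h.uu, mul_zero, mul_zero, zero_smul, add_zero, smul_smul,
        inv_mul_cancel_left₀ hσl]
    have hkv : (k : Matrix ι ι F) *ᵥ v = (σ l)⁻¹ • a := by
      rw [hkx, hgv, E.uni.smul_left, hyu, mul_one, hab, hc]
      module
    have hN : σ l * l ∈ F₀ := (E.fix _).1 (by rw [map_mul, E.uni.involutive, mul_comm])
    refine ⟨f x v • ((σ l * l) • u) + f x u • a + r, R₀.add_mem (R₀.add_mem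
      (smul_mem_rat (E.rat x hx v h.hv) (smul_mem_rat hN h.hu)) (smul_mem_rat (E.rat x hx u h.hu) ha)) hr, ?_⟩
    conv_lhs => rw [show x = f x v • u + f x u • v + (x - f x v • u - f x u • v) by abel]
    rw [mulVec_add, mulVec_add, mulVec_smul, mulVec_smul, hku, hkv, hkr]
    module
  have hkm : k ∈ M := by
    refine O.sub k (fun x y => ?_) (hk ▸ (Cfsg.Geo.specialLinear ι F).mul_mem (transv_mem_specialLinear _ _)
      (O.det g hg)) hpk
    rw [hk, mul_mulVec, mul_mulVec, iso_uT E.uni h.uu hcs, hi]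
  have h0 := N u h.hu hu0 h.uu c (by
    have := M.mul_mem hkm (M.inv_mem hg)
    rwa [hk, mul_inv_cancel_right] at this)
  have hkg : k = g := gl_ext fun x => by rw [hkx, h0, zero_mul, zero_smul, add_zero]
  exact hkg ▸ hpk

end Setting

end CfsgLib.SUFour.SubOrth
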