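/-
An isometry sending every real isotropic point into the null cone of the extended symmetric form is real.
-/
import Cfsg.Agent.Lib.SUFour.SubOrthRigid
import Cfsg.Agent.Lib.Classical22.UnitSubfieldMatrix

set_option autoImplicit false

namespace CfsgLib.SUFour.SubOrth

open Matrix CfsgLib.Transvec CfsgLib.Transvec.Unitary
open scoped MatrixGroups

variable {ι : Type} [Fintype ι] [DecidableEq ι] {F : Type*} [Field F] [Finite F]
variable {σ : F ≃+* F} {f : (ι → F) → (ι → F) → F} {F₀ : Subfield F} {R₀ : Submodule F₀ (ι → F)} {im : F}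

namespace Setting

variable (E : Setting σ f F₀ R₀ im)
include E

theorem exists_iso : ∃ u ∈ R₀, u ≠ 0 ∧ f u u = 0 :=
  CfsgLib.Classical22.UnitSubfield.iso3_of_fixed E.uni (fun c hc => (E.fix c).2 hc) E.rat R₀ le_rfl
    (by rw [E.dim]; norm_num)

omit [Finite F] in
/-- A symmetric bilinear function vanishing on the isotropic vectors is a multiple of the form. -/
theorem cone {C : (ι → F) → (ι → F) → F}
    (hadd : ∀ a ∈ R₀, ∀ b ∈ R₀, ∀ x ∈ R₀, C (a + b) x = C a x + C b x)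
    (hsmul : ∀ t ∈ F₀, ∀ a ∈ R₀, ∀ x ∈ R₀, C (t • a) x = t * C a x)
    (hsym : ∀ a ∈ R₀, ∀ b ∈ R₀, C a b = C b a) (hiso : ∀ a ∈ R₀, f a a = 0 → C a a = 0)
    {u v : ι → F} (h : Hyp f R₀ u v) {x y : ι → F} (hx : x ∈ R₀) (hy : y ∈ R₀) : C x y = C u v * f x y := by
  have haddr : ∀ a ∈ R₀, ∀ b ∈ R₀, ∀ z ∈ R₀, C z (a + b) = C z a + C z b := fun a ha b hb z hz => by
    rw [hsym z hz _ (R₀.add_mem ha hb), hadd a ha b hb z hz, hsym a ha z hz, hsym b hb z hz]
  have hsmulr : ∀ t ∈ F₀, ∀ a ∈ R₀, ∀ z ∈ R₀, C z (t • a) = t * C z a := fun t ht a ha z hz => by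
    rw [hsym z hz _ (smul_mem_rat ht ha), hsmul t ht a ha z hz, hsym a ha z hz]
  have aux : ∀ {u v : ι → F}, Hyp f R₀ u v → ∀ w ∈ R₀, f w u = 0 → f w v = 0 →
      C w w = C u v * f w w ∧ C v w = 0 := by
    intro u v h w hw hwu hwv
    obtain ⟨hh, hhd⟩ : ∃ hh, hh = f w w / 2 := ⟨_, rfl⟩
    have hhF : hh ∈ F₀ := hhd ▸ div_mem (E.rat w hw w hw) (ofNat_mem F₀ 2)
    have eq : ∀ t ∈ F₀, t * t * C w w + 2 * t * C v w - 2 * (t * t * hh) * C u v -
        2 * (t * t * hh) * t * C u w = 0 := by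
      intro t ht
      have hs : -(t * t * hh) ∈ F₀ := neg_mem (mul_mem (mul_mem ht ht) hhF)
      have h0 := hiso (v + t • w + (-(t * t * hh)) • u)
        (R₀.add_mem (R₀.add_mem h.hv (smul_mem_rat ht hw)) (smul_mem_rat hs h.hu)) (by
          simp only [E.uni.add_left, add_right' E.uni, E.uni.smul_left, smul_right' E.uni, h.vv, h.uu, h.vu, h.uv,
            hwu, hwv, (eq_zero_comm E.uni).1 hwu, (eq_zero_comm E.uni).1 hwv, (E.fix _).2 ht, (E.fix _).2 hs]
          rw [hhd]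
          have := E.two
          field_simp
          ring)
      have m1 := smul_mem_rat ht hw
      have m2 := smul_mem_rat hs h.hu
      have m3 := R₀.add_mem h.hv m1
      rw [hadd _ m3 _ m2 _ (R₀.add_mem m3 m2), hadd _ h.hv _ m1 _ (R₀.add_mem m3 m2),
        haddr _ m3 _ m2 _ h.hv, haddr _ h.hv _ m1 _ h.hv, haddr _ m3 _ m2 _ m1, haddr _ h.hv _ m1 _ m1,
        haddr _ m3 _ m2 _ m2, haddr _ h.hv _ m1 _ m2, hsmul t ht w hw _ h.hv, hsmul t ht w hw _ m1,
        hsmul t ht w hw _ m2, hsmul _ hs u h.hu _ h.hv, hsmul _ hs u h.hu _ m1, hsmul _ hs u h.hu _ m2,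
        hsmulr t ht w hw _ h.hv, hsmulr t ht w hw _ hw, hsmulr t ht w hw _ h.hu, hsmulr _ hs u h.hu _ h.hv,
        hsmulr _ hs u h.hu _ hw, hsmulr _ hs u h.hu _ h.hu, hiso u h.hu h.uu, hiso v h.hv h.vv,
        hsym v h.hv u h.hu, hsym w hw u h.hu, hsym w hw v h.hv] at h0
      linear_combination h0
    obtain ⟨l, hl, hl0, hl1⟩ := E.five
    have e1 := eq 1 (one_mem F₀)
    have e2 := eq (-1) (neg_mem (one_mem F₀))
    have e3 := eq l hl
    have h1 : C w w - 2 * hh * C u v = 0 :=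
      (mul_eq_zero.1 (show (2 : F) * (C w w - 2 * hh * C u v) = 0 by linear_combination e1 + e2)).resolve_left E.two
    have h2 : C v w - hh * C u w = 0 :=
      (mul_eq_zero.1 (show ((2 : F) * 2) * (C v w - hh * C u w) = 0 by linear_combination e1 - e2)).resolve_left
        (mul_ne_zero E.two E.two)
    refine ⟨?_, ?_⟩
    · rw [hhd] at h1
      have := E.two
      field_simp at h1 ⊢
      linear_combination h1
    · have h3 : (2 : F) * l * (1 - l * l) * C v w = 0 := by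
        linear_combination e3 - l * l * h1 - 2 * l * (l * l) * h2
      exact (mul_eq_zero.1 h3).resolve_left
        (mul_ne_zero (mul_ne_zero E.two hl0) (sub_ne_zero.2 (Ne.symm hl1)))
  have hW : ∀ w ∈ R₀, f w u = 0 → f w v = 0 → C u w = 0 ∧ C v w = 0 := fun w hw hwu hwv =>
    ⟨(aux (hyp_symm h) w hw hwv hwu).2, (aux h w hw hwu hwv).2⟩
  have hWW : ∀ a ∈ R₀, ∀ b ∈ R₀, f a u = 0 → f a v = 0 → f b u = 0 → f b v = 0 → C a b = C u v * f a b := by
    intro a ha b hb hau hav hbu hbv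
    have h1 := (aux h _ (R₀.add_mem ha hb) (by rw [E.uni.add_left, hau, hbu, add_zero])
      (by rw [E.uni.add_left, hav, hbv, add_zero])).1
    rw [hadd a ha b hb _ (R₀.add_mem ha hb), haddr a ha b hb a ha, haddr a ha b hb b hb, hsym b hb a ha,
      (aux h a ha hau hav).1, (aux h b hb hbu hbv).1, E.uni.add_left, add_right' E.uni, add_right' E.uni,
      E.sym hb ha] at h1
    exact mul_left_cancel₀ E.two (by linear_combination h1)
  obtain ⟨x', hx'⟩ : ∃ x', x' = x - f x v • u - f x u • v := ⟨_, rfl⟩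
  obtain ⟨y', hy'⟩ : ∃ y', y' = y - f y v • u - f y u • v := ⟨_, rfl⟩
  have hx'R : x' ∈ R₀ := hx' ▸ E.split_mem h hx
  have hy'R : y' ∈ R₀ := hy' ▸ E.split_mem h hy
  obtain ⟨hxu, hxv⟩ : f x' u = 0 ∧ f x' v = 0 := hx' ▸ E.split h x
  obtain ⟨hyu, hyv⟩ : f y' u = 0 ∧ f y' v = 0 := hy' ▸ E.split h y
  have ha := E.rat x hx v h.hv
  have hb := E.rat x hx u h.hu
  have hc := E.rat y hy v h.hv
  have hd := E.rat y hy u h.hu
  have ex : x = f x v • u + f x u • v + x' := by rw [hx']; abel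
  have ey : y = f y v • u + f y u • v + y' := by rw [hy']; abel
  have mu := smul_mem_rat ha h.hu
  have mv := smul_mem_rat hb h.hv
  have nu := smul_mem_rat hc h.hu
  have nv := smul_mem_rat hd h.hv
  calc C x y = C (f x v • u + f x u • v + x') (f y v • u + f y u • v + y') := by rw [← ex, ← ey]
    _ = C u v * f (f x v • u + f x u • v + x') (f y v • u + f y u • v + y') := by
      have hY := R₀.add_mem (R₀.add_mem nu nv) hy'R
      rw [hadd _ (R₀.add_mem mu mv) _ hx'R _ hY, hadd _ mu _ mv _ hY, hsmul _ ha u h.hu _ hY,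
        hsmul _ hb v h.hv _ hY, haddr _ (R₀.add_mem nu nv) _ hy'R u h.hu, haddr _ nu _ nv u h.hu,
        haddr _ (R₀.add_mem nu nv) _ hy'R v h.hv, haddr _ nu _ nv v h.hv,
        haddr _ (R₀.add_mem nu nv) _ hy'R x' hx'R, haddr _ nu _ nv x' hx'R,
        hsmulr _ hc u h.hu u h.hu, hsmulr _ hd v h.hv u h.hu, hsmulr _ hc u h.hu v h.hv, hsmulr _ hd v h.hv v h.hv,
        hsmulr _ hc u h.hu x' hx'R, hsmulr _ hd v h.hv x' hx'R, hiso u h.hu h.uu, hiso v h.hv h.vv,
        hsym v h.hv u h.hu, hsym x' hx'R u h.hu, hsym x' hx'R v h.hv, (hW x' hx'R hxu hxv).1,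
        (hW x' hx'R hxu hxv).2, (hW y' hy'R hyu hyv).1, (hW y' hy'R hyu hyv).2,
        hWW x' hx'R y' hy'R hxu hxv hyu hyv]
      simp only [E.uni.add_left, add_right' E.uni, E.uni.smul_left, smul_right' E.uni, h.uu, h.vv, h.uv, h.vu,
        hxu, hxv, (eq_zero_comm E.uni).1 hyu, (eq_zero_comm E.uni).1 hyv, (E.fix _).2 hc, (E.fix _).2 hd]
      ring
    _ = _ := by rw [← ex, ← ey]

/-- An isometry which does not preserve the real structure moves some real isotropic point off the null cone. -/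
theorem exists_nondeg {g : GL ι F} (hi : Iso f g) (hp : ¬ Pres R₀ g) :
    ∃ y ∈ R₀, y ≠ 0 ∧ f y y = 0 ∧ ∃ a ∈ R₀, ∃ b ∈ R₀, (g : Matrix ι ι F) *ᵥ y = a + im • b ∧
      ¬ (f b b = 0 ∧ f a b = 0) := by
  choose A B hA hB hAB using fun x => E.decomp ((g : Matrix ι ι F) *ᵥ x)
  by_contra hcon
  simp only [not_exists, not_and] at hcon
  have hcone : ∀ x ∈ R₀, f x x = 0 → f (B x) (B x) = 0 ∧ f (A x) (B x) = 0 := fun x hx hxx => by
    rcases eq_or_ne x 0 with rfl | hx0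
    · obtain ⟨-, h2⟩ := E.eq_zero_of_parts (hA 0) (hB 0) (by rw [← hAB, mulVec_zero])
      rw [h2]; exact ⟨zero_left' E.uni _, zero_right' E.uni _⟩
    · exact by_contra fun hne => hcon x hx hx0 hxx (A x) (hA x) (B x) (hB x) (hAB x) fun h1 h2 => hne ⟨h1, h2⟩
  have hadd : ∀ a b, A (a + b) = A a + A b ∧ B (a + b) = B a + B b := fun a b =>
    E.parts_unique (hA _) (hB _) (R₀.add_mem (hA a) (hA b)) (R₀.add_mem (hB a) (hB b)) (by
      rw [← hAB, mulVec_add, hAB, hAB]; module)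
  have hsmul : ∀ t ∈ F₀, ∀ a, A (t • a) = t • A a ∧ B (t • a) = t • B a := fun t ht a =>
    E.parts_unique (hA _) (hB _) (smul_mem_rat ht (hA a)) (smul_mem_rat ht (hB a)) (by
      rw [← hAB, mulVec_smul, hAB]; module)
  have hiso : ∀ x ∈ R₀, ∀ y ∈ R₀, f (B x) (A y) = f (A x) (B y) ∧
      f (A x) (A y) - im * im * f (B x) (B y) = f x y := by
    intro x hx y hy
    have h := hi x y
    rw [hAB, hAB, E.uni.add_left, add_right' E.uni, add_right' E.uni, E.uni.smul_left, E.uni.smul_left,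
      smul_right' E.uni, smul_right' E.uni, E.im_skew] at h
    obtain ⟨h1, h2⟩ := E.scal_eq_zero
      (a := f (A x) (A y) - im * im * f (B x) (B y) - f x y) (b := f (B x) (A y) - f (A x) (B y))
      (sub_mem (sub_mem (E.rat _ (hA x) _ (hA y)) (mul_mem E.im_sq_mem (E.rat _ (hB x) _ (hB y)))) (E.rat x hx y hy))
      (sub_mem (E.rat _ (hB x) _ (hA y)) (E.rat _ (hA x) _ (hB y))) (by linear_combination h)
    exact ⟨sub_eq_zero.1 h2, sub_eq_zero.1 h1⟩
  obtain ⟨u, hu, hu0, huu⟩ := E.exists_iso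
  obtain ⟨v, h⟩ := E.exists_hyp hu hu0 huu
  obtain ⟨c1, hc1d⟩ : ∃ c, c = f (B u) (B v) := ⟨_, rfl⟩
  obtain ⟨c2, hc2d⟩ : ∃ c, c = f (A u) (B v) := ⟨_, rfl⟩
  have hc1F : c1 ∈ F₀ := hc1d ▸ E.rat _ (hB u) _ (hB v)
  have hc2F : c2 ∈ F₀ := hc2d ▸ E.rat _ (hA u) _ (hB v)
  have hBB : ∀ x ∈ R₀, ∀ y ∈ R₀, f (B x) (B y) = c1 * f x y := fun x hx y hy => by
    rw [hc1d]
    refine E.cone (C := fun a b => f (B a) (B b)) (fun a _ b _ z _ => ?_) (fun t ht a _ z _ => ?_)
      (fun a _ b _ => E.sym (hB a) (hB b)) (fun a ha haa => (hcone a ha haa).1) h hx hy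
    · show f (B (a + b)) (B z) = _
      rw [(hadd a b).2, E.uni.add_left]
    · show f (B (t • a)) (B z) = _
      rw [(hsmul t ht a).2, E.uni.smul_left]
  have hAB' : ∀ x ∈ R₀, ∀ y ∈ R₀, f (A x) (B y) = c2 * f x y := fun x hx y hy => by
    rw [hc2d]
    refine E.cone (C := fun a b => f (A a) (B b)) (fun a _ b _ z _ => ?_) (fun t ht a _ z _ => ?_)
      (fun a ha b hb => ?_) (fun a ha haa => (hcone a ha haa).2) h hx hy
    · show f (A (a + b)) (B z) = _
      rw [(hadd a b).1, E.uni.add_left]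
    · show f (A (t • a)) (B z) = _
      rw [(hsmul t ht a).1, E.uni.smul_left]
    · show f (A a) (B b) = f (A b) (B a)
      rw [← (hiso a ha b hb).1, E.sym (hB a) (hA b)]
  have hinj : ∀ T : (ι → F) → (ι → F), (∀ a, T a ∈ R₀) → (∀ a b, T (a + b) = T a + T b) →
      ∀ c, c ≠ 0 → (∀ x ∈ R₀, ∀ y ∈ R₀, f (T x) (T y) = c * f x y) →
      ∀ z, z ∈ R₀ → (∀ y ∈ R₀, f z (T y) = 0) → z = 0 := by
    intro T hTR hTadd c hc hT z hz hzT
    have hi' : Function.Injective fun a : R₀ => (⟨T a, hTR a⟩ : R₀) := fun a b hab => by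
      refine Subtype.ext (sub_eq_zero.1 (E.eq_zero_of_perp fun r hr => ?_))
      have h1 : T (a : ι → F) = T b := congrArg Subtype.val hab
      have h2 := hT r hr (a : ι → F) a.2
      rw [h1, hT r hr (b : ι → F) b.2] at h2
      rw [sub_right' E.uni, mul_left_cancel₀ hc h2, sub_self]
    refine E.eq_zero_of_perp fun r hr => ?_
    obtain ⟨⟨a, ha⟩, hae⟩ := Finite.surjective_of_injective hi' ⟨r, hr⟩
    rw [← show T a = r from congrArg Subtype.val hae]
    exact (eq_zero_comm E.uni).1 (hzT a ha)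
  refine hp ?_
  by_cases hc1 : c1 = 0
  · have hAA : ∀ x ∈ R₀, ∀ y ∈ R₀, f (A x) (A y) = 1 * f x y := fun x hx y hy => by
      have := (hiso x hx y hy).2
      rw [hBB x hx y hy, hc1] at this
      linear_combination this
    have hBA : ∀ x ∈ R₀, B x = c2 • A x := fun x hx => sub_eq_zero.1
      (hinj A hA (fun a b => (hadd a b).1) 1 one_ne_zero hAA _
        (R₀.sub_mem (hB x) (smul_mem_rat hc2F (hA x))) fun y hy => by
          rw [sub_left' E.uni, E.uni.smul_left, hAA x hx y hy, (hiso x hx y hy).1, hAB' x hx y hy, one_mul, sub_self])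
    refine ⟨1 + im * c2, fun x hx => ⟨A x, hA x, ?_⟩⟩
    rw [hAB, hBA x hx]
    module
  · have hA' : ∀ x ∈ R₀, A x = (c2 / c1) • B x := fun x hx => sub_eq_zero.1
      (hinj B hB (fun a b => (hadd a b).2) c1 hc1 hBB _
        (R₀.sub_mem (hA x) (smul_mem_rat (div_mem hc2F hc1F) (hB x))) fun y hy => by
          rw [sub_left' E.uni, E.uni.smul_left, hBB x hx y hy, hAB' x hx y hy, ← mul_assoc, div_mul_cancel₀ _ hc1,
            sub_self])
    refine ⟨c2 / c1 + im, fun x hx => ⟨B x, hB x, ?_⟩⟩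
    rw [hAB, hA' x hx]
    module

end Setting

end CfsgLib.SUFour.SubOrth
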