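/-
A transvection with real centre in an overgroup of a real orthogonal group gives all transvections.
-/
import Cfsg.Agent.Lib.SUFour.SubOrthRigid

set_option autoImplicit false

namespace CfsgLib.SUFour.SubOrth

open Matrix CfsgLib.Transvec CfsgLib.Transvec.Unitary
open scoped MatrixGroups

variable {ι : Type} [Fintype ι] [DecidableEq ι] {F : Type*} [Field F] [Finite F]
variable {σ : F ≃+* F} {f : (ι → F) → (ι → F) → F} {F₀ : Subfield F} {R₀ : Submodule F₀ (ι → F)} {im : F}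

namespace Setting

variable (E : Setting σ f F₀ R₀ im)
include E

omit [Finite F] in
theorem rf_fix {d x : ι → F} (hd : f d d ≠ 0) (hx : f x d = 0) : (rf f d : Matrix ι ι F) *ᵥ x = x := by
  rw [E.rf_mulVec hd, hx, mul_zero, zero_smul, add_zero]

omit [Finite F] in
/-- The reflection along `u - l v` exchanges `u` and `l v`. -/
theorem rf_swap {u v : ι → F} (h : Hyp f R₀ u v) {l : F} (hl : l ∈ F₀) (hl0 : l ≠ 0) :
    f (u - l • v) (u - l • v) ≠ 0 ∧ (rf f (u - l • v) : Matrix ι ι F) *ᵥ u = l • v ∧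
      (rf f (u - l • v) : Matrix ι ι F) *ᵥ v = l⁻¹ • u := by
  have hdd : f (u - l • v) (u - l • v) = -(2 * l) := by
    simp only [sub_left' E.uni, sub_right' E.uni, E.uni.smul_left, smul_right' E.uni, h.uu, h.vv, h.uv, h.vu,
      (E.fix l).2 hl]
    ring
  have hne : f (u - l • v) (u - l • v) ≠ 0 := hdd ▸ neg_ne_zero.2 (mul_ne_zero E.two hl0)
  have := E.two
  refine ⟨hne, ?_, ?_⟩
  · rw [E.rf_mulVec hne, hdd]
    simp only [sub_right' E.uni, smul_right' E.uni, h.uu, h.uv, (E.fix l).2 hl]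
    match_scalars <;> field_simp <;> ring
  · rw [E.rf_mulVec hne, hdd]
    simp only [sub_right' E.uni, smul_right' E.uni, h.vu, h.vv, (E.fix l).2 hl]
    match_scalars <;> field_simp <;> ring

/-- A real anisotropic vector orthogonal to a pair. -/
theorem exists_aniso_perp {u v : ι → F} (h : Hyp f R₀ u v) :
    ∃ w ∈ R₀, f w u = 0 ∧ f w v = 0 ∧ f w w ≠ 0 := by
  by_contra hcon
  simp only [not_exists, not_and, not_not] at hcon
  have hz : ∀ w ∈ R₀, f w u = 0 → f w v = 0 → w = 0 := fun w hw hwu hwv =>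
    E.eq_zero_of_perp_pair h hwu hwv fun a ha hau hav => by
      have := hcon _ (R₀.add_mem hw ha) (by rw [E.uni.add_left, hwu, hau, add_zero])
        (by rw [E.uni.add_left, hwv, hav, add_zero])
      rw [E.uni.add_left, add_right' E.uni, add_right' E.uni, hcon w hw hwu hwv, hcon a ha hau hav,
        E.sym ha hw] at this
      exact (mul_eq_zero.1 (show (2 : F) * f w a = 0 by linear_combination this)).resolve_left E.two
  have hle : R₀ ≤ Submodule.span F₀ ({u, v} : Set (ι → F)) := fun x hx => by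
    have hx' := hz _ (E.split_mem h hx) (E.split h x).1 (E.split h x).2
    refine Submodule.mem_span_pair.2 ⟨⟨f x v, E.rat x hx v h.hv⟩, ⟨f x u, E.rat x hx u h.hu⟩, ?_⟩
    rw [coe_smul_eq, coe_smul_eq]
    rw [sub_sub, sub_eq_zero] at hx'
    exact hx'.symm
  have h1 := Submodule.finrank_mono hle
  have h2 : Module.finrank F₀ (Submodule.span F₀ ({u, v} : Set (ι → F))) ≤ 2 := by
    classical
    refine (finrank_span_le_card _).trans ?_
    simp only [Set.toFinset_insert, Set.toFinset_singleton]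
    exact Finset.card_insert_le _ _
  rw [E.dim] at h1
  omega

variable {M : Subgroup (GL ι F)} (O : Over f R₀ M)
include O

omit [Finite F] in
/-- Products of two real reflections. -/
theorem rf2_mem {a b : ι → F} (ha : a ∈ R₀) (hb : b ∈ R₀) (haa : f a a ≠ 0) (hbb : f b b ≠ 0) :
    rf f a * rf f b ∈ M := by
  refine O.sub _ (fun x y => ?_) ?_ ⟨1, fun r hr => ⟨_, ?_, (one_smul F _).symm⟩⟩
  · rw [mul_mulVec, mul_mulVec, E.iso_rf haa, E.iso_rf hbb]
  · rw [mem_specialLinear_iff, Units.val_mul, Matrix.det_mul, E.det_rf haa, E.det_rf hbb, neg_mul_neg, one_mul]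
  · rw [mul_mulVec]
    exact E.rf_rat haa ha (E.rf_rat hbb hb hr)

omit [Finite F] in
/-- All transvections at the centre of one of them. -/
theorem ufull_of_transv {u v : ι → F} (h : Hyp f R₀ u v) {c₀ : F} (hc0 : c₀ ≠ 0) (hm : uT f u c₀ ∈ M) :
    UFull σ f M u := by
  have hu0 := E.hyp_ne h
  have hsk : σ c₀ = -c₀ := by
    have hi := O.iso _ hm v v
    rw [uT_mulVec E.uni h.uu, h.vu, h.vv, E.uni.add_left, add_right' E.uni, add_right' E.uni, E.uni.smul_left,
      E.uni.smul_left, smul_right' E.uni, smul_right' E.uni, h.vv, h.vu, h.uv, h.uu] at hi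
    simp only [mul_one, mul_zero, add_zero, zero_add] at hi
    linear_combination hi
  refine ⟨h.uu, fun c hc => ?_⟩
  obtain ⟨t, ht⟩ : ∃ t, t = c / c₀ := ⟨_, rfl⟩
  have htF : t ∈ F₀ := (E.fix t).1 (by
    rw [ht, map_div₀, hsk, show σ c = -c by linear_combination hc, neg_div_neg_eq])
  have hsq : ∀ μ ∈ F₀, uT f u (μ * μ * c₀) ∈ M := by
    intro μ hμ
    rcases eq_or_ne μ 0 with rfl | hμ0
    · rw [mul_zero, zero_mul, uT, zero_smul, transv_zero]
      exact M.one_mem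
    obtain ⟨h1, -, h1v⟩ := E.rf_swap h (one_mem F₀) one_ne_zero
    obtain ⟨hμd, hμu, -⟩ := E.rf_swap h hμ hμ0
    have hT := E.rf2_mem O (R₀.sub_mem h.hu (smul_mem_rat (one_mem F₀) h.hv))
      (R₀.sub_mem h.hu (smul_mem_rat hμ h.hv)) h1 hμd
    have h2 := M.mul_mem (M.mul_mem hT hm) (M.inv_mem hT)
    rw [conj_uT E.uni (O.iso _ hT) h.uu, mul_mulVec, hμu, mulVec_smul, h1v, inv_one, one_smul] at h2
    convert h2 using 1
    refine gl_ext fun x => ?_
    have hμu : f (μ • u) (μ • u) = 0 := by rw [E.uni.smul_left, smul_right' E.uni, h.uu, mul_zero, mul_zero]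
    rw [uT_mulVec E.uni h.uu, uT_mulVec E.uni hμu, smul_right' E.uni, (E.fix μ).2 hμ]
    module
  have h2ne := E.two
  have h1 := hsq ((t + 1) / 2) (div_mem (add_mem htF (one_mem F₀)) (ofNat_mem F₀ 2))
  have h2 := hsq ((t - 1) / 2) (div_mem (sub_mem htF (one_mem F₀)) (ofNat_mem F₀ 2))
  convert M.mul_mem h1 (M.inv_mem h2) using 1
  rw [eq_mul_inv_iff_mul_eq]
  refine gl_ext fun x => ?_
  simp only [mul_mulVec, uT_mulVec E.uni h.uu, E.uni.add_left, E.uni.smul_left, h.uu]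
  have hct : c = t * c₀ := by rw [ht, div_mul_cancel₀ _ hc0]
  rw [hct]
  match_scalars <;> field_simp <;> ring

omit [Finite F] in
/-- The whole radical at the second vector of a full pair. -/
theorem rEl_full {u v : ι → F} (h : Hyp f R₀ u v) (hu : UFull σ f M u) (hv : UFull σ f M v) {ζ : ι → F}
    (hζu : f ζ u = 0) (hζv : f ζ v = 0) {c : F} (hc : c + σ c = -f ζ ζ) : rEl f v ζ c ∈ M := by
  obtain ⟨j, hj⟩ : ∃ j, j = uT f u im * uT f v (-im⁻¹) * uT f u im := ⟨_, rfl⟩
  have his : im + σ im = 0 := by rw [E.im_skew, add_neg_cancel]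
  have hjs : -im⁻¹ + σ (-im⁻¹) = 0 := by rw [map_neg, map_inv₀, E.im_skew, inv_neg, neg_neg, neg_add_cancel]
  have hjm : j ∈ M := hj ▸ M.mul_mem (M.mul_mem (hu.2 _ his) (hv.2 _ hjs)) (hu.2 _ his)
  have hji : im⁻¹ * im = 1 := inv_mul_cancel₀ E.im_ne
  have hju : (j : Matrix ι ι F) *ᵥ u = (-im⁻¹) • v := by
    rw [hj]
    simp only [mul_mulVec, uT_mulVec E.uni h.uu, uT_mulVec E.uni h.vv, E.uni.add_left, E.uni.smul_left, h.uu,
      h.uv, h.vu]
    match_scalars <;> simp [mul_inv_cancel₀ E.im_ne]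
  have hjw : ∀ w, f w u = 0 → f w v = 0 → (j : Matrix ι ι F) *ᵥ w = w := fun w hwu hwv => by
    rw [hj]
    simp only [mul_mulVec, uT_mulVec E.uni h.uu, uT_mulVec E.uni h.vv, hwu, hwv,
      mul_zero, zero_smul, add_zero]
  obtain ⟨a, b, ha, hb, hab⟩ := E.decomp ζ
  obtain ⟨hau, hbu⟩ := E.parts_perp ha hb h.hu (hab ▸ hζu)
  obtain ⟨hav, hbv⟩ := E.parts_perp ha hb h.hv (hab ▸ hζv)
  have hA := E.rEl_mem O h.hv h.vv ha hav
  have hb'R := smul_mem_rat E.im_sq_mem hb
  have hb'u : f ((im * im) • b) u = 0 := by rw [E.uni.smul_left, hbu, mul_zero]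
  have hb'v : f ((im * im) • b) v = 0 := by rw [E.uni.smul_left, hbv, mul_zero]
  obtain ⟨d, hd⟩ : ∃ d, d = -(f ((im * im) • b) ((im * im) • b)) / 2 := ⟨_, rfl⟩
  have hB := M.mul_mem (M.mul_mem hjm (hd ▸ E.rEl_mem O h.hu h.uu hb'R hb'u)) (M.inv_mem hjm)
  rw [E.conj_rEl (O.iso _ hjm) h.uu hb'u, hju, hjw _ hb'u hb'v] at hB
  have hibv : f (im • b) v = 0 := by rw [E.uni.smul_left, hbv, mul_zero]
  have e : rEl f ((-im⁻¹) • v) ((im * im) • b) d = rEl f v (im • b) (d * (im⁻¹ * -im⁻¹)) := gl_ext fun x => by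
    have := E.im_ne
    rw [E.rEl_mulVec (by rw [E.uni.smul_left, smul_right' E.uni, h.vv, mul_zero, mul_zero])
      (by rw [smul_right' E.uni, hb'v, mul_zero]), E.rEl_mulVec h.vv hibv]
    simp only [smul_right' E.uni, map_neg, map_inv₀, map_mul, E.im_skew, inv_neg, neg_neg]
    match_scalars <;> field_simp <;> ring
  rw [e] at hB
  obtain ⟨c', hc'⟩ : ∃ c', c' = -(f a a) / 2 + d * (im⁻¹ * -im⁻¹) - f (im • b) a := ⟨_, rfl⟩
  have hp := M.mul_mem hA hB
  have e2 : rEl f v a (-(f a a) / 2) * rEl f v (im • b) (d * (im⁻¹ * -im⁻¹)) = rEl f v ζ c' := gl_ext fun x => by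
    simp only [mul_mulVec, E.rEl_mulVec h.vv hav, E.rEl_mulVec h.vv hibv, E.rEl_mulVec h.vv hζv]
    simp only [E.uni.add_left, E.uni.smul_left, h.vv, hab, add_right' E.uni, smul_right' E.uni, hc',
      (eq_zero_comm E.uni).1 hav, hbv]
    module
  rw [e2] at hp
  have hc's : c' + σ c' = -f ζ ζ := by
    have h1 := O.iso _ hp u u
    simp only [E.rEl_mulVec h.vv hζv, h.uv, h.uu, E.uni.add_left, add_right' E.uni, E.uni.smul_left,
      smul_right' E.uni, h.vv, h.vu, hζv, (eq_zero_comm E.uni).1 hζv, hζu, (eq_zero_comm E.uni).1 hζu, one_smul,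
      mul_one, sub_zero] at h1
    linear_combination h1
  have h2 := M.mul_mem hp (hv.2 (c - c') (by rw [map_sub]; linear_combination hc - hc's))
  convert h2 using 1
  refine gl_ext fun x => ?_
  simp only [mul_mulVec, E.rEl_mulVec h.vv hζv, uT_mulVec E.uni h.vv, E.uni.add_left, E.uni.smul_left, h.vv,
    (eq_zero_comm E.uni).1 hζv]
  module

/-- All transvections, from one with real centre. -/
theorem transv_mem_of_transv (hn : ¬ NoT f R₀ M) (z : ι → F) (hz : f z z = 0) (c : F) (hc : c + σ c = 0) :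
    uT f z c ∈ M := by
  simp only [NoT, not_forall] at hn
  obtain ⟨u, hu, hu0, huu, c₀, hm, hc0⟩ := hn
  obtain ⟨v, h⟩ := E.exists_hyp hu hu0 huu
  have hfu := E.ufull_of_transv O h hc0 hm
  obtain ⟨w, hw, hwu, hwv, hww⟩ := E.exists_aniso_perp h
  obtain ⟨h1, h1u, -⟩ := E.rf_swap h (one_mem F₀) one_ne_zero
  have hS := E.rf2_mem O (R₀.sub_mem h.hu (smul_mem_rat (one_mem F₀) h.hv)) hw h1 hww
  have hfv : UFull σ f M v := by
    have := ufull_conj E.uni hS (O.iso _ hS) hfu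
    rwa [mul_mulVec, E.rf_fix hww ((eq_zero_comm E.uni).1 hwu), h1u, one_smul] at this
  have main : ∀ {u v : ι → F}, Hyp f R₀ u v → UFull σ f M u → UFull σ f M v → ∀ z, f z z = 0 → f z v ≠ 0 →
      UFull σ f M z := by
    intro u v h hfu hfv z hz hzv
    obtain ⟨z', hz'⟩ : ∃ z', z' = (f z v)⁻¹ • z := ⟨_, rfl⟩
    have hz'v : f z' v = 1 := by rw [hz', E.uni.smul_left, inv_mul_cancel₀ hzv]
    obtain ⟨ζ, hζ⟩ : ∃ ζ, ζ = z' - f z' v • u - f z' u • v := ⟨_, rfl⟩
    have hζu : f ζ u = 0 := hζ ▸ (E.split h z').1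
    have hζv : f ζ v = 0 := hζ ▸ (E.split h z').2
    have hζu' : f u ζ = 0 := (eq_zero_comm E.uni).1 hζu
    have hζv' : f v ζ = 0 := (eq_zero_comm E.uni).1 hζv
    have ez : z' = u + ζ + f z' u • v := by rw [hζ, hz'v, one_smul]; abel
    have hcz : f z' u + σ (f z' u) = -f ζ ζ := by
      have h0 : f z' z' = 0 := by rw [hz', E.uni.smul_left, smul_right' E.uni, hz, mul_zero, mul_zero]
      obtain ⟨s, hs⟩ : ∃ s, s = f z' u := ⟨_, rfl⟩
      rw [← hs] at ez ⊢
      rw [ez] at h0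
      simp only [E.uni.add_left, add_right' E.uni, E.uni.smul_left, smul_right' E.uni, h.uu, h.vv, h.uv, h.vu, hζu,
        hζv, hζu', hζv'] at h0
      linear_combination h0
    have hr := E.rEl_full O h hfu hfv hζu hζv hcz
    have h2 := ufull_conj E.uni hr (O.iso _ hr) hfu
    rw [E.rEl_mulVec h.vv hζv, h.uv, one_smul, mul_one, hζu', sub_zero, ← ez] at h2
    have := ufull_smul E.uni h2 (f z v)
    rwa [hz', smul_smul, mul_inv_cancel₀ hzv, one_smul] at this
  suffices hfz : UFull σ f M z from hfz.2 c hc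
  by_cases hzv : f z v = 0
  swap
  · exact main h hfu hfv z hz hzv
  by_cases hzu : f z u = 0
  swap
  · exact main (hyp_symm h) hfv hfu z hz hzu
  rcases eq_or_ne z 0 with rfl | hz0
  · refine ⟨hz, fun d _ => ?_⟩
    have : uT f (0 : ι → F) d = 1 := gl_ext fun y => by
      rw [uT_mulVec E.uni (zero_left' E.uni 0)]; simp
    rw [this]
    exact M.one_mem
  obtain ⟨a, ha, hau, hav, hza⟩ : ∃ a ∈ R₀, f a u = 0 ∧ f a v = 0 ∧ f z a ≠ 0 := by
    by_contra hcon
    simp only [not_exists, not_and, not_not] at hcon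
    exact hz0 (E.eq_zero_of_perp_pair h hzu hzv hcon)
  have hr := E.rEl_mem O h.hu h.uu ha hau
  obtain ⟨z', hz'⟩ : ∃ z', z' = (rEl f u a (-(f a a) / 2) : Matrix ι ι F) *ᵥ z := ⟨_, rfl⟩
  have hz'z' : f z' z' = 0 := by rw [hz', O.iso _ hr]; exact hz
  have hz'v : f z' v ≠ 0 := by
    rw [hz', E.rEl_mulVec h.uu hau, hzu, zero_smul, add_zero, mul_zero, zero_sub, E.uni.add_left,
      E.uni.smul_left, hzv, h.uv, zero_add, mul_one]
    exact neg_ne_zero.2 hza
  have h3 := ufull_conj E.uni (M.inv_mem hr) (O.iso _ (M.inv_mem hr)) (main h hfu hfv z' hz'z' hz'v)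
  rwa [hz', inv_mulVec_cancel] at h3

end Setting

end CfsgLib.SUFour.SubOrth
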