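/-
The torus of order `q² - 1` of a four-dimensional real orthogonal group of minus type.
-/
import Cfsg.Agent.Lib.SUFour.SubOrthRigid

set_option autoImplicit false

namespace CfsgLib.SUFour.SubOrth

open Matrix CfsgLib.Transvec CfsgLib.Transvec.Unitary
open scoped MatrixGroups

variable {ι : Type} [Fintype ι] [DecidableEq ι] {F : Type*} [Field F] [Finite F]
variable {σ : F ≃+* F} {f : (ι → F) → (ι → F) → F} {F₀ : Subfield F} {R₀ : Submodule F₀ (ι → F)} {im : F}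

/-- The map scaling the basis `u, v, z, z'` by `l, l⁻¹, o, σ o`. -/
noncomputable def tor (σ : F ≃+* F) (f : (ι → F) → (ι → F) → F) (u v z z' : ι → F) (l o : F) : GL ι F :=
  pseudo u ((l - 1) • uvec f v) * pseudo v ((l⁻¹ - 1) • uvec f u) *
    (pseudo z (((o - 1) / f z z) • uvec f z) * pseudo z' (((σ o - 1) / f z' z') • uvec f z'))

/-- The data of the torus. -/
structure TorData (f : (ι → F) → (ι → F) → F) (R₀ : Submodule F₀ (ι → F)) (u v : ι → F) (w1 w2 : ι → F) (e : F) :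
    Prop where
  hyp : Hyp f R₀ u v
  h1 : w1 ∈ R₀
  h2 : w2 ∈ R₀
  u1 : f w1 u = 0
  v1 : f w1 v = 0
  u2 : f w2 u = 0
  v2 : f w2 v = 0
  o12 : f w1 w2 = 0
  a1 : f w1 w1 ≠ 0
  a2 : f w2 w2 ≠ 0
  ee : e * e * f w2 w2 = -f w1 w1

namespace Setting

variable (E : Setting σ f F₀ R₀ im)
include E

omit [Finite F] in
theorem tor_props {u v w1 w2 : ι → F} {e : F} (D : TorData f R₀ u v w1 w2 e) (he : σ e = -e) :
    f (w1 + e • w2) u = 0 ∧ f (w1 + e • w2) v = 0 ∧ f (w1 - e • w2) u = 0 ∧ f (w1 - e • w2) v = 0 ∧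
      f (w1 + e • w2) (w1 - e • w2) = 0 ∧ f (w1 + e • w2) (w1 + e • w2) = 2 * f w1 w1 ∧
      f (w1 - e • w2) (w1 - e • w2) = 2 * f w1 w1 := by
  have h21 : f w2 w1 = 0 := (eq_zero_comm E.uni).1 D.o12
  simp only [E.uni.add_left, sub_left' E.uni, add_right' E.uni, sub_right' E.uni, E.uni.smul_left,
    smul_right' E.uni, D.u1, D.v1, D.u2, D.v2, D.o12, h21, he, mul_zero, add_zero, sub_zero, true_and]
  exact ⟨by linear_combination D.ee, by linear_combination -D.ee, by linear_combination -D.ee⟩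

omit [Finite F] in
theorem tor_mulVec {u v w1 w2 : ι → F} {e : F} (D : TorData f R₀ u v w1 w2 e) (he : σ e = -e) {l o : F}
    (hl : l ≠ 0) (ho : o * σ o = 1) (x : ι → F) :
    (tor σ f u v (w1 + e • w2) (w1 - e • w2) l o : Matrix ι ι F) *ᵥ x =
      x + ((l - 1) * f x v) • u + ((l⁻¹ - 1) * f x u) • v +
        ((o - 1) / (2 * f w1 w1) * f x (w1 + e • w2)) • (w1 + e • w2) +
        ((σ o - 1) / (2 * f w1 w1) * f x (w1 - e • w2)) • (w1 - e • w2) := by
  obtain ⟨hzu, hzv, hz'u, hz'v, hzz', hzz, hz'z'⟩ := E.tor_props D he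
  have h := D.hyp
  have ho0 : o ≠ 0 := left_ne_zero_of_mul_eq_one ho
  have hσo : σ o ≠ 0 := right_ne_zero_of_mul_eq_one ho
  have hc : 2 * f w1 w1 ≠ 0 := mul_ne_zero E.two D.a1
  generalize w1 + e • w2 = z at *
  generalize w1 - e • w2 = z' at *
  rw [tor, mul_mulVec, mul_mulVec, mul_mulVec]
  rw [pseudo_mulVec (v := z') (φ := ((σ o - 1) / f z' z') • uvec f z') (by
      rw [smul_dotProduct, uvec_dot E.uni, hz'z', smul_eq_mul, div_mul_cancel₀ _ hc, add_sub_cancel]; exact hσo),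
    pseudo_mulVec (v := z) (φ := ((o - 1) / f z z) • uvec f z) (by
      rw [smul_dotProduct, uvec_dot E.uni, hzz, smul_eq_mul, div_mul_cancel₀ _ hc, add_sub_cancel]; exact ho0),
    pseudo_mulVec (v := v) (φ := (l⁻¹ - 1) • uvec f u) (by
      rw [smul_dotProduct, uvec_dot E.uni, h.vu, smul_eq_mul, mul_one, add_sub_cancel]; exact inv_ne_zero hl),
    pseudo_mulVec (v := u) (φ := (l - 1) • uvec f v) (by
      rw [smul_dotProduct, uvec_dot E.uni, h.uv, smul_eq_mul, mul_one, add_sub_cancel]; exact hl)]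
  simp only [smul_dotProduct, uvec_dot E.uni, smul_eq_mul, E.uni.add_left, E.uni.smul_left, hzu, hzv, hz'u, hz'v,
    (eq_zero_comm E.uni).1 hzz', hzz, hz'z', h.vv, mul_zero, add_zero]
  module

omit [Finite F] in
theorem tor_det {u v w1 w2 : ι → F} {e : F} (D : TorData f R₀ u v w1 w2 e) (he : σ e = -e) {l o : F}
    (hl : l ≠ 0) (ho : o * σ o = 1) :
    tor σ f u v (w1 + e • w2) (w1 - e • w2) l o ∈ Cfsg.Geo.specialLinear ι F := by
  obtain ⟨hzu, hzv, hz'u, hz'v, hzz', hzz, hz'z'⟩ := E.tor_props D he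
  have ho0 : o ≠ 0 := left_ne_zero_of_mul_eq_one ho
  have hσo : σ o ≠ 0 := right_ne_zero_of_mul_eq_one ho
  have hc : 2 * f w1 w1 ≠ 0 := mul_ne_zero E.two D.a1
  generalize w1 + e • w2 = z at *
  generalize w1 - e • w2 = z' at *
  have e1 : ((l - 1) • uvec f v) ⬝ᵥ u = l - 1 := by
    rw [smul_dotProduct, uvec_dot E.uni, D.hyp.uv, smul_eq_mul, mul_one]
  have e2 : ((l⁻¹ - 1) • uvec f u) ⬝ᵥ v = l⁻¹ - 1 := by
    rw [smul_dotProduct, uvec_dot E.uni, D.hyp.vu, smul_eq_mul, mul_one]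
  have e3 : (((o - 1) / f z z) • uvec f z) ⬝ᵥ z = o - 1 := by
    rw [smul_dotProduct, uvec_dot E.uni, hzz, smul_eq_mul, div_mul_cancel₀ _ hc]
  have e4 : (((σ o - 1) / f z' z') • uvec f z') ⬝ᵥ z' = σ o - 1 := by
    rw [smul_dotProduct, uvec_dot E.uni, hz'z', smul_eq_mul, div_mul_cancel₀ _ hc]
  rw [mem_specialLinear_iff, tor, Units.val_mul, Units.val_mul, Units.val_mul, Matrix.det_mul, Matrix.det_mul,
    Matrix.det_mul, det_pseudo (by rw [e1, add_sub_cancel]; exact hl),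
    det_pseudo (by rw [e2, add_sub_cancel]; exact inv_ne_zero hl),
    det_pseudo (by rw [e3, add_sub_cancel]; exact ho0), det_pseudo (by rw [e4, add_sub_cancel]; exact hσo),
    e1, e2, e3, e4, add_sub_cancel, add_sub_cancel, add_sub_cancel, add_sub_cancel, mul_inv_cancel₀ hl, one_mul, ho]

omit [Finite F] in
theorem tor_iso {u v w1 w2 : ι → F} {e : F} (D : TorData f R₀ u v w1 w2 e) (he : σ e = -e) {l o : F}
    (hl : l ∈ F₀) (hl0 : l ≠ 0) (ho : o * σ o = 1) : Iso f (tor σ f u v (w1 + e • w2) (w1 - e • w2) l o) := by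
  obtain ⟨hzu, hzv, hz'u, hz'v, hzz', hzz, hz'z'⟩ := E.tor_props D he
  intro x y
  have h := D.hyp
  have hc : 2 * f w1 w1 ≠ 0 := mul_ne_zero E.two D.a1
  have hcσ : σ (f w1 w1) = f w1 w1 := (E.fix _).2 (E.rat _ D.h1 _ D.h1)
  rw [E.tor_mulVec D he hl0 ho, E.tor_mulVec D he hl0 ho]
  generalize w1 + e • w2 = z at *
  generalize w1 - e • w2 = z' at *
  simp only [E.uni.add_left, add_right' E.uni, E.uni.smul_left, smul_right' E.uni, h.uu, h.vv, h.uv, h.vu, hzu, hzv,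
    hz'u, hz'v, (eq_zero_comm E.uni).1 hzu, (eq_zero_comm E.uni).1 hzv, (eq_zero_comm E.uni).1 hz'u,
    (eq_zero_comm E.uni).1 hz'v, hzz', (eq_zero_comm E.uni).1 hzz', hzz, hz'z', map_sub, map_mul, map_div₀, map_one,
    map_inv₀, map_ofNat, hcσ, (E.fix l).2 hl, E.uni.involutive]
  rw [← E.uni.herm u y, ← E.uni.herm v y, ← E.uni.herm z y, ← E.uni.herm z' y]
  have h2 := E.two
  have ha := D.a1
  field_simp
  linear_combination (2 * f w1 w1 * l ^ 2) * (f x z * f z y + f x z' * f z' y) * ho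

omit [Finite F] in
theorem tor_rat {u v w1 w2 : ι → F} {e : F} (D : TorData f R₀ u v w1 w2 e) (he : σ e = -e) {l o : F}
    (hl : l ∈ F₀) (hl0 : l ≠ 0) (ho : o * σ o = 1) {x : ι → F} (hx : x ∈ R₀) :
    (tor σ f u v (w1 + e • w2) (w1 - e • w2) l o : Matrix ι ι F) *ᵥ x ∈ R₀ := by
  have h := D.hyp
  rw [E.tor_mulVec D he hl0 ho, add_assoc]
  refine R₀.add_mem (R₀.add_mem (R₀.add_mem hx
    (smul_mem_rat (mul_mem (sub_mem hl (one_mem F₀)) (E.rat x hx v h.hv)) h.hu))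
    (smul_mem_rat (mul_mem (sub_mem (inv_mem hl) (one_mem F₀)) (E.rat x hx u h.hu)) h.hv)) ?_
  obtain ⟨t, ht⟩ : ∃ t, t = (o - 1) / (2 * f w1 w1) * f x (w1 + e • w2) := ⟨_, rfl⟩
  have hst : σ t = (σ o - 1) / (2 * f w1 w1) * f x (w1 - e • w2) := by
    rw [ht, map_mul, map_div₀, map_sub, map_one, map_mul, map_ofNat, (E.fix _).2 (E.rat _ D.h1 _ D.h1)]
    congr 1
    rw [add_right' E.uni, sub_right' E.uni, smul_right' E.uni, map_add, map_mul, E.uni.involutive,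
      (E.fix _).2 (E.rat x hx _ D.h1), (E.fix _).2 (E.rat x hx _ D.h2), he]
    ring
  rw [← ht, ← hst, show t • (w1 + e • w2) + σ t • (w1 - e • w2) = (t + σ t) • w1 + ((t - σ t) * e) • w2 by module]
  refine R₀.add_mem (smul_mem_rat ((E.fix _).1 ?_) D.h1) (smul_mem_rat ((E.fix _).1 ?_) D.h2)
  · rw [map_add, E.uni.involutive, add_comm]
  · rw [map_mul, map_sub, E.uni.involutive, he]; ring

omit [Finite F] in
theorem tor_mul {u v w1 w2 : ι → F} {e : F} (D : TorData f R₀ u v w1 w2 e) (he : σ e = -e) {l o l' o' : F}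
    (hl : l ≠ 0) (ho : o * σ o = 1) (hl' : l' ≠ 0) (ho' : o' * σ o' = 1) :
    tor σ f u v (w1 + e • w2) (w1 - e • w2) l o * tor σ f u v (w1 + e • w2) (w1 - e • w2) l' o' =
      tor σ f u v (w1 + e • w2) (w1 - e • w2) (l * l') (o * o') := by
  refine gl_ext fun x => ?_
  obtain ⟨hzu, hzv, hz'u, hz'v, hzz', hzz, hz'z'⟩ := E.tor_props D he
  have h := D.hyp
  have hoo : o * o' * σ (o * o') = 1 := by rw [map_mul]; linear_combination (o' * σ o') * ho + ho'
  rw [mul_mulVec, E.tor_mulVec D he hl' ho', E.tor_mulVec D he hl ho, E.tor_mulVec D he (mul_ne_zero hl hl') hoo]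
  generalize w1 + e • w2 = z at *
  generalize w1 - e • w2 = z' at *
  simp only [E.uni.add_left, E.uni.smul_left, h.uu, h.vv, h.uv, h.vu, hzu, hzv, hz'u, hz'v,
    (eq_zero_comm E.uni).1 hzu, (eq_zero_comm E.uni).1 hzv, (eq_zero_comm E.uni).1 hz'u,
    (eq_zero_comm E.uni).1 hz'v, hzz', (eq_zero_comm E.uni).1 hzz', hzz, hz'z', map_mul]
  have := E.two
  have := D.a1
  match_scalars <;> field_simp <;> ring

end Setting

end CfsgLib.SUFour.SubOrth
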