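/-
Overgroups of a real orthogonal group of minus type without real transvections are real, by counting.
-/
import Cfsg.Agent.Lib.SUFour.SubOrthFull
import Cfsg.Agent.Lib.SUFour.SubOrthTorus
import Cfsg.Agent.Lib.SUFour.SubOrthArith

set_option autoImplicit false

namespace CfsgLib.SUFour.SubOrth

open Matrix CfsgLib.Transvec CfsgLib.Transvec.Unitary
open scoped MatrixGroups

variable {ι : Type} [Fintype ι] [DecidableEq ι] {F : Type*} [Field F] [Finite F]
variable {σ : F ≃+* F} {f : (ι → F) → (ι → F) → F} {F₀ : Subfield F} {R₀ : Submodule F₀ (ι → F)} {im : F}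

/-- The order data of the fields. -/
structure Cards (σ : F ≃+* F) (F₀ : Subfield F) (q : ℕ) : Prop where
  card : Nat.card F = q ^ 2
  card₀ : Nat.card F₀ = q
  pow : ∀ x, σ x = x ^ q
  five : 5 ≤ q
  odd : Odd q

namespace Cards

variable {q : ℕ} (C : Cards σ F₀ q)
include C

theorem card_norm_one : Nat.card (powMonoidHom (q + 1) : Fˣ →* Fˣ).ker = q + 1 := by
  have h := C.five
  rw [IsCyclic.card_powMonoidHom_ker, Nat.card_units, C.card, show q ^ 2 - 1 = (q + 1) * (q - 1) by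
    rw [← Nat.sq_sub_sq, one_pow], Nat.gcd_eq_right (Dvd.intro _ rfl)]

theorem norm_of_ker {o : Fˣ} (ho : o ∈ (powMonoidHom (q + 1) : Fˣ →* Fˣ).ker) : (o : F) * σ o = 1 := by
  rw [C.pow, ← pow_succ']
  simpa using congrArg Units.val (MonoidHom.mem_ker.1 ho)

omit [Finite F] in
theorem card_norm_set {t₀ : F} (ht₀ : t₀ ≠ 0) [Finite F] :
    Nat.card {t : F // t * σ t = t₀ * σ t₀} = q + 1 := by
  refine Eq.trans (Nat.card_congr ?_).symm C.card_norm_one
  have hσ : σ t₀ ≠ 0 := (map_ne_zero_iff _ σ.injective).2 ht₀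
  refine
    { toFun := fun o => ⟨(o.1 : F) * t₀, by rw [map_mul, mul_mul_mul_comm, C.norm_of_ker o.2, one_mul]⟩
      invFun := fun t => ⟨Units.mk0 (t.1 / t₀) (div_ne_zero (fun h => ?_) ht₀), ?_⟩
      left_inv := fun o => Subtype.ext (Units.ext (mul_div_cancel_right₀ _ ht₀))
      right_inv := fun t => Subtype.ext (div_mul_cancel₀ _ ht₀) }
  · have := t.2
    rw [h, zero_mul] at this
    exact mul_ne_zero ht₀ hσ this.symm
  · refine MonoidHom.mem_ker.2 (Units.ext ?_)
    show (t.1 / t₀) ^ (q + 1) = 1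
    rw [pow_succ', ← C.pow, map_div₀, div_mul_div_comm, t.2, div_self (mul_ne_zero ht₀ hσ)]

theorem exists_sqrt {a : F} (ha : a ∈ F₀) : ∃ e, e * e = a := by
  haveI := Fintype.ofFinite F
  haveI : Fintype F₀ := Fintype.ofFinite F₀
  rcases eq_or_ne a 0 with rfl | ha0
  · exact ⟨0, mul_zero 0⟩
  have hcard : Fintype.card F = q ^ 2 := by rw [← Nat.card_eq_fintype_card, C.card]
  have hchar : ringChar F ≠ 2 := fun h => by
    have h1 := FiniteField.even_card_of_char_two h
    rw [hcard] at h1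
    exact Nat.not_even_iff_odd.2 (C.odd.pow) (Nat.even_iff.2 h1)
  have h1 : a ^ (q - 1) = 1 := by
    have h2 := FiniteField.pow_card_sub_one_eq_one (⟨a, ha⟩ : F₀) (fun h => ha0 (congrArg Subtype.val h))
    rw [← Nat.card_eq_fintype_card, C.card₀] at h2
    simpa using congrArg Subtype.val h2
  obtain ⟨r, hr⟩ := (FiniteField.isSquare_iff hchar ha0).2 (by
    obtain ⟨m, hm⟩ := C.odd
    rw [hcard, show q ^ 2 / 2 = (q - 1) * (m + 1) by
      subst hm
      rw [show (2 * m + 1) ^ 2 = 2 * (2 * m * (m + 1)) + 1 by ring, Nat.mul_add_div (by norm_num),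
        show 2 * m + 1 - 1 = 2 * m by omega]
      simp, pow_mul, h1, one_pow])
  exact ⟨r, hr.symm⟩

end Cards

namespace Setting

variable (E : Setting σ f F₀ R₀ im)
include E

/-- An anisotropic orthogonal of a pair has an orthogonal basis, and it gives coordinates. -/
theorem exists_coords {u v : ι → F} (h : Hyp f R₀ u v)
    (hW : ∀ w ∈ R₀, f w u = 0 → f w v = 0 → f w w = 0 → w = 0) :
    ∃ w1 w2, w1 ∈ R₀ ∧ w2 ∈ R₀ ∧ f w1 u = 0 ∧ f w1 v = 0 ∧ f w2 u = 0 ∧ f w2 v = 0 ∧ f w1 w2 = 0 ∧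
      f w1 w1 ≠ 0 ∧ f w2 w2 ≠ 0 ∧
      ∀ x, x = f x v • u + f x u • v + (f x w1 / f w1 w1) • w1 + (f x w2 / f w2 w2) • w2 := by
  obtain ⟨w1, hw1, h1u, h1v, h11⟩ := E.exists_aniso_perp h
  obtain ⟨w2, hw2, h2u, h2v, h21, hw20⟩ :
      ∃ w ∈ R₀, f w u = 0 ∧ f w v = 0 ∧ f w w1 = 0 ∧ w ≠ 0 := by
    by_contra hcon
    simp only [not_exists, not_and, not_not] at hcon
    have hle : R₀ ≤ Submodule.span F₀ (Set.range ![u, v, w1]) := fun x hx => by
      obtain ⟨x', hx'⟩ : ∃ x', x' = x - f x v • u - f x u • v := ⟨_, rfl⟩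
      have hx'R : x' ∈ R₀ := hx' ▸ E.split_mem h hx
      obtain ⟨hxu, hxv⟩ : f x' u = 0 ∧ f x' v = 0 := hx' ▸ E.split h x
      have hd := div_mem (E.rat x' hx'R w1 hw1) (E.rat w1 hw1 w1 hw1)
      have h0 := hcon (x' - (f x' w1 / f w1 w1) • w1) (R₀.sub_mem hx'R (smul_mem_rat hd hw1))
        (by rw [sub_left' E.uni, E.uni.smul_left, hxu, h1u, mul_zero, sub_zero])
        (by rw [sub_left' E.uni, E.uni.smul_left, hxv, h1v, mul_zero, sub_zero])
        (by rw [sub_left' E.uni, E.uni.smul_left, div_mul_cancel₀ _ h11, sub_self])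
      refine (Submodule.mem_span_range_iff_exists_fun F₀).2
        ⟨![⟨f x v, E.rat x hx v h.hv⟩, ⟨f x u, E.rat x hx u h.hu⟩, ⟨_, hd⟩], ?_⟩
      simp only [Fin.sum_univ_three, coe_smul_eq, Matrix.cons_val_zero, Matrix.cons_val_one, Matrix.cons_val]
      rw [← sub_eq_zero.1 h0, hx']
      abel
    have h1 := Submodule.finrank_mono hle
    have h2 := finrank_range_le_card (R := F₀) (b := ![u, v, w1])
    rw [E.dim] at h1
    rw [Set.finrank, Fintype.card_fin] at h2
    omega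
  have h22 : f w2 w2 ≠ 0 := fun h0 => hw20 (hW w2 hw2 h2u h2v h0)
  have h12 : f w1 w2 = 0 := (eq_zero_comm E.uni).1 h21
  refine ⟨w1, w2, hw1, hw2, h1u, h1v, h2u, h2v, h12, h11, h22, fun x => ?_⟩
  have hli : LinearIndependent F₀ ![u, v, w1, w2] := by
    rw [Fintype.linearIndependent_iff]
    intro g hg
    simp only [Fin.sum_univ_four, coe_smul_eq, Matrix.cons_val_zero, Matrix.cons_val_one, Matrix.cons_val] at hg
    have p := congrArg (fun y => (f y v, f y u, f y w1, f y w2)) hg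
    simp only [E.uni.add_left, E.uni.smul_left, h.uu, h.vv, h.uv, h.vu, h1u, h1v, h2u, h2v, h12, h21,
      (eq_zero_comm E.uni).1 h1u, (eq_zero_comm E.uni).1 h1v, (eq_zero_comm E.uni).1 h2u,
      (eq_zero_comm E.uni).1 h2v, zero_left' E.uni, Prod.mk.injEq, mul_zero, mul_one, add_zero, zero_add] at p
    intro k
    fin_cases k
    · exact Subtype.ext p.1
    · exact Subtype.ext p.2.1
    · exact Subtype.ext ((mul_eq_zero.1 p.2.2.1).resolve_right h11)
    · exact Subtype.ext ((mul_eq_zero.1 p.2.2.2).resolve_right h22)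
  have hspan : Submodule.span F₀ (Set.range ![u, v, w1, w2]) = R₀ := by
    refine Submodule.eq_of_le_of_finrank_le ?_ (by rw [finrank_span_eq_card hli, E.dim, Fintype.card_fin])
    rw [Submodule.span_le]
    rintro _ ⟨k, rfl⟩
    fin_cases k
    exacts [h.hu, h.hv, hw1, hw2]
  refine sub_eq_zero.1 (E.eq_zero_of_perp fun r hr => (eq_zero_comm E.uni).1 ?_)
  rw [← hspan] at hr
  induction hr using Submodule.span_induction with
  | mem a ha =>
    obtain ⟨k, rfl⟩ := ha
    fin_cases k <;>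
      simp [sub_left' E.uni, E.uni.add_left, E.uni.smul_left, h.uu, h.vv, h.uv, h.vu, h1u, h1v, h2u, h2v, h12, h21,
        (eq_zero_comm E.uni).1 h1u, (eq_zero_comm E.uni).1 h1v, (eq_zero_comm E.uni).1 h2u,
        (eq_zero_comm E.uni).1 h2v, div_mul_cancel₀ _ h11, div_mul_cancel₀ _ h22]
  | zero => exact zero_right' E.uni _
  | add a b _ _ ha hb => rw [add_right' E.uni, ha, hb, add_zero]
  | smul t a _ ha => rw [coe_smul_eq, smul_right' E.uni, ha, mul_zero]

variable {M : Subgroup (GL ι F)} (O : Over f R₀ M)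
include O

set_option maxHeartbeats 4000000 in
set_option synthInstance.maxHeartbeats 400000 in
/-- With no real transvection and an anisotropic orthogonal of a pair, every element is real. -/
theorem pres_of_aniso (N : NoT f R₀ M) {q : ℕ} (C : Cards σ F₀ q)
    (hM : Nat.card M ∣ q ^ 6 * ((q ^ 2 - 1) * ((q ^ 3 + 1) * (q ^ 4 - 1))))
    {u v : ι → F} (h : Hyp f R₀ u v) (hW : ∀ w ∈ R₀, f w u = 0 → f w v = 0 → f w w = 0 → w = 0)
    {g₀ : GL ι F} (hg₀ : g₀ ∈ M) : Pres R₀ g₀ := by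
  classical
  obtain ⟨w1, w2, hw1, hw2, h1u, h1v, h2u, h2v, h12, h11, h22, hco⟩ := E.exists_coords h hW
  have h21 : f w2 w1 = 0 := (eq_zero_comm E.uni).1 h12
  have hu0 := E.hyp_ne h
  have hfix : ∀ {a : F}, a ∈ F₀ → σ a = a := fun ha => (E.fix _).2 ha
  have hf11 := hfix (E.rat w1 hw1 w1 hw1)
  have hf22 := hfix (E.rat w2 hw2 w2 hw2)
  obtain ⟨e, hee⟩ := C.exists_sqrt (a := -f w1 w1 / f w2 w2)
    (div_mem (neg_mem (E.rat w1 hw1 w1 hw1)) (E.rat w2 hw2 w2 hw2))
  have heF : e ∉ F₀ := fun heF => by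
    have h0 := hW (w1 + e • w2) (R₀.add_mem hw1 (smul_mem_rat heF hw2))
      (by rw [E.uni.add_left, E.uni.smul_left, h1u, h2u, mul_zero, add_zero])
      (by rw [E.uni.add_left, E.uni.smul_left, h1v, h2v, mul_zero, add_zero]) (by
        simp only [E.uni.add_left, add_right' E.uni, E.uni.smul_left, smul_right' E.uni, h12, h21, hfix heF]
        rw [show e * (e * f w2 w2) = e * e * f w2 w2 by ring, hee]
        field_simp
        ring)
    have := congrArg (fun y => f y w1) h0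
    simp only [E.uni.add_left, E.uni.smul_left, h21, zero_left' E.uni, mul_zero, add_zero] at this
    exact h11 this
  have heσ : σ e = -e := by
    have h1 : σ e * σ e = e * e := by
      rw [← map_mul, hee]
      exact hfix (div_mem (neg_mem (E.rat w1 hw1 w1 hw1)) (E.rat w2 hw2 w2 hw2))
    rcases mul_self_eq_mul_self_iff.1 h1 with h2 | h2
    · exact absurd ((E.fix e).1 h2) heF
    · exact h2
  have D : TorData f R₀ u v w1 w2 e :=
    ⟨h, hw1, hw2, h1u, h1v, h2u, h2v, h12, h11, h22, by rw [hee, div_mul_cancel₀ _ h22]⟩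
  -- the stabiliser of the point and the real elements
  let Mu : Subgroup M :=
    { carrier := {g | ∃ t : F, t ≠ 0 ∧ ((g : GL ι F) : Matrix ι ι F) *ᵥ u = t • u}
      one_mem' := ⟨1, one_ne_zero, by simp⟩
      mul_mem' := by
        rintro a b ⟨s, hs, ha⟩ ⟨t, ht, hb⟩
        exact ⟨t * s, mul_ne_zero ht hs, by rw [Subgroup.coe_mul, mul_mulVec, hb, mulVec_smul, ha, smul_smul]⟩
      inv_mem' := by
        rintro a ⟨t, ht, ha⟩
        refine ⟨t⁻¹, inv_ne_zero ht, mulVec_injective (a : GL ι F) ?_⟩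
        show ((a : GL ι F) : Matrix ι ι F) *ᵥ _ = ((a : GL ι F) : Matrix ι ι F) *ᵥ _
        rw [Subgroup.coe_inv, mulVec_inv_cancel, mulVec_smul, ha, smul_smul, inv_mul_cancel₀ ht, one_smul] }
  have hMu : ∀ g : M, g ∈ Mu ↔ ∃ t : F, t ≠ 0 ∧ ((g : GL ι F) : Matrix ι ι F) *ᵥ u = t • u := fun g => Iff.rfl
  have hpmul : ∀ {a b : GL ι F}, Pres R₀ a → Pres R₀ b → Pres R₀ (a * b) := by
    rintro a b ⟨s, hs⟩ ⟨t, ht⟩
    refine ⟨t * s, fun r hr => ?_⟩
    obtain ⟨r', hr', e1⟩ := ht r hr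
    obtain ⟨r'', hr'', e2⟩ := hs r' hr'
    exact ⟨r'', hr'', by rw [mul_mulVec, e1, mulVec_smul, e2, smul_smul]⟩
  have hp1 : Pres R₀ (1 : GL ι F) := ⟨1, fun r hr => ⟨r, hr, by simp⟩⟩
  let Hs : Subgroup M :=
    { carrier := {g | Pres R₀ (g : GL ι F)}
      one_mem' := hp1
      mul_mem' := fun ha hb => hpmul ha hb
      inv_mem' := by
        intro a ha
        haveI : Finite M := inferInstance
        have e : a⁻¹ = a ^ (orderOf a - 1) := by
          refine inv_eq_of_mul_eq_one_right ?_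
          rw [← pow_succ', Nat.sub_add_cancel (orderOf_pos a), pow_orderOf_eq_one]
        show Pres R₀ ((a⁻¹ : M) : GL ι F)
        rw [e]
        induction orderOf a - 1 with
        | zero => exact hp1
        | succ n ih => rw [pow_succ, Subgroup.coe_mul]; exact hpmul ih ha }
  have hle : Mu ≤ Hs := fun g hg => by
    obtain ⟨t, -, hgu⟩ := (hMu g).1 hg
    exact E.pres_of_stab O N h g.2 hgu
  -- the real points
  obtain ⟨h1d, h1du, -⟩ := E.rf_swap h (one_mem F₀) one_ne_zero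
  obtain ⟨S, hSd⟩ : ∃ S, S = rf f (u - (1 : F) • v) * rf f w1 := ⟨_, rfl⟩
  have hSM : S ∈ M := hSd ▸ E.rf2_mem O (R₀.sub_mem h.hu (smul_mem_rat (one_mem F₀) h.hv)) hw1 h1d h11
  have hSp : Pres R₀ S := ⟨1, fun r hr => ⟨_, by
    rw [hSd, mul_mulVec]
    exact E.rf_rat h1d (R₀.sub_mem h.hu (smul_mem_rat (one_mem F₀) h.hv)) (E.rf_rat h11 hw1 hr),
    (one_smul F _).symm⟩⟩
  have hSu : (S : Matrix ι ι F) *ᵥ u = v := by
    rw [hSd, mul_mulVec, E.rf_fix h11 ((eq_zero_comm E.uni).1 h1u), h1du, one_smul]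
  obtain ⟨sw, hsw⟩ : ∃ sw : (ι → F) → GL ι F, ∀ w, sw w = rEl f u w (-(f w w) / 2) := ⟨_, fun _ => rfl⟩
  let Ws := {w : ι → F // w ∈ R₀ ∧ f w u = 0 ∧ f w v = 0}
  have hswM : ∀ w : Ws, sw w.1 ∈ M := fun w => hsw w.1 ▸ E.rEl_mem O h.hu h.uu w.2.1 w.2.2.1
  have hswx : ∀ (w : Ws) x, (sw w.1 : Matrix ι ι F) *ᵥ x =
      x + f x u • w.1 + (-(f w.1 w.1) / 2 * f x u - f x w.1) • u := fun w x => by
    rw [hsw, E.rEl_mulVec h.uu w.2.2.1]
  have hswp : ∀ w : Ws, Pres R₀ (sw w.1) := fun w => ⟨1, fun r hr => ⟨_, by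
    rw [hsw]
    exact E.rEl_rat h.hu h.uu w.2.1 w.2.2.1 (div_mem (neg_mem (E.rat _ w.2.1 _ w.2.1)) (ofNat_mem F₀ 2)) hr,
    (one_smul F _).symm⟩⟩
  have hswv : ∀ w : Ws, (sw w.1 : Matrix ι ι F) *ᵥ v = v + w.1 + (-(f w.1 w.1) / 2) • u := fun w => by
    rw [hswx, h.vu, one_smul, mul_one, (eq_zero_comm E.uni).1 w.2.2.2, sub_zero]
  have hcardW : Nat.card Ws = q ^ 2 := by
    have e : Ws ≃ F₀ × F₀ :=
      { toFun := fun w => (⟨f w.1 w1 / f w1 w1, div_mem (E.rat _ w.2.1 _ hw1) (E.rat _ hw1 _ hw1)⟩,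
          ⟨f w.1 w2 / f w2 w2, div_mem (E.rat _ w.2.1 _ hw2) (E.rat _ hw2 _ hw2)⟩)
        invFun := fun p => ⟨(p.1 : F) • w1 + (p.2 : F) • w2,
          R₀.add_mem (smul_mem_rat p.1.2 hw1) (smul_mem_rat p.2.2 hw2),
          by rw [E.uni.add_left, E.uni.smul_left, E.uni.smul_left, h1u, h2u]; ring,
          by rw [E.uni.add_left, E.uni.smul_left, E.uni.smul_left, h1v, h2v]; ring⟩
        left_inv := fun w => Subtype.ext (by
          conv_rhs => rw [hco w.1, w.2.2.1, w.2.2.2, zero_smul, zero_smul, zero_add, zero_add])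
        right_inv := fun p => Prod.ext
          (Subtype.ext (by simp [E.uni.add_left, E.uni.smul_left, h21, h11]))
          (Subtype.ext (by simp [E.uni.add_left, E.uni.smul_left, h12, h22])) }
    rw [Nat.card_congr e, Nat.card_prod, C.card₀, sq]
  let rp : Option Ws → Hs := fun o => match o with
    | none => 1
    | some w => ⟨⟨sw w.1 * S, M.mul_mem (hswM w) hSM⟩, hpmul (hswp w) hSp⟩
  have hrpu : ∀ w : Ws, (((rp (some w) : Hs) : M) : GL ι F).val *ᵥ u = v + w.1 + (-(f w.1 w.1) / 2) • u := fun w => by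
    show ((sw w.1 * S : GL ι F) : Matrix ι ι F) *ᵥ u = _
    rw [mul_mulVec, hSu, hswv]
  have hrel : ∀ a b : Hs, (QuotientGroup.mk a : Hs ⧸ Mu.subgroupOf Hs) = QuotientGroup.mk b ↔
      ∃ t : F, t ≠ 0 ∧ (((b : M) : GL ι F) : Matrix ι ι F) *ᵥ u = t • ((((a : M) : GL ι F) : Matrix ι ι F) *ᵥ u) := by
    intro a b
    rw [QuotientGroup.eq, Subgroup.mem_subgroupOf, hMu]
    refine exists_congr fun t => and_congr_right fun _ => ?_
    rw [Subgroup.coe_mul, Subgroup.coe_inv, Subgroup.coe_mul, Subgroup.coe_inv, mul_mulVec]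
    constructor <;> intro e1
    · have := congrArg (fun y => (((a : M) : GL ι F) : Matrix ι ι F) *ᵥ y) e1
      simpa [mulVec_smul] using this
    · rw [e1, mulVec_smul, inv_mulVec_cancel]
  have hcardH : Nat.card (Hs ⧸ Mu.subgroupOf Hs) = q ^ 2 + 1 := by
    haveI : Finite Ws := Subtype.finite
    rw [← hcardW, ← Finite.card_option]
    refine (Nat.card_congr (Equiv.ofBijective (fun o => QuotientGroup.mk (rp o)) ⟨?_, ?_⟩)).symm
    · rintro (_ | a) (_ | b) hab
      · rfl
      · exfalso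
        obtain ⟨t, -, ht⟩ := (hrel _ _).1 hab
        rw [hrpu] at ht
        have := congrArg (fun y => f y u) ht
        simp [rp, E.uni.add_left, E.uni.smul_left, h.vu, h.uu, b.2.2.1] at this
      · exfalso
        obtain ⟨t, -, ht⟩ := (hrel _ _).1 hab.symm
        rw [hrpu] at ht
        have := congrArg (fun y => f y u) ht
        simp [rp, E.uni.add_left, E.uni.smul_left, h.vu, h.uu, a.2.2.1] at this
      · obtain ⟨t, -, ht⟩ := (hrel _ _).1 hab
        rw [hrpu, hrpu] at ht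
        have h1 := congrArg (fun y => f y u) ht
        simp only [E.uni.add_left, E.uni.smul_left, h.vu, h.uu, a.2.2.1, b.2.2.1, mul_zero, add_zero, mul_one] at h1
        subst h1
        rw [one_smul] at ht
        have h2 := congrArg (fun y => f y v) ht
        simp only [E.uni.add_left, E.uni.smul_left, h.vv, h.uv, a.2.2.2, b.2.2.2, mul_one, zero_add] at h2
        rw [h2] at ht
        exact congrArg some (Subtype.ext (add_left_cancel (add_right_cancel ht)).symm)
    · intro x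
      induction x using QuotientGroup.induction_on with
      | _ x =>
        obtain ⟨⟨g, hgM⟩, l, hl⟩ := x
        obtain ⟨r, hr, hgu⟩ := hl u h.hu
        change (g : Matrix ι ι F) *ᵥ u = l • r at hgu
        have hl0 : l ≠ 0 := fun h0 => mulVec_ne_zero g hu0 (by rw [hgu, h0, zero_smul])
        have hrr : f r r = 0 := by
          have h1 := O.iso g hgM u u
          rw [hgu, h.uu, E.uni.smul_left, smul_right' E.uni] at h1
          simpa [hl0, (map_ne_zero_iff _ σ.injective).2 hl0] using h1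
        obtain ⟨β, hβ⟩ : ∃ β, β = f r u := ⟨_, rfl⟩
        obtain ⟨r', hr'⟩ : ∃ r', r' = r - f r v • u - f r u • v := ⟨_, rfl⟩
        have hr'R : r' ∈ R₀ := hr' ▸ E.split_mem h hr
        obtain ⟨hr'u, hr'v⟩ : f r' u = 0 ∧ f r' v = 0 := hr' ▸ E.split h r
        have er : r = f r v • u + β • v + r' := by rw [hr', hβ]; abel
        have hαF := E.rat r hr v h.hv
        have hβF : β ∈ F₀ := hβ ▸ E.rat r hr u h.hu
        have hcase : 2 * f r v * β + f r' r' = 0 := by
          obtain ⟨α, hα⟩ : ∃ α, α = f r v := ⟨_, rfl⟩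
          rw [← hα] at er hαF ⊢
          rw [er] at hrr
          simp only [E.uni.add_left, add_right' E.uni, E.uni.smul_left, smul_right' E.uni, h.uu, h.vv, h.uv, h.vu,
            hr'u, hr'v, (eq_zero_comm E.uni).1 hr'u, (eq_zero_comm E.uni).1 hr'v, hfix hαF, hfix hβF] at hrr
          linear_combination hrr
        by_cases hβ0 : β = 0
        · refine ⟨none, (hrel _ _).2 ⟨l * f r v, mul_ne_zero hl0 ?_, ?_⟩⟩
          · intro h0
            have : r' = 0 := hW r' hr'R hr'u hr'v (by rw [hβ0] at hcase; linear_combination hcase)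
            refine mulVec_ne_zero g hu0 ?_
            rw [hgu, er, h0, hβ0, this]
            simp
          · have : r' = 0 := hW r' hr'R hr'u hr'v (by rw [hβ0] at hcase; linear_combination hcase)
            simp only [rp, Subgroup.coe_one, Units.val_one, one_mulVec]
            show (g : Matrix ι ι F) *ᵥ u = _
            rw [hgu]
            conv_lhs => rw [er, hβ0, this]
            module
        · refine ⟨some ⟨β⁻¹ • r', smul_mem_rat (inv_mem hβF) hr'R,
            by rw [E.uni.smul_left, hr'u, mul_zero], by rw [E.uni.smul_left, hr'v, mul_zero]⟩, (hrel _ _).2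
            ⟨l * β, mul_ne_zero hl0 hβ0, ?_⟩⟩
          rw [hrpu]
          show (g : Matrix ι ι F) *ᵥ u = _
          rw [hgu]
          conv_lhs => rw [er]
          simp only [E.uni.smul_left, smul_right' E.uni, map_inv₀, hfix hβF]
          have := E.two
          match_scalars
          · field_simp
            linear_combination hcase
          · field_simp
          · field_simp
  have hD : Mu.index = (q ^ 2 + 1) * Hs.index := by
    rw [← Subgroup.relIndex_mul_index hle, Subgroup.relIndex, Subgroup.index_eq_card, hcardH]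
  -- lines of the cosets
  obtain ⟨ln, hln⟩ : ∃ ln : M ⧸ Mu → (ι → F), ∀ x, ln x = ((x.out : M) : GL ι F).val *ᵥ u := ⟨_, fun _ => rfl⟩
  have hln0 : ∀ x, ln x ≠ 0 := fun x => hln x ▸ mulVec_ne_zero _ hu0
  have hlniso : ∀ x, f (ln x) (ln x) = 0 := fun x => by rw [hln, O.iso _ (x.out).2]; exact h.uu
  have hlnmk : ∀ g : M, ∃ t : F, t ≠ 0 ∧ ln (QuotientGroup.mk g) = t • (((g : GL ι F) : Matrix ι ι F) *ᵥ u) := by
    intro g
    obtain ⟨⟨m, hm⟩, hmo⟩ := QuotientGroup.mk_out_eq_mul Mu g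
    obtain ⟨t, ht0, ht⟩ := (hMu m).1 hm
    exact ⟨t, ht0, by rw [hln, hmo]; rw [Subgroup.coe_mul, mul_mulVec, ht, mulVec_smul]⟩
  have hlnu : ∀ x, (∃ t : F, ln x = t • u) → x = QuotientGroup.mk 1 := fun x ⟨t, ht⟩ => by
    rw [← QuotientGroup.out_eq' x, QuotientGroup.eq, mul_one]
    refine Mu.inv_mem ((hMu _).2 ⟨t, fun h0 => hln0 x (by rw [ht, h0, zero_smul]), ?_⟩)
    rw [← hln, ht]
  -- the unipotent group is semiregular away from the point
  have hswx' : ∀ (w x : ι → F), f w u = 0 → (sw w : Matrix ι ι F) *ᵥ x =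
      x + f x u • w + (-(f w w) / 2 * f x u - f x w) • u := fun w x hwu => by
    rw [hsw, E.rEl_mulVec h.uu hwu]
  have hswadd : ∀ a b : Ws, ∃ c : Ws, sw a.1 * sw b.1 = sw c.1 := fun a b => by
    refine ⟨⟨a.1 + b.1, R₀.add_mem a.2.1 b.2.1, by rw [E.uni.add_left, a.2.2.1, b.2.2.1, add_zero],
      by rw [E.uni.add_left, a.2.2.2, b.2.2.2, add_zero]⟩, gl_ext fun x => ?_⟩
    simp only [mul_mulVec, hswx, hswx' (a.1 + b.1) _ (by rw [E.uni.add_left, a.2.2.1, b.2.2.1, add_zero]),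
      E.uni.add_left, add_right' E.uni, E.uni.smul_left, h.uu,
      (eq_zero_comm E.uni).1 a.2.2.1, b.2.2.1, E.sym b.2.1 a.2.1]
    have := E.two
    match_scalars <;> field_simp <;> ring
  have hzeroW : (0 : ι → F) ∈ R₀ ∧ f 0 u = 0 ∧ f 0 v = 0 :=
    ⟨R₀.zero_mem, zero_left' E.uni u, zero_left' E.uni v⟩
  have hsw0 : sw 0 = 1 := gl_ext fun x => by
    have := hswx ⟨0, hzeroW⟩ x
    simp only [zero_left' E.uni, zero_right' E.uni] at this
    simp [this]
  let Qs : Subgroup M :=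
    { carrier := {g | ∃ w : Ws, (g : GL ι F) = sw w.1}
      one_mem' := ⟨⟨0, hzeroW⟩, hsw0.symm⟩
      mul_mem' := by
        rintro a b ⟨wa, ha⟩ ⟨wb, hb⟩
        obtain ⟨c, hc⟩ := hswadd wa wb
        exact ⟨c, by rw [Subgroup.coe_mul, ha, hb, hc]⟩
      inv_mem' := by
        rintro a ⟨wa, ha⟩
        obtain ⟨nw, hnw⟩ : ∃ nw : Ws, nw.1 = -wa.1 := ⟨⟨-wa.1, R₀.neg_mem wa.2.1,
          by rw [neg_left' E.uni, wa.2.2.1, neg_zero], by rw [neg_left' E.uni, wa.2.2.2, neg_zero]⟩, rfl⟩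
        refine ⟨nw, ?_⟩
        rw [Subgroup.coe_inv, ha]
        refine inv_eq_of_mul_eq_one_right (gl_ext fun x => ?_)
        simp only [mul_mulVec, hswx, hnw, hswx' (-wa.1) _ (by rw [neg_left' E.uni, wa.2.2.1, neg_zero]), E.uni.add_left, add_right' E.uni, neg_left' E.uni, E.uni.smul_left, h.uu,
          wa.2.2.1, (eq_zero_comm E.uni).1 wa.2.2.1, Units.val_one, one_mulVec,
          show ∀ y, f y (-wa.1) = -f y wa.1 from fun y => by
            rw [← neg_one_smul F wa.1, smul_right' E.uni, map_neg, map_one, neg_one_mul]]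
        have := E.two
        match_scalars <;> field_simp <;> ring }
  have hswinj : Function.Injective fun w : Ws => sw w.1 := fun a b hab => by
    have h1 := congrArg (fun g : GL ι F => (g : Matrix ι ι F) *ᵥ v) hab
    simp only [hswv] at h1
    have h2 := congrArg (fun y => f y v) h1
    simp only [E.uni.add_left, E.uni.smul_left, h.vv, h.uv, a.2.2.2, b.2.2.2, mul_one, zero_add] at h2
    rw [h2] at h1
    exact Subtype.ext (add_left_cancel (add_right_cancel h1))
  have hcardQ : Nat.card Qs = q ^ 2 := by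
    rw [← hcardW]
    refine (Nat.card_congr (Equiv.ofBijective (fun w : Ws => (⟨⟨sw w.1, hswM w⟩, w, rfl⟩ : Qs)) ⟨?_, ?_⟩)).symm
    · exact fun a b hab => hswinj (congrArg (fun z : Qs => ((z : M) : GL ι F)) hab)
    · rintro ⟨⟨g, hg⟩, w, hw⟩
      exact ⟨w, Subtype.ext (Subtype.ext hw.symm)⟩
  have hQMu : ∀ g ∈ Qs, g ∈ Mu := by
    rintro g ⟨w, hg⟩
    exact (hMu g).2 ⟨1, one_ne_zero, by
      rw [hg, hswx, h.uu, (eq_zero_comm E.uni).1 w.2.2.1]; simp⟩
  have hsemi : ∀ (w : Ws) (x : ι → F) (t : F), x ≠ 0 → f x x = 0 → (∀ s : F, x ≠ s • u) →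
      (sw w.1 : Matrix ι ι F) *ᵥ x = t • x → w.1 = 0 := by
    intro w x t hx0 hxx hxu hfx
    rw [hswx] at hfx
    have p1 := congrArg (fun y => f y u) hfx
    simp only [E.uni.add_left, E.uni.smul_left, h.uu, w.2.2.1, mul_zero, add_zero] at p1
    by_cases hb : f x u = 0
    · rw [hb, zero_smul, add_zero, mul_zero, zero_sub] at hfx
      have p2 := congrArg (fun y => f y v) hfx
      have p3 := congrArg (fun y => f y w1) hfx
      have p4 := congrArg (fun y => f y w2) hfx
      simp only [E.uni.add_left, E.uni.smul_left, h.uv, (eq_zero_comm E.uni).1 h1u, (eq_zero_comm E.uni).1 h2u,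
        mul_one, mul_zero, add_zero] at p2 p3 p4
      by_contra hw0
      obtain ⟨a1, ha1⟩ : ∃ a, a = f w.1 w1 / f w1 w1 := ⟨_, rfl⟩
      obtain ⟨a2, ha2⟩ : ∃ a, a = f w.1 w2 / f w2 w2 := ⟨_, rfl⟩
      have ha1F : a1 ∈ F₀ := ha1 ▸ div_mem (E.rat _ w.2.1 _ hw1) (E.rat _ hw1 _ hw1)
      have ha2F : a2 ∈ F₀ := ha2 ▸ div_mem (E.rat _ w.2.1 _ hw2) (E.rat _ hw2 _ hw2)
      have ew : w.1 = a1 • w1 + a2 • w2 := by
        conv_lhs => rw [hco w.1, w.2.2.1, w.2.2.2, zero_smul, zero_smul, zero_add, zero_add, ← ha1, ← ha2]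
      have hfxw : f x w.1 = a1 * f x w1 + a2 * f x w2 := by
        rw [ew, add_right' E.uni, smul_right' E.uni, smul_right' E.uni, hfix ha1F, hfix ha2F]
      have hww : a1 * a1 * f w1 w1 + a2 * a2 * f w2 w2 ≠ 0 := fun h0 => hw0 (hW _ w.2.1 w.2.2.1 w.2.2.2 (by
        rw [ew]
        simp only [E.uni.add_left, add_right' E.uni, E.uni.smul_left, smul_right' E.uni, h12, h21, hfix ha1F,
          hfix ha2F]
        linear_combination h0))
      have ht : f x w1 = 0 ∧ f x w2 = 0 := by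
        by_cases ht1 : t = 1
        · rw [ht1, one_mul] at p2
          have hlin : a1 * f x w1 + a2 * f x w2 = 0 := by linear_combination -p2 - hfxw
          have hN : f x w1 * σ (f x w1) * f w2 w2 + f x w2 * σ (f x w2) * f w1 w1 = 0 := by
            obtain ⟨t1, ht1d⟩ : ∃ t1, t1 = f x w1 := ⟨_, rfl⟩
            obtain ⟨t2, ht2d⟩ : ∃ t2, t2 = f x w2 := ⟨_, rfl⟩
            have ex := hco x
            rw [← ht1d, ← ht2d, hb, zero_smul, add_zero] at ex
            rw [← ht1d, ← ht2d]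
            rw [ex] at hxx
            simp only [E.uni.add_left, add_right' E.uni, E.uni.smul_left, smul_right' E.uni, h.uu, h1u, h2u, h12,
              h21, (eq_zero_comm E.uni).1 h1u, (eq_zero_comm E.uni).1 h2u, map_div₀, hf11, hf22] at hxx
            field_simp at hxx
            linear_combination hxx
          have hlinσ := congrArg σ hlin
          rw [map_add, map_mul, map_mul, map_zero, hfix ha1F, hfix ha2F] at hlinσ
          have k2 : f x w2 * σ (f x w2) * (a1 * a1 * f w1 w1 + a2 * a2 * f w2 w2) = 0 := by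
            linear_combination (a1 * a1) * hN - f w2 w2 * a1 * σ (f x w1) * hlin + f w2 w2 * a2 * f x w2 * hlinσ
          have k1 : f x w1 * σ (f x w1) * (a1 * a1 * f w1 w1 + a2 * a2 * f w2 w2) = 0 := by
            linear_combination (a2 * a2) * hN + f w1 w1 * a1 * σ (f x w1) * hlin - f w1 w1 * a2 * f x w2 * hlinσ
          constructor
          · rcases mul_eq_zero.1 ((mul_eq_zero.1 k1).resolve_right hww) with h0 | h0
            exacts [h0, (map_eq_zero_iff _ σ.injective).1 h0]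
          · rcases mul_eq_zero.1 ((mul_eq_zero.1 k2).resolve_right hww) with h0 | h0
            exacts [h0, (map_eq_zero_iff _ σ.injective).1 h0]
        · have ht1' : t - 1 ≠ 0 := sub_ne_zero.2 ht1
          exact ⟨(mul_eq_zero.1 (show (t - 1) * f x w1 = 0 by linear_combination -p3)).resolve_left ht1',
            (mul_eq_zero.1 (show (t - 1) * f x w2 = 0 by linear_combination -p4)).resolve_left ht1'⟩
      refine hxu (f x v) ?_
      conv_lhs => rw [hco x, hb, ht.1, ht.2]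
      simp
    · have ht : t = 1 := by
        refine mul_right_cancel₀ hb ?_
        linear_combination -p1
      rw [ht, one_smul, add_assoc, add_eq_left] at hfx
      have p := congrArg (fun y => f y w.1) hfx
      simp only [E.uni.add_left, E.uni.smul_left, (eq_zero_comm E.uni).1 w.2.2.1, zero_left' E.uni, mul_zero,
        add_zero] at p
      exact hW _ w.2.1 w.2.2.1 w.2.2.2 ((mul_eq_zero.1 p).resolve_left hb)
  let X : SubMulAction Qs (M ⧸ Mu) :=
    { carrier := {x | x ≠ QuotientGroup.mk 1}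
      smul_mem' := fun c {x} hx hcx => hx (by
        rw [← inv_smul_smul c x, hcx]
        change (QuotientGroup.mk ((c : M)⁻¹ * 1) : M ⧸ Mu) = _
        rw [mul_one, QuotientGroup.eq, mul_one, inv_inv]
        exact hQMu _ c.2) }
  haveI : Finite X := Subtype.finite
  have hfree : ∀ b : X, MulAction.stabilizer Qs b = ⊥ := by
    intro b
    refine (Subgroup.eq_bot_iff_forall _).2 fun c hc => ?_
    obtain ⟨w, hcw⟩ := c.2
    have h1 : (QuotientGroup.mk ((c : M) * b.1.out) : M ⧸ Mu) = b.1 := by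
      conv_rhs => rw [← congrArg Subtype.val (MulAction.mem_stabilizer_iff.1 hc), SubMulAction.val_smul,
        ← QuotientGroup.out_eq' b.1]
      rfl
    obtain ⟨t, ht0, ht⟩ := hlnmk ((c : M) * b.1.out)
    rw [h1, Subgroup.coe_mul, mul_mulVec, hcw, ← hln] at ht
    have h2 := hsemi w (ln b.1) t⁻¹ (hln0 _) (hlniso _) (fun s hs => b.2 (hlnu _ ⟨s, hs⟩))
      (by
        have h3 := congrArg (fun y => t⁻¹ • y) ht
        simp only [smul_smul, inv_mul_cancel₀ ht0, one_smul] at h3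
        exact h3.symm)
    exact Subtype.ext (Subtype.ext (by rw [hcw, h2, hsw0]; rfl))
  have hX : Nat.card X + 1 = Mu.index := by
    rw [Subgroup.index_eq_card, ← Finite.card_option]
    exact Nat.card_congr (Equiv.optionSubtypeNe _)
  obtain ⟨j, hj⟩ : q ^ 2 ∣ Nat.card X := by
    rw [Nat.card_congr (MulAction.selfEquivOrbitsQuotientProd hfree), Nat.card_prod, hcardQ]
    exact Dvd.intro_left _ rfl
  -- all isotropic points
  obtain ⟨t₀, ht₀⟩ := exists_norm_eq E.uni.ne_refl E.uni.involutive (b := -f w2 w2 / f w1 w1)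
    (by rw [map_div₀, map_neg, hf22, hf11])
  have ht₀0 : t₀ ≠ 0 := fun h0 => by
    rw [h0, zero_mul] at ht₀
    exact div_ne_zero (neg_ne_zero.2 h22) h11 ht₀.symm
  let T := Option ((F × F × F₀) ⊕ (F × {t : F // t * σ t = t₀ * σ t₀}))
  haveI : Finite {t : F // t * σ t = t₀ * σ t₀} := Subtype.finite
  have hT : Nat.card T = (q ^ 2 + 1) * (q ^ 3 + 1) := by
    rw [Finite.card_option, Nat.card_sum, Nat.card_prod, Nat.card_prod, Nat.card_prod, C.card, C.card₀,
      C.card_norm_set ht₀0]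
    ring
  have hiso : ∀ x : ι → F, f x x = 0 → f x v * σ (f x u) + f x u * σ (f x v) +
      f x w1 * σ (f x w1) / f w1 w1 + f x w2 * σ (f x w2) / f w2 w2 = 0 := by
    intro x hxx
    obtain ⟨a, had⟩ : ∃ a, a = f x v := ⟨_, rfl⟩
    obtain ⟨b, hbd⟩ : ∃ b, b = f x u := ⟨_, rfl⟩
    obtain ⟨t1, ht1d⟩ : ∃ t1, t1 = f x w1 := ⟨_, rfl⟩
    obtain ⟨t2, ht2d⟩ : ∃ t2, t2 = f x w2 := ⟨_, rfl⟩
    have ex := hco x
    rw [← had, ← hbd, ← ht1d, ← ht2d] at ex ⊢
    rw [ex] at hxx
    simp only [E.uni.add_left, add_right' E.uni, E.uni.smul_left, smul_right' E.uni, h.uu, h.vv, h.uv, h.vu, h1u,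
      h1v, h2u, h2v, h12, h21, (eq_zero_comm E.uni).1 h1u, (eq_zero_comm E.uni).1 h2u, (eq_zero_comm E.uni).1 h1v,
      (eq_zero_comm E.uni).1 h2v, map_div₀, hf11, hf22] at hxx
    field_simp at hxx ⊢
    linear_combination hxx
  have him2 : (2 : F) * im ≠ 0 := mul_ne_zero E.two E.im_ne
  have himpart : ∀ s : F, (s - σ s) / (2 * im) ∈ F₀ := fun s => (E.fix _).1 (by
    rw [map_div₀, map_sub, E.uni.involutive, map_mul, map_ofNat, E.im_skew, mul_neg, div_neg, ← neg_div, neg_sub])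
  let code : (x : ι → F) → f x x = 0 → T := fun x hxx =>
    if hb : f x u = 0 then
      if ht1 : f x w1 = 0 then none
      else some (Sum.inr (f x v / f x w1, ⟨f x w2 / f x w1, by
        have h0 := hiso x hxx
        rw [hb, map_zero, mul_zero, zero_mul, zero_add, zero_add] at h0
        rw [ht₀, map_div₀, div_mul_div_comm,
          div_eq_iff (mul_ne_zero ht1 ((map_ne_zero_iff _ σ.injective).2 ht1))]
        field_simp at h0 ⊢
        linear_combination h0⟩))
    else some (Sum.inl (f x w1 / f x u, f x w2 / f x u,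
      ⟨(f x v / f x u - σ (f x v / f x u)) / (2 * im), himpart _⟩))
  have hnone : ∀ x : ι → F, f x x = 0 → f x u = 0 → f x w1 = 0 → x = f x v • u := by
    intro x hxx hb ht1
    have h0 := hiso x hxx
    simp only [hb, ht1, map_zero, mul_zero, zero_mul, zero_div, zero_add, div_eq_zero_iff] at h0
    have h2 : f x w2 = 0 := by
      rcases mul_eq_zero.1 (h0.resolve_right h22) with h3 | h3
      exacts [h3, (map_eq_zero_iff _ σ.injective).1 h3]
    conv_lhs => rw [hco x, hb, ht1, h2]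
    simp
  have hcode : Function.Injective fun x => code (ln x) (hlniso x) := by
    intro x y hxy
    have hsame : ∀ s : F, ln x = s • ln y → x = y := fun s hs => by
      rw [← QuotientGroup.out_eq' x, ← QuotientGroup.out_eq' y, QuotientGroup.eq, hMu]
      have hs0 : s ≠ 0 := fun h0 => hln0 x (by rw [hs, h0, zero_smul])
      refine ⟨s⁻¹, inv_ne_zero hs0, ?_⟩
      rw [Subgroup.coe_mul, Subgroup.coe_inv, mul_mulVec, ← hln y,
        show ln y = s⁻¹ • ln x by rw [hs, smul_smul, inv_mul_cancel₀ hs0, one_smul], mulVec_smul, hln x,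
        inv_mulVec_cancel]
    simp only [code] at hxy
    by_cases hbx : f (ln x) u = 0 <;> by_cases hby : f (ln y) u = 0 <;> simp only [hbx, hby, dif_pos, dite_false] at hxy
    rotate_left
    · exfalso; split_ifs at hxy <;> cases hxy
    · exfalso; split_ifs at hxy <;> cases hxy
    rotate_left
    · by_cases htx : f (ln x) w1 = 0 <;> by_cases hty : f (ln y) w1 = 0 <;>
        simp only [htx, hty, dif_pos, dite_false, Option.some.injEq, Sum.inr.injEq, Prod.mk.injEq,
          Subtype.mk.injEq, reduceCtorEq] at hxy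
      · rw [hlnu x ⟨_, hnone _ (hlniso x) hbx htx⟩, hlnu y ⟨_, hnone _ (hlniso y) hby hty⟩]
      · obtain ⟨e1, e2⟩ := Prod.mk.inj (Sum.inr.inj (Option.some.inj hxy))
        have e2 := congrArg Subtype.val e2
        dsimp only at e2
        obtain ⟨c, hc⟩ : ∃ c, c = f (ln x) w1 / f (ln y) w1 := ⟨_, rfl⟩
        refine hsame c ?_
        conv_lhs => rw [hco (ln x), hbx]
        conv_rhs => rw [hco (ln y), hby]
        rw [hc]
        rw [div_eq_div_iff htx hty] at e1 e2
        simp only [smul_add, smul_smul, zero_smul, add_zero, mul_zero]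
        match_scalars <;> field_simp
        · linear_combination e1
        · linear_combination e2
    · obtain ⟨e1, e23⟩ := Prod.mk.inj (Sum.inl.inj (Option.some.inj hxy))
      obtain ⟨e2, e3⟩ := Prod.mk.inj e23
      have e3 := congrArg Subtype.val e3
      dsimp only at e3
      rw [div_left_inj' him2] at e3
      have hre : ∀ z, f (ln z) u ≠ 0 → f (ln z) v / f (ln z) u + σ (f (ln z) v / f (ln z) u) =
          -(f (ln z) w1 / f (ln z) u * σ (f (ln z) w1 / f (ln z) u) / f w1 w1 +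
            f (ln z) w2 / f (ln z) u * σ (f (ln z) w2 / f (ln z) u) / f w2 w2) := by
        intro z hz
        have h0 := hiso _ (hlniso z)
        have hσz : σ (f (ln z) u) ≠ 0 := (map_ne_zero_iff _ σ.injective).2 hz
        simp only [map_div₀]
        field_simp at h0 ⊢
        linear_combination h0
      have e4 : f (ln x) v / f (ln x) u = f (ln y) v / f (ln y) u := by
        refine mul_left_cancel₀ E.two ?_
        linear_combination e3 + hre x hbx - hre y hby + congrArg (fun a => -(a * σ a / f w1 w1)) e1 +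
          congrArg (fun a => -(a * σ a / f w2 w2)) e2
      obtain ⟨c, hc⟩ : ∃ c, c = f (ln x) u / f (ln y) u := ⟨_, rfl⟩
      refine hsame c ?_
      conv_lhs => rw [hco (ln x)]
      conv_rhs => rw [hco (ln y)]
      rw [hc]
      rw [div_eq_div_iff hbx hby] at e1 e2 e4
      simp only [smul_add, smul_smul]
      match_scalars <;> field_simp
      · linear_combination e4
      · linear_combination e1
      · linear_combination e2
  haveI : Finite (M ⧸ Mu) := inferInstance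
  have hbound : Mu.index ≤ (q ^ 2 + 1) * (q ^ 3 + 1) := by
    rw [Subgroup.index_eq_card, ← hT]
    exact Nat.card_le_card_of_injective _ hcode
  -- the order of the stabiliser
  let K := F₀ˣ × (powMonoidHom (q + 1) : Fˣ →* Fˣ).ker
  have hTor : ∀ x : K, tor σ f u v (w1 + e • w2) (w1 - e • w2) ((x.1 : F₀) : F) ((x.2 : Fˣ) : F) ∈ M := by
    intro x
    have hl0 : ((x.1 : F₀) : F) ≠ 0 := fun h0 => x.1.ne_zero (Subtype.ext h0)
    exact O.sub _ (E.tor_iso D heσ (x.1 : F₀).2 hl0 (C.norm_of_ker x.2.2))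
      (E.tor_det D heσ hl0 (C.norm_of_ker x.2.2))
      ⟨1, fun r hr => ⟨_, E.tor_rat D heσ (x.1 : F₀).2 hl0 (C.norm_of_ker x.2.2) hr, (one_smul F _).symm⟩⟩
  have hTu : ∀ l o : F, l ≠ 0 → o * σ o = 1 →
      (tor σ f u v (w1 + e • w2) (w1 - e • w2) l o : Matrix ι ι F) *ᵥ u = l • u := fun l o hl ho => by
    obtain ⟨hzu, -, hz'u, -, -, -, -⟩ := E.tor_props D heσ
    rw [E.tor_mulVec D heσ hl ho, h.uu, h.uv, (eq_zero_comm E.uni).1 hzu, (eq_zero_comm E.uni).1 hz'u]
    module
  let τ : K →* M := MonoidHom.mk' (fun x => ⟨_, hTor x⟩) fun x y => Subtype.ext (by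
    show tor σ f u v _ _ _ _ = tor σ f u v _ _ _ _ * tor σ f u v _ _ _ _
    rw [E.tor_mul D heσ (fun h0 => x.1.ne_zero (Subtype.ext h0)) (C.norm_of_ker x.2.2)
      (fun h0 => y.1.ne_zero (Subtype.ext h0)) (C.norm_of_ker y.2.2)]
    rfl)
  have hτinj : Function.Injective τ := by
    intro x y hxy
    have h1 := congrArg (fun z : M => ((z : GL ι F) : Matrix ι ι F) *ᵥ u) hxy
    have hl0 : ∀ x : K, ((x.1 : F₀) : F) ≠ 0 := fun x h0 => x.1.ne_zero (Subtype.ext h0)
    change (tor σ f u v _ _ _ _ : Matrix ι ι F) *ᵥ u = (tor σ f u v _ _ _ _ : Matrix ι ι F) *ᵥ u at h1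
    rw [hTu _ _ (hl0 x) (C.norm_of_ker x.2.2), hTu _ _ (hl0 y) (C.norm_of_ker y.2.2)] at h1
    obtain ⟨hzu, hzv, hz'u, -, hzz', hzz, -⟩ := E.tor_props D heσ
    obtain ⟨z, hzd⟩ : ∃ z, z = w1 + e • w2 := ⟨_, rfl⟩
    have h2 := congrArg (fun z : M => ((z : GL ι F) : Matrix ι ι F) *ᵥ (w1 + e • w2)) hxy
    change (tor σ f u v _ _ _ _ : Matrix ι ι F) *ᵥ _ = (tor σ f u v _ _ _ _ : Matrix ι ι F) *ᵥ _ at h2
    rw [E.tor_mulVec D heσ (hl0 x) (C.norm_of_ker x.2.2), E.tor_mulVec D heσ (hl0 y) (C.norm_of_ker y.2.2)] at h2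
    rw [← hzd] at h2 hzu hzv hzz' hzz
    have h3 := congrArg (fun y => f y z) h2
    simp only [E.uni.add_left, E.uni.smul_left, hzu, hzv, hzz', hzz,
      (eq_zero_comm E.uni).1 hzz', (eq_zero_comm E.uni).1 hzu, (eq_zero_comm E.uni).1 hzv, mul_zero, add_zero]
      at h3
    have hc : 2 * f w1 w1 ≠ 0 := mul_ne_zero E.two h11
    rw [div_mul_cancel₀ _ hc, div_mul_cancel₀ _ hc] at h3
    refine Prod.ext (Units.ext (Subtype.ext ?_)) (Subtype.ext (Units.ext ?_))
    · exact smul_left_injective F hu0 h1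
    · exact mul_right_cancel₀ hc (by linear_combination h3)
  have hτMu : ∀ x, τ x ∈ Mu := fun x => by
    have hl0 : ((x.1 : F₀) : F) ≠ 0 := fun h0 => x.1.ne_zero (Subtype.ext h0)
    exact (hMu _).2 ⟨_, hl0, hTu _ _ hl0 (C.norm_of_ker x.2.2)⟩
  have hq2 : 1 ≤ q ^ 2 := Nat.one_le_pow _ _ (by have := C.five; omega)
  have hcardK : Nat.card τ.range = q ^ 2 - 1 := by
    rw [← Nat.card_congr (MonoidHom.ofInjective hτinj).toEquiv, Nat.card_prod, Nat.card_units, C.card₀,
      C.card_norm_one, mul_comm, ← Nat.sq_sub_sq, one_pow]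
  have hdvd : q ^ 2 * (q ^ 2 - 1) ∣ Nat.card Mu := by
    refine Nat.Coprime.mul_dvd_of_dvd_of_dvd ?_ (hcardQ ▸ Subgroup.card_dvd_of_le hQMu)
      (hcardK ▸ Subgroup.card_dvd_of_le (by rintro _ ⟨x, rfl⟩; exact hτMu x))
    exact (Nat.coprime_self_sub_right hq2).2 (Nat.coprime_one_right _)
  obtain ⟨k, hkd⟩ : ∃ k, k = Hs.index := ⟨_, rfl⟩
  rw [← hkd] at hD
  have hk : ∃ i, k = i * q ^ 2 + 1 := by
    rw [hj, hD] at hX
    have hkj : k ≤ j + 1 := by nlinarith
    refine ⟨j - k, ?_⟩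
    zify at hX ⊢
    rcases eq_or_lt_of_le hkj with rfl | hlt
    · exfalso
      have := C.five
      push_cast at hX
      nlinarith
    · rw [Nat.cast_sub (Nat.lt_succ_iff.1 hlt)]
      linear_combination -hX
  have hkb : k ≤ q ^ 3 + 1 := Nat.le_of_mul_le_mul_left (hD ▸ hbound) (by positivity)
  have hdiv : k * ((q ^ 2 + 1) * (q ^ 2 * (q ^ 2 - 1))) ∣ q ^ 6 * ((q ^ 2 - 1) * ((q ^ 3 + 1) * (q ^ 4 - 1))) := by
    refine dvd_trans ?_ hM
    obtain ⟨c, hc⟩ := hdvd
    rw [← Subgroup.index_mul_card Mu, hD, hc]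
    exact Dvd.intro c (by ring)
  rcases index_cases C.five hk hkb hdiv with hk1 | hk1
  · have : (⟨g₀, hg₀⟩ : M) ∈ Hs := by
      rw [(Subgroup.index_eq_one (H := Hs)).1 (hkd.symm.trans hk1)]
      trivial
    exact this
  exfalso
  haveI : Finite T := inferInstance
  have hbij : Function.Bijective fun x => code (ln x) (hlniso x) :=
    (Nat.bijective_iff_injective_and_card _).2 ⟨hcode, by
      rw [hT, ← Subgroup.index_eq_card, hD, hk1]⟩
  obtain ⟨x, hx⟩ := hbij.2 (some (Sum.inr (0, ⟨t₀, rfl⟩)))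
  have hxu : f (ln x) u = 0 ∧ f (ln x) v = 0 := by
    simp only [code] at hx
    split_ifs at hx with hb ht1
    · exact ⟨hb, (div_eq_zero_iff.1 (Prod.mk.inj (Sum.inr.inj (Option.some.inj hx))).1).resolve_right ht1⟩
    · cases hx
  obtain ⟨g, hgd⟩ : ∃ g, g = ((x.out : M) : GL ι F) := ⟨_, rfl⟩
  have hgM : g ∈ M := hgd ▸ x.out.2
  have hgu : (g : Matrix ι ι F) *ᵥ u = ln x := by rw [hgd, hln]
  obtain ⟨l, hl, hl0, hl1⟩ := E.five
  obtain ⟨d1, -, d1v⟩ := E.rf_swap h (one_mem F₀) one_ne_zero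
  obtain ⟨d2, d2u, -⟩ := E.rf_swap h hl hl0
  obtain ⟨T0, hT0⟩ : ∃ T0, T0 = rf f (u - (1 : F) • v) * rf f (u - l • v) := ⟨_, rfl⟩
  have hT0M : T0 ∈ M := hT0 ▸ E.rf2_mem O (R₀.sub_mem h.hu (smul_mem_rat (one_mem F₀) h.hv))
    (R₀.sub_mem h.hu (smul_mem_rat hl h.hv)) d1 d2
  have hT0u : (T0 : Matrix ι ι F) *ᵥ u = l • u := by
    rw [hT0, mul_mulVec, d2u, mulVec_smul, d1v, inv_one, one_smul]
  have hT0x : (T0 : Matrix ι ι F) *ᵥ ln x = ln x := by
    have hp : ∀ s : F, f (ln x) (u - s • v) = 0 := fun s => by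
      rw [sub_right' E.uni, smul_right' E.uni, hxu.1, hxu.2, mul_zero, sub_zero]
    rw [hT0, mul_mulVec, E.rf_fix d2 (hp l), E.rf_fix d1 (hp 1)]
  obtain ⟨k', hk'⟩ : ∃ k', k' = g⁻¹ * T0 * g := ⟨_, rfl⟩
  have hk'M : k' ∈ M := hk' ▸ M.mul_mem (M.mul_mem (M.inv_mem hgM) hT0M) hgM
  have hk'u : (k' : Matrix ι ι F) *ᵥ u = u := by
    rw [hk', mul_mulVec, mul_mulVec, hgu, hT0x, ← hgu, inv_mulVec_cancel]
  have hk'p := E.pres_of_stab O N h hk'M (l := 1) (by rw [hk'u, one_smul])
  have hk'r : ∀ r ∈ R₀, (k' : Matrix ι ι F) *ᵥ r ∈ R₀ := fun r hr =>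
    E.exact_of_pres hk'p h.hu hu0 (by rw [hk'u]; exact h.hu) hr
  obtain ⟨y, hy⟩ : ∃ y, y = ((g⁻¹ : GL ι F) : Matrix ι ι F) *ᵥ u := ⟨_, rfl⟩
  have hk'y : (k' : Matrix ι ι F) *ᵥ y = l • y := by
    rw [hk', hy, mul_mulVec, mul_mulVec, mulVec_inv_cancel, hT0u, mulVec_smul]
  obtain ⟨a, b, ha, hb, hab⟩ := E.decomp y
  have hpart : (k' : Matrix ι ι F) *ᵥ a = l • a ∧ (k' : Matrix ι ι F) *ᵥ b = l • b :=
    E.parts_unique (hk'r a ha) (hk'r b hb) (smul_mem_rat hl ha) (smul_mem_rat hl hb) (by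
      rw [← mulVec_smul, ← mulVec_add, ← hab, hk'y, hab]; module)
  have hzero : ∀ r ∈ R₀, (k' : Matrix ι ι F) *ᵥ r = l • r → r = 0 := by
    intro r hr hkr
    have hi := O.iso k' hk'M
    have h1 := hi r u
    rw [hkr, hk'u, E.uni.smul_left] at h1
    have hl1' : l ≠ 1 := fun e1 => hl1 (by rw [e1, one_mul])
    have hru : f r u = 0 := (mul_eq_zero.1 (show (l - 1) * f r u = 0 by linear_combination h1)).resolve_left
      (sub_ne_zero.2 hl1')
    have h2 := hi r r
    rw [hkr, E.uni.smul_left, smul_right' E.uni, hfix hl] at h2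
    have hrr : f r r = 0 := (mul_eq_zero.1 (show (l * l - 1) * f r r = 0 by linear_combination h2)).resolve_left
      (sub_ne_zero.2 hl1)
    have h3 := hW (r - f r v • u) (R₀.sub_mem hr (smul_mem_rat (E.rat r hr v h.hv) h.hu))
      (by rw [sub_left' E.uni, E.uni.smul_left, hru, h.uu, mul_zero, sub_zero])
      (by rw [sub_left' E.uni, E.uni.smul_left, h.uv, mul_one, sub_self]) (by
        rw [sub_left' E.uni, sub_right' E.uni, sub_right' E.uni, E.uni.smul_left, E.uni.smul_left,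
          smul_right' E.uni, smul_right' E.uni, hrr, hru, (eq_zero_comm E.uni).1 hru, h.uu]
        ring)
    have h4 : r = f r v • u := sub_eq_zero.1 h3
    have h5 := hkr
    rw [h4, mulVec_smul, hk'u, smul_smul] at h5
    have h6 : f r v = l * f r v := smul_left_injective F hu0 h5
    rw [h4, (mul_eq_zero.1 (show (l - 1) * f r v = 0 by linear_combination -h6)).resolve_left (sub_ne_zero.2 hl1'),
      zero_smul]
  refine mulVec_ne_zero g⁻¹ hu0 ?_
  rw [← hy, hab, hzero a ha hpart.1, hzero b hb hpart.2, smul_zero, add_zero]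

end Setting

end CfsgLib.SUFour.SubOrth
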