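/-
Overgroups of a real orthogonal group without real transvections are real.
-/
import Cfsg.Agent.Lib.SUFour.SubOrthMinus
import Cfsg.Agent.Lib.SUFour.SubOrthCone

set_option autoImplicit false

namespace CfsgLib.SUFour.SubOrth

open Matrix CfsgLib.Transvec CfsgLib.Transvec.Unitary
open scoped MatrixGroups

variable {ι : Type} [Fintype ι] [DecidableEq ι] {F : Type*} [Field F] [Finite F]
variable {σ : F ≃+* F} {f : (ι → F) → (ι → F) → F} {F₀ : Subfield F} {R₀ : Submodule F₀ (ι → F)} {im : F}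

namespace Setting

variable (E : Setting σ f F₀ R₀ im)
include E

omit [Finite F] in
/-- A nondegenerate pair of parts has an orthogonal basis. -/
theorem exists_orth {a b : ι → F} (ha : a ∈ R₀) (hb : b ∈ R₀) (hz : f (a + im • b) (a + im • b) = 0)
    (hnd : ¬ (f b b = 0 ∧ f a b = 0)) :
    ∃ p1 ∈ R₀, ∃ p2 ∈ R₀, f p1 p2 = 0 ∧ f p1 p1 ≠ 0 ∧ f p2 p2 ≠ 0 ∧
      (∃ c1 c2 : F, a + im • b = c1 • p1 + c2 • p2) ∧ ∃ s1 s2 : F, p1 = s1 • a + s2 • b := by
  have hba := E.sym hb ha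
  have himσ := E.im_skew
  have h1 : f a a = im * im * f b b := by
    simp only [E.uni.add_left, add_right' E.uni, E.uni.smul_left, smul_right' E.uni, himσ, hba] at hz
    linear_combination hz
  have := E.two
  by_cases hbb : f b b = 0
  · have hab : f a b ≠ 0 := fun h0 => hnd ⟨hbb, h0⟩
    rw [hbb, mul_zero] at h1
    refine ⟨a + b, R₀.add_mem ha hb, a - b, R₀.sub_mem ha hb, ?_, ?_, ?_,
      ⟨(1 + im) / 2, (1 - im) / 2, ?_⟩, 1, 1, by rw [one_smul, one_smul]⟩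
    · simp only [E.uni.add_left, sub_right' E.uni, h1, hbb, hba]
      ring
    · simp only [E.uni.add_left, add_right' E.uni, h1, hbb, hba, zero_add, add_zero]
      rw [← two_mul]
      exact mul_ne_zero E.two hab
    · simp only [sub_left' E.uni, sub_right' E.uni, h1, hbb, hba, zero_sub, sub_zero]
      rw [show -f a b - f a b = -(2 * f a b) by ring]
      exact neg_ne_zero.2 (mul_ne_zero E.two hab)
    · match_scalars <;> field_simp <;> ring
  · obtain ⟨c, hc⟩ : ∃ c, c = f a b / f b b := ⟨_, rfl⟩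
    have hcF : c ∈ F₀ := hc ▸ div_mem (E.rat a ha b hb) (E.rat b hb b hb)
    have hcb : c * f b b = f a b := by rw [hc, div_mul_cancel₀ _ hbb]
    refine ⟨b, hb, a - c • b, R₀.sub_mem ha (smul_mem_rat hcF hb), ?_, hbb, ?_,
      ⟨im + c, 1, by module⟩, 0, 1, by rw [zero_smul, zero_add, one_smul]⟩
    · rw [sub_right' E.uni, smul_right' E.uni, (E.fix c).2 hcF, hba, hcb, sub_self]
    · intro h0
      simp only [sub_left' E.uni, sub_right' E.uni, E.uni.smul_left, smul_right' E.uni, (E.fix c).2 hcF, hba, hcb,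
        h1] at h0
      refine E.im_notMem ?_
      have h2 : im * im = c * c := mul_right_cancel₀ hbb (by linear_combination h0 - c * hcb)
      rcases mul_self_eq_mul_self_iff.1 h2 with h3 | h3
      · exact h3 ▸ hcF
      · exact h3 ▸ neg_mem hcF

variable {M : Subgroup (GL ι F)} (O : Over f R₀ M)
include O

/-- Without real transvections, every element preserves the real structure up to a scalar. -/
theorem pres (N : NoT f R₀ M) {q : ℕ} (C : Cards σ F₀ q)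
    (hM : Nat.card M ∣ q ^ 6 * ((q ^ 2 - 1) * ((q ^ 3 + 1) * (q ^ 4 - 1))))
    {g : GL ι F} (hg : g ∈ M) : Pres R₀ g := by
  by_contra hp
  have hi := O.iso g hg
  obtain ⟨y, hy, hy0, hyy, a, ha, b, hb, hgy, hnd⟩ := E.exists_nondeg hi hp
  obtain ⟨p1, hp1, p2, hp2, h12, h11, h22, ⟨c1, c2, hc⟩, s1, s2, hp1ab⟩ :=
    E.exists_orth ha hb (by rw [← hgy, hi]; exact hyy) hnd
  have h21 : f p2 p1 = 0 := (eq_zero_comm E.uni).1 h12
  rw [hc] at hgy
  -- the conjugated involution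
  obtain ⟨i0, hi0⟩ : ∃ i0, i0 = rf f p1 * rf f p2 := ⟨_, rfl⟩
  have hi0M : i0 ∈ M := hi0 ▸ E.rf2_mem O hp1 hp2 h11 h22
  have hi0x : ∀ x, (i0 : Matrix ι ι F) *ᵥ x = x + (-2 / f p1 p1 * f x p1) • p1 + (-2 / f p2 p2 * f x p2) • p2 := by
    intro x
    rw [hi0, mul_mulVec, E.rf_mulVec h22, E.rf_mulVec h11, E.uni.add_left, E.uni.smul_left, h21, mul_zero,
      add_zero]
    abel
  obtain ⟨t1, ht1⟩ : ∃ t1, t1 = g⁻¹ * i0 * g := ⟨_, rfl⟩
  have ht1M : t1 ∈ M := ht1 ▸ M.mul_mem (M.mul_mem (M.inv_mem hg) hi0M) hg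
  have ht1g : ∀ x, (g : Matrix ι ι F) *ᵥ ((t1 : Matrix ι ι F) *ᵥ x) =
      (i0 : Matrix ι ι F) *ᵥ ((g : Matrix ι ι F) *ᵥ x) := fun x => by
    rw [ht1, mul_mulVec, mul_mulVec, mulVec_inv_cancel]
  have := E.two
  have ht1y : (t1 : Matrix ι ι F) *ᵥ y = -y := by
    refine mulVec_injective g ?_
    show (g : Matrix ι ι F) *ᵥ _ = (g : Matrix ι ι F) *ᵥ _
    rw [ht1g, mulVec_neg, hgy, hi0x]
    simp only [E.uni.add_left, E.uni.smul_left, h12, h21]
    match_scalars <;> field_simp <;> ring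
  obtain ⟨v0, h0⟩ := E.exists_hyp hy hy0 hyy
  have ht1p := E.pres_of_stab O N h0 ht1M (l := -1) (by rw [ht1y, neg_one_smul])
  have ht1r : ∀ r ∈ R₀, (t1 : Matrix ι ι F) *ᵥ r ∈ R₀ := fun r hr =>
    E.exact_of_pres ht1p hy hy0 (by rw [ht1y]; exact R₀.neg_mem hy) hr
  -- an opposite point in the fixed plane
  obtain ⟨x0, hx0⟩ : ∃ x0, x0 = v0 - (t1 : Matrix ι ι F) *ᵥ v0 := ⟨_, rfl⟩
  have hx0R : x0 ∈ R₀ := hx0 ▸ R₀.sub_mem h0.hv (ht1r _ h0.hv)
  have hx0y : f x0 y = 2 := by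
    have h1 := O.iso t1 ht1M v0 y
    rw [ht1y, ← neg_one_smul F y, smul_right' E.uni, map_neg, map_one, h0.vu] at h1
    rw [hx0, sub_left' E.uni, h0.vu]
    linear_combination h1
  have hii : ∀ x, (t1 : Matrix ι ι F) *ᵥ ((t1 : Matrix ι ι F) *ᵥ x) = x := fun x => by
    refine mulVec_injective g ?_
    show (g : Matrix ι ι F) *ᵥ _ = (g : Matrix ι ι F) *ᵥ _
    rw [ht1g, ht1g, hi0x, hi0x]
    simp only [E.uni.add_left, E.uni.smul_left, h12, h21]
    match_scalars <;> field_simp <;> ring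
  obtain ⟨s, hs⟩ : ∃ s, s = -(f x0 x0) / 8 := ⟨_, rfl⟩
  have hsF : s ∈ F₀ := hs ▸ div_mem (neg_mem (E.rat _ hx0R _ hx0R)) (ofNat_mem F₀ 8)
  obtain ⟨v1, hv1⟩ : ∃ v1, v1 = (2 : F)⁻¹ • x0 + s • y := ⟨_, rfl⟩
  have hσ2 : σ (2 : F)⁻¹ = (2 : F)⁻¹ := by rw [map_inv₀, map_ofNat]
  have h8 : (8 : F) ≠ 0 := by
    rw [show (8 : F) = 2 * 2 * 2 by norm_num]
    exact mul_ne_zero (mul_ne_zero E.two E.two) E.two
  have hyx0 : f y x0 = 2 := by rw [E.sym hy hx0R, hx0y]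
  have h : Hyp f R₀ y v1 := by
    refine ⟨hy, hv1 ▸ R₀.add_mem (smul_mem_rat (inv_mem (ofNat_mem F₀ 2)) hx0R) (smul_mem_rat hsF hy), hyy,
      ?_, ?_, ?_⟩
    · simp only [hv1, E.uni.add_left, add_right' E.uni, E.uni.smul_left, smul_right' E.uni, hσ2, (E.fix s).2 hsF,
        hx0y, hyx0, hyy]
      rw [hs]
      field_simp
      ring
    · rw [hv1, E.uni.add_left, E.uni.smul_left, E.uni.smul_left, hx0y, hyy, mul_zero, add_zero,
        inv_mul_cancel₀ E.two]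
    · rw [hv1, add_right' E.uni, smul_right' E.uni, smul_right' E.uni, hσ2, hyx0, hyy, mul_zero, add_zero,
        inv_mul_cancel₀ E.two]
  have ht1v : (t1 : Matrix ι ι F) *ᵥ v1 = -v1 := by
    rw [hv1, mulVec_add, mulVec_smul, mulVec_smul, ht1y, hx0, mulVec_sub, hii]
    module
  obtain ⟨d1, d2, hgv⟩ : ∃ d1 d2 : F, (g : Matrix ι ι F) *ᵥ v1 = d1 • p1 + d2 • p2 := by
    refine ⟨f ((g : Matrix ι ι F) *ᵥ v1) p1 / f p1 p1, f ((g : Matrix ι ι F) *ᵥ v1) p2 / f p2 p2, ?_⟩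
    have h1 := ht1g v1
    rw [ht1v, mulVec_neg, hi0x] at h1
    obtain ⟨z, hz⟩ : ∃ z, z = (g : Matrix ι ι F) *ᵥ v1 := ⟨_, rfl⟩
    rw [← hz] at h1 ⊢
    refine smul_right_injective _ E.two ?_
    show (2 : F) • z = (2 : F) • _
    rw [two_smul F z]
    conv_lhs => enter [2]; rw [← neg_neg z, h1]
    match_scalars <;> field_simp <;> ring
  have hD : c1 * d2 - c2 * d1 ≠ 0 := fun hD0 => by
    have e1 : f ((g : Matrix ι ι F) *ᵥ v1) ((g : Matrix ι ι F) *ᵥ y) = 1 := by rw [hi, h.vu]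
    have e2 : f ((g : Matrix ι ι F) *ᵥ y) ((g : Matrix ι ι F) *ᵥ y) = 0 := by rw [hi, hyy]
    have k1 : c1 • ((g : Matrix ι ι F) *ᵥ v1) - d1 • ((g : Matrix ι ι F) *ᵥ y) = 0 := by
      rw [hgy, hgv]
      match_scalars
      · ring
      · linear_combination hD0
    have k2 : c2 • ((g : Matrix ι ι F) *ᵥ v1) - d2 • ((g : Matrix ι ι F) *ᵥ y) = 0 := by
      rw [hgy, hgv]
      match_scalars
      · linear_combination -hD0
      · ring
    have k1' := congrArg (fun x => f x ((g : Matrix ι ι F) *ᵥ y)) k1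
    have k2' := congrArg (fun x => f x ((g : Matrix ι ι F) *ᵥ y)) k2
    simp only [sub_left' E.uni, E.uni.smul_left, e1, e2, zero_left' E.uni, mul_one, mul_zero, sub_zero] at k1' k2'
    exact mulVec_ne_zero g hy0 (by rw [hgy, k1', k2', zero_smul, zero_smul, add_zero])
  -- a rotation of the plane
  obtain ⟨t, htF, ht0, hdd⟩ : ∃ t ∈ F₀, t ≠ 0 ∧ f (p1 + t • p2) (p1 + t • p2) ≠ 0 := by
    have hval : ∀ t ∈ F₀, f (p1 + t • p2) (p1 + t • p2) = f p1 p1 + t * t * f p2 p2 := fun t ht => by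
      simp only [E.uni.add_left, add_right' E.uni, E.uni.smul_left, smul_right' E.uni, h12, h21, (E.fix t).2 ht]
      ring
    obtain ⟨l, hl, hl0, hl1⟩ := E.five
    by_cases h1 : f (p1 + (1 : F) • p2) (p1 + (1 : F) • p2) = 0
    · refine ⟨l, hl, hl0, fun h2 => hl1 ?_⟩
      rw [hval 1 (one_mem F₀)] at h1
      rw [hval l hl] at h2
      exact mul_right_cancel₀ h22 (by linear_combination h2 - h1)
    · exact ⟨1, one_mem F₀, one_ne_zero, h1⟩
  obtain ⟨d, hd⟩ : ∃ d, d = p1 + t • p2 := ⟨_, rfl⟩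
  have hdR : d ∈ R₀ := hd ▸ R₀.add_mem hp1 (smul_mem_rat htF hp2)
  rw [← hd] at hdd
  obtain ⟨ρ, hρ⟩ : ∃ ρ, ρ = rf f p1 * rf f d := ⟨_, rfl⟩
  have hρM : ρ ∈ M := hρ ▸ E.rf2_mem O hp1 hdR h11 hdd
  have hρfix : ∀ x, f x p1 = 0 → f x p2 = 0 → (ρ : Matrix ι ι F) *ᵥ x = x := fun x hx1 hx2 => by
    rw [hρ, mul_mulVec, E.rf_fix hdd (by rw [hd, add_right' E.uni, smul_right' E.uni, hx1, hx2, mul_zero,
      add_zero]), E.rf_fix h11 hx1]
  obtain ⟨k, hk⟩ : ∃ k, k = g⁻¹ * ρ * g := ⟨_, rfl⟩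
  have hkM : k ∈ M := hk ▸ M.mul_mem (M.mul_mem (M.inv_mem hg) hρM) hg
  have hki := O.iso k hkM
  have hkz : ∀ z, f z y = 0 → f z v1 = 0 → (k : Matrix ι ι F) *ᵥ z = z := by
    intro z hzy hzv
    have e1 := hi z y
    have e2 := hi z v1
    rw [hgy, hzy, add_right' E.uni, smul_right' E.uni, smul_right' E.uni] at e1
    rw [hgv, hzv, add_right' E.uni, smul_right' E.uni, smul_right' E.uni] at e2
    have hσD : σ c1 * σ d2 - σ c2 * σ d1 ≠ 0 := by
      rw [← map_mul, ← map_mul, ← map_sub]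
      exact (map_ne_zero_iff _ σ.injective).2 hD
    have x1 : f ((g : Matrix ι ι F) *ᵥ z) p1 = 0 :=
      (mul_eq_zero.1 (show (σ c1 * σ d2 - σ c2 * σ d1) * f ((g : Matrix ι ι F) *ᵥ z) p1 = 0 by
        linear_combination σ d2 * e1 - σ c2 * e2)).resolve_left hσD
    have x2 : f ((g : Matrix ι ι F) *ᵥ z) p2 = 0 :=
      (mul_eq_zero.1 (show (σ c1 * σ d2 - σ c2 * σ d1) * f ((g : Matrix ι ι F) *ᵥ z) p2 = 0 by
        linear_combination σ c1 * e2 - σ d1 * e1)).resolve_left hσD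
    rw [hk, mul_mulVec, mul_mulVec, hρfix _ x1 x2, inv_mulVec_cancel]
  -- the orthogonal of the new pair is isotropic
  obtain ⟨w, hw, hwy, hwv, hww, hw0⟩ : ∃ w ∈ R₀, f w y = 0 ∧ f w v1 = 0 ∧ f w w = 0 ∧ w ≠ 0 := by
    by_contra hcon
    simp only [not_exists, not_and, not_not] at hcon
    exact hp (E.pres_of_aniso O N C hM h hcon hg)
  obtain ⟨v', h'⟩ := E.exists_hyp hw hw0 hww
  have hkp := E.pres_of_stab O N h' hkM (l := 1) (by rw [hkz w hwy hwv, one_smul])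
  have hkr : ∀ r ∈ R₀, (k : Matrix ι ι F) *ᵥ r ∈ R₀ := fun r hr =>
    E.exact_of_pres hkp hw hw0 (by rw [hkz w hwy hwv]; exact hw) hr
  have hexp : ∀ x ∈ R₀, (∀ w' ∈ R₀, f w' y = 0 → f w' v1 = 0 → f x w' = 0) → x = f x v1 • y + f x y • v1 := by
    intro x hx hperp
    obtain ⟨hu, hv⟩ := E.split h x
    have h1 := E.eq_zero_of_perp_pair h hu hv fun w' hw' hw'y hw'v => by
      rw [sub_left' E.uni, sub_left' E.uni, E.uni.smul_left, E.uni.smul_left, hperp w' hw' hw'y hw'v,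
        (eq_zero_comm E.uni).1 hw'y, (eq_zero_comm E.uni).1 hw'v, mul_zero, mul_zero, sub_zero, sub_zero]
    rw [sub_sub, sub_eq_zero] at h1
    exact h1
  have hkimg : ∀ x ∈ R₀, (∀ w' ∈ R₀, f w' y = 0 → f w' v1 = 0 → f x w' = 0) →
      (k : Matrix ι ι F) *ᵥ x = f ((k : Matrix ι ι F) *ᵥ x) v1 • y + f ((k : Matrix ι ι F) *ᵥ x) y • v1 :=
    fun x hx hperp => hexp _ (hkr x hx) fun w' hw' hw'y hw'v => by
      have h1 := hki x w'
      rwa [hkz w' hw'y hw'v, hperp w' hw' hw'y hw'v] at h1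
  have hky := hkimg y hy fun w' _ hw'y _ => (eq_zero_comm E.uni).1 hw'y
  have hkv := hkimg v1 h.hv fun w' _ _ hw'v => (eq_zero_comm E.uni).1 hw'v
  obtain ⟨A, hA⟩ : ∃ A, A = f ((k : Matrix ι ι F) *ᵥ y) v1 := ⟨_, rfl⟩
  obtain ⟨B, hB⟩ : ∃ B, B = f ((k : Matrix ι ι F) *ᵥ y) y := ⟨_, rfl⟩
  obtain ⟨A', hA'⟩ : ∃ A', A' = f ((k : Matrix ι ι F) *ᵥ v1) v1 := ⟨_, rfl⟩
  obtain ⟨B', hB'⟩ : ∃ B', B' = f ((k : Matrix ι ι F) *ᵥ v1) y := ⟨_, rfl⟩
  have hAF : A ∈ F₀ := hA ▸ E.rat _ (hkr y hy) _ h.hv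
  have hBF : B ∈ F₀ := hB ▸ E.rat _ (hkr y hy) _ hy
  rw [← hA, ← hB] at hky
  rw [← hA', ← hB'] at hkv
  have hAB : A * B = 0 := by
    have h1 := hki y y
    rw [hky, hyy] at h1
    simp only [E.uni.add_left, add_right' E.uni, E.uni.smul_left, smul_right' E.uni, hyy, h.vv, h.uv, h.vu,
      (E.fix A).2 hAF, (E.fix B).2 hBF] at h1
    exact (mul_eq_zero.1 (show (2 : F) * (A * B) = 0 by linear_combination h1)).resolve_left E.two
  by_cases hB0 : B = 0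
  · -- the point is fixed
    have hfix : (ρ : Matrix ι ι F) *ᵥ (a + im • b) = A • (a + im • b) := by
      have h1 : (g : Matrix ι ι F) *ᵥ ((k : Matrix ι ι F) *ᵥ y) = A • ((g : Matrix ι ι F) *ᵥ y) := by
        rw [hky, hB0, zero_smul, add_zero, mulVec_smul]
      rw [hk, mul_mulVec, mul_mulVec, mulVec_inv_cancel, hgy, ← hc] at h1
      exact h1
    have hρr : ∀ r ∈ R₀, (ρ : Matrix ι ι F) *ᵥ r ∈ R₀ := fun r hr => by
      rw [hρ, mul_mulVec]
      exact E.rf_rat h11 hp1 (E.rf_rat hdd hdR hr)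
    obtain ⟨e1, e2⟩ := E.parts_unique (hρr a ha) (hρr b hb) (smul_mem_rat hAF ha) (smul_mem_rat hAF hb) (by
      rw [← mulVec_smul, ← mulVec_add, hfix]; module)
    have e3 : (ρ : Matrix ι ι F) *ᵥ p1 = A • p1 := by
      rw [hp1ab, mulVec_add, mulVec_smul, mulVec_smul, e1, e2]; module
    have e4 := congrArg (fun x => f x p2) e3
    rw [hρ, mul_mulVec, E.rf_mulVec hdd, E.rf_mulVec h11] at e4
    simp only [E.uni.add_left, E.uni.smul_left, hd,
      add_right' E.uni, smul_right' E.uni, h12, (E.fix t).2 htF, mul_zero, add_zero, zero_add] at e4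
    have hne : (-2 : F) / f (p1 + t • p2) (p1 + t • p2) * f p1 p1 * (t * f p2 p2) ≠ 0 :=
      mul_ne_zero (mul_ne_zero (div_ne_zero (neg_ne_zero.2 E.two) (hd ▸ hdd)) h11) (mul_ne_zero ht0 h22)
    refine hne ?_
    simp only [E.uni.add_left, E.uni.smul_left, add_right' E.uni, smul_right' E.uni, h12, h21, (E.fix t).2 htF,
      mul_zero, add_zero, zero_add] at e4 ⊢
    linear_combination e4
  -- the pair is exchanged
  have hA0 : A = 0 := (mul_eq_zero.1 hAB).resolve_right hB0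
  rw [hA0, zero_smul, zero_add] at hky
  have hσB : σ B = B := (E.fix B).2 hBF
  have hA'B : A' = B⁻¹ := by
    have h1 := hki v1 y
    rw [hkv, hky, h.vu] at h1
    simp only [E.uni.add_left, smul_right' E.uni, E.uni.smul_left, h.uv, h.vv, hσB] at h1
    exact eq_inv_of_mul_eq_one_left (by linear_combination h1)
  have hB'0 : B' = 0 := by
    have hA'F : A' ∈ F₀ := hA' ▸ E.rat _ (hkr v1 h.hv) _ h.hv
    have hB'F : B' ∈ F₀ := hB' ▸ E.rat _ (hkr v1 h.hv) _ hy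
    have h1 := hki v1 v1
    rw [hkv, h.vv] at h1
    simp only [E.uni.add_left, add_right' E.uni, E.uni.smul_left, smul_right' E.uni, hyy, h.vv, h.uv, h.vu,
      (E.fix A').2 hA'F, (E.fix B').2 hB'F] at h1
    have h2 : (2 * A') * B' = 0 := by linear_combination h1
    exact (mul_eq_zero.1 h2).resolve_left (mul_ne_zero E.two (hA'B ▸ inv_ne_zero hB0))
  rw [hA'B, hB'0, zero_smul, add_zero] at hkv
  obtain ⟨hne, hru, hrv⟩ := E.rf_swap h hBF hB0
  have hkrf : k = rf f (y - B • v1) := gl_ext fun x => by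
    obtain ⟨z, hz⟩ : ∃ z, z = x - f x v1 • y - f x y • v1 := ⟨_, rfl⟩
    obtain ⟨hzu, hzv⟩ : f z y = 0 ∧ f z v1 = 0 := hz ▸ E.split h x
    have ex : x = f x v1 • y + f x y • v1 + z := by rw [hz]; abel
    have hrz : (rf f (y - B • v1) : Matrix ι ι F) *ᵥ z = z := E.rf_fix hne (by
      rw [sub_right' E.uni, smul_right' E.uni, hzu, hzv, mul_zero, sub_zero])
    rw [ex]
    simp only [mulVec_add, mulVec_smul, hky, hkv, hkz z hzu hzv, hru, hrv, hrz]
  have hdet := (mem_specialLinear_iff _).1 (O.det k hkM)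
  rw [hkrf, E.det_rf hne] at hdet
  exact E.two (by linear_combination -hdet)

end Setting

end CfsgLib.SUFour.SubOrth
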