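/-
The orthogonal subfield subgroups of `SU_4(q)` are maximal.
-/
import Cfsg.Agent.Lib.SUFour.SubOrthMain
import Cfsg.Agent.Lib.SUFour.Basic
import Cfsg.Agent.Lib.Classical22.UnitSubfieldMatrix
import Cfsg.Agent.Lib.Classical.HermOrder

set_option autoImplicit false

namespace CfsgLib.SUFour.SubOrth

open Matrix Cfsg CfsgLib.Transvec CfsgLib.Transvec.Unitary
open CfsgLib.Classical22.UnitSubfield (ratSpace mem_ratSpace mem_subfield_of_preserve mem_of_pow_card)
open scoped MatrixGroups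

variable {F : Type*} [Field F] [Fintype F] {q : ℕ}

theorem card_gu_inf_sl (hF : Fintype.card F = q ^ 2) :
    Nat.card ↥(Cfsg.GU 4 F q ⊓ Cfsg.Geo.specialLinear (Fin 4) F) =
      q ^ 6 * ((q ^ 2 - 1) * ((q ^ 3 + 1) * (q ^ 4 - 1))) := by
  have e : Nat.card ↥(Cfsg.GU 4 F q ⊓ Cfsg.Geo.specialLinear (Fin 4) F) = Nat.card (Cfsg.SU 4 F q) :=
    Nat.card_congr
      { toFun := fun g => ⟨⟨((g : GL (Fin 4) F) : Matrix (Fin 4) (Fin 4) F), (mem_specialLinear_iff _).1 g.2.2⟩, g.2.1⟩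
        invFun := fun s => ⟨SpecialLinearGroup.toGL s.1, s.2, (mem_specialLinear_iff _).2 s.1.2⟩
        left_inv := fun g => Subtype.ext (Units.ext rfl)
        right_inv := fun s => Subtype.ext (Subtype.ext rfl) }
  have h := CfsgLib.Classical.card_su (F := F) (n := 4) hF (by norm_num)
  have h4 : CfsgLib.Classical.unitaryOrder q 4 =
      (q + 1) * (q ^ 6 * ((q ^ 2 - 1) * ((q ^ 3 + 1) * (q ^ 4 - 1)))) := by
    rw [CfsgLib.Classical.unitaryOrder]
    simp [Finset.prod_range_succ, Nat.even_iff]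
    ring
  rw [e]
  exact Nat.eq_of_mul_eq_mul_left (Nat.succ_pos q) (h.trans h4)

theorem isMaximalIn_subfield_two (hF : Fintype.card F = q ^ 2) (hodd : Odd q) (hq5 : 5 ≤ q)
    (F₀ : Subfield F) (hcard : Fintype.card F = Nat.card F₀ ^ 2) (P : GL (Fin 4) F)
    (hP : Cfsg.Geo.IsFormRationalStructure (Cfsg.hermForm 4 F q) F₀ 1 P) :
    Cfsg.Geo.IsMaximalIn (Cfsg.GU 4 F q ⊓ Cfsg.Geo.specialLinear (Fin 4) F)
      (Cfsg.Geo.subfieldSubgroup F₀ P ⊓ (Cfsg.GU 4 F q ⊓ Cfsg.Geo.specialLinear (Fin 4) F)) := by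
  obtain ⟨σ, hσ, hinv, hne⟩ := exists_frob hF
  have hf := isUnitaryForm_hermForm (n := 4) hσ hinv hne
  haveI : Fintype F₀ := Fintype.ofFinite _
  have hq : Nat.card F₀ = q := Nat.pow_left_injective two_ne_zero (hcard.symm.trans hF)
  have h2 : (2 : F) ≠ 0 := fun h => by
    haveI : CharP F 2 := CharTwo.of_one_ne_zero_of_two_eq_zero one_ne_zero h
    have := FiniteField.even_card_of_char_two (ringChar.eq F 2)
    rw [hF] at this
    exact Nat.not_even_iff_odd.2 (hodd.pow) (Nat.even_iff.2 this)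
  have hfix : ∀ a : F, σ a = a ↔ a ∈ F₀ := fun a => by
    refine ⟨fun h => mem_of_pow_card F₀ a (by rw [hq, ← hσ, h]), fun ha => ?_⟩
    rw [hσ, ← hq, Nat.card_eq_fintype_card]
    exact congrArg Subtype.val (FiniteField.pow_card (⟨a, ha⟩ : F₀))
  have hfive : ∃ l ∈ F₀, l ≠ 0 ∧ l * l ≠ 1 := by
    classical
    obtain ⟨l, hl⟩ : ∃ l : F₀, l ∉ ({0, 1, -1} : Finset F₀) := by
      by_contra hcon
      simp only [not_exists, not_not] at hcon
      have h1 := Finset.card_le_card (fun x (_ : x ∈ (Finset.univ : Finset F₀)) => hcon x)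
      rw [Finset.card_univ, ← Nat.card_eq_fintype_card, hq] at h1
      have := h1.trans Finset.card_le_three
      omega
    simp only [Finset.mem_insert, Finset.mem_singleton, not_or] at hl
    refine ⟨l, l.2, fun h => hl.1 (Subtype.ext h), fun h => ?_⟩
    rcases mul_self_eq_one_iff.1 h with h | h
    · exact hl.2.1 (Subtype.ext h)
    · exact hl.2.2 (Subtype.ext h)
  obtain ⟨im, him0, him⟩ := exists_skew hne hinv
  have hrat : ∀ a ∈ ratSpace F₀ P, ∀ b ∈ ratSpace F₀ P, Cfsg.hermForm 4 F q a b ∈ F₀ := by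
    intro a ha b hb
    obtain ⟨u, rfl⟩ := mem_ratSpace.1 ha
    obtain ⟨w, rfl⟩ := mem_ratSpace.1 hb
    have := hP (coeVec F₀ u) (coeVec F₀ w) (fun i => (u i).2) fun i => (w i).2
    rwa [one_mul] at this
  have hspan : ∀ v, v ∈ Submodule.span F (ratSpace F₀ P : Set (Fin 4 → F)) := fun v => by
    refine Submodule.span_mono ?_ (mem_span_rational (F₀ := F₀) (P := P) v)
    rintro _ ⟨u, rfl⟩
    exact ⟨u, rfl⟩
  have E : Setting σ (Cfsg.hermForm 4 F q) F₀ (ratSpace F₀ P) im :=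
    { uni := hf
      fix := hfix
      rat := hrat
      span := hspan
      dim := by
        rw [ratSpace, LinearMap.finrank_range_of_inj, Module.finrank_fin_fun]
        exact fun a b h => coeVec_injective (mulVec_injective P h)
      two := h2
      five := hfive
      im_ne := him0
      im_skew := by linear_combination him }
  have C : Cards σ F₀ q :=
    { card := by rw [Nat.card_eq_fintype_card, hF]
      card₀ := hq
      pow := hσ
      five := hq5
      odd := hodd }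
  refine ⟨lt_of_le_not_ge inf_le_right fun hle => ?_, fun M hHM hMK => ?_⟩
  · obtain ⟨x, hx, hx0, hxx⟩ := E.exists_iso
    obtain ⟨v, h⟩ := E.exists_hyp hx hx0 hxx
    have hk := uT_mem_SU hσ hinv hne hxx him
    obtain ⟨u, hu⟩ := mem_ratSpace.1 h.hv
    obtain ⟨l, w, hlr⟩ := lines_of_mem_subfieldSubgroup (hle hk).1 u
    rw [hu, uT_mulVec hf hxx, h.vu, mul_one] at hlr
    obtain ⟨r, hr⟩ : ∃ r, r = (P : Matrix (Fin 4) (Fin 4) F) *ᵥ coeVec F₀ w := ⟨_, rfl⟩
    rw [← hr] at hlr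
    have hrR : r ∈ ratSpace F₀ P := mem_ratSpace.2 ⟨w, hr.symm⟩
    have h1 := congrArg (fun z => Cfsg.hermForm 4 F q z x) hlr
    simp only [hf.add_left, hf.smul_left, h.vu, h.uu, mul_zero, add_zero] at h1
    have hl : l ∈ F₀ := by
      rw [eq_inv_of_mul_eq_one_left h1.symm]
      exact inv_mem (hrat r hrR x hx)
    have h3 := congrArg (fun z => Cfsg.hermForm 4 F q z v) hlr
    simp only [hf.add_left, hf.smul_left, h.vv, h.uv, mul_one, zero_add] at h3
    exact E.im_notMem (h3 ▸ mul_mem hl (hrat r hrR v h.hv))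
  have O : Over (Cfsg.hermForm 4 F q) (ratSpace F₀ P) M :=
    ⟨fun g hi hd ⟨l, hl⟩ => hHM ⟨mem_subfield_of_preserve g l hl, hi, hd⟩,
      fun g hg => (hMK hg).1, fun g hg => (hMK hg).2⟩
  by_cases hN : NoT (Cfsg.hermForm 4 F q) (ratSpace F₀ P) M
  · refine Or.inl (le_antisymm (le_inf (fun g hg => ?_) hMK) hHM)
    obtain ⟨l, hl⟩ := E.pres O hN C ((Subgroup.card_dvd_of_le hMK).trans (card_gu_inf_sl hF).dvd) hg
    exact mem_subfield_of_preserve g l hl
  · exact Or.inr (le_antisymm hMK (su_le_of_transv hF hσ hinv hne le_rfl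
      fun z hz c hc => E.transv_mem_of_transv O hN z hz c hc))

end CfsgLib.SUFour.SubOrth
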