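/-
The six coordinates of a unitary group of symplectic type: isometries act over the fixed field.
-/
import Cfsg.Agent.Lib.Classical22.SLFour.Wedge
import Cfsg.Agent.Lib.Transvec.UnitarySub
import Cfsg.Agent.Lib.Transvec.HermForm

set_option autoImplicit false

namespace CfsgLib.SUFour.SympTwist

open Matrix Cfsg CfsgLib.Classical CfsgLib.Classical.SmallIso CfsgLib.Classical22 CfsgLib.SLFour.SympType
open CfsgLib.Transvec CfsgLib.Transvec.Unitary
open scoped MatrixGroups

variable {F : Type*} [Field F]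

local notation "M4" => Matrix (Fin 4) (Fin 4) F
local notation "G4" => GL (Fin 4) F

variable {σ : F ≃+* F} {f : (Fin 4 → F) → (Fin 4 → F) → F}
variable {Γ : Fin 6 → GL (Fin 4) F} {J : Matrix (Fin 4) (Fin 4) F} {E : (Fin 6 → F) ≃ₗ[F] (Fin 6 → F)} {κ : F}

/-- A three-cycle which is an isometry. -/
theorem exists_cycle_iso (hf : Cfsg.Geo.IsUnitaryForm σ f) (G : Gam Γ J E κ)
    (hiso : ∀ a b, a ≠ b → Iso f (bv Γ a b)) {a b c : Fin 6} (hab : a ≠ b) (hbc : b ≠ c) (hac : a ≠ c) :
    ∃ w : G4, Iso f w ∧ img Γ J (w : M4) a = (Γ b : M4) * J ∧ img Γ J (w : M4) b = (Γ c : M4) * J ∧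
      img Γ J (w : M4) c = (Γ a : M4) * J ∧
      ∀ k, k ≠ a → k ≠ b → k ≠ c → img Γ J (w : M4) k = (Γ k : M4) * J := by
  have h2 := G.two
  have hu : ∀ {x y : Fin 6}, x ≠ y → IsUnit (1 + (bv Γ x y : M4)) := fun {x y} h => by
    refine IsUnit.of_mul_eq_one (b := (2 : F)⁻¹ • (1 - (bv Γ x y : M4))) ?_
    rw [mul_smul_comm]
    have e : (bv Γ x y : M4) * bv Γ x y = -1 := by
      rw [← Units.val_mul, G.bv_sq h, Units.val_neg, Units.val_one]
    rw [add_mul, one_mul, mul_sub, mul_one, e, show (1 : M4) - bv Γ x y + ((bv Γ x y : M4) - -1) = (2 : F) • 1 by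
      module, smul_smul, inv_mul_cancel₀ h2, one_smul]
  obtain ⟨T₁, hT₁⟩ := hu hab
  obtain ⟨T₂, hT₂⟩ := hu hbc
  obtain ⟨s, hs⟩ : ∃ s : G4, (s : M4) = (2 : F)⁻¹ • 1 := by
    have : IsUnit ((2 : F)⁻¹ • (1 : M4)) :=
      IsUnit.of_mul_eq_one (b := (2 : F) • 1) (by rw [smul_mul_smul_comm, inv_mul_cancel₀ h2, one_mul, one_smul])
    exact ⟨this.unit, rfl⟩
  have hsim : ∀ (c : F) l, (s : M4) * (c • ((Γ l : M4) * J)) * (s : M4)ᵀ = ((2 : F)⁻¹ * (2 : F)⁻¹ * c) • ((Γ l : M4) * J) :=
    fun c l => by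
    rw [hs, Matrix.transpose_smul, Matrix.transpose_one, smul_mul_assoc, one_mul, smul_mul_assoc, mul_smul_comm,
      mul_one, smul_smul, smul_smul, mul_assoc]
  refine ⟨s * (T₁ * (T₂ * bv Γ a b)), ?_, ?_⟩
  · intro u v
    have hsim : ∀ {x y : Fin 6}, x ≠ y → ∀ T : G4, (T : M4) = 1 + (bv Γ x y : M4) → ∀ u v : Fin 4 → F,
        f ((T : M4) *ᵥ u) ((T : M4) *ᵥ v) = 2 * f u v := by
      intro x y hxy T hT u v
      have e1 := hiso x y hxy u ((bv Γ x y : M4) *ᵥ v)
      rw [← mul_mulVec, G.bv_sq hxy, Units.val_neg, Units.val_one, Matrix.neg_mulVec, Matrix.one_mulVec,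
        ← neg_one_smul F v, smul_right' hf, map_neg, map_one] at e1
      rw [hT, Matrix.add_mulVec, Matrix.add_mulVec, Matrix.one_mulVec, Matrix.one_mulVec, hf.add_left,
        add_right' hf, add_right' hf, hiso x y hxy]
      linear_combination -e1
    simp only [mul_mulVec, hs, Matrix.smul_mulVec, Matrix.one_mulVec, hf.smul_left, smul_right' hf,
      hsim hab T₁ hT₁, hsim hbc T₂ hT₂, hiso a b hab u v, map_inv₀, map_ofNat]
    field_simp
  refine ⟨?_, ?_, ?_, fun k hka hkb hkc => ?_⟩ <;>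
    rw [Units.val_mul, Units.val_mul, Units.val_mul, img_mul, img_mul, img_mul, G.img_bv hab, hT₁, hT₂,
      mul_smul_mul, G.img_turn hbc]
  · rw [if_pos (Or.inl rfl), if_neg hab, if_neg hac, smul_smul, mul_smul_mul, G.img_turn hab, if_pos rfl,
      smul_smul, hsim]
    convert one_smul F _
    field_simp
  · rw [if_pos (Or.inr rfl), if_pos rfl, smul_smul, mul_smul_mul, G.img_turn hab, if_neg (Ne.symm hac),
      if_neg (Ne.symm hbc), smul_smul, hsim]
    convert one_smul F _
    field_simp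
  · rw [if_neg (by simp [Ne.symm hac, Ne.symm hbc]), if_neg (Ne.symm hbc), if_pos rfl, smul_smul, mul_smul_mul,
      G.img_turn hab, if_neg (Ne.symm hab), if_pos rfl, smul_smul, hsim]
    convert one_smul F _
    field_simp
  · rw [if_neg (by simp [hka, hkb]), if_neg hkb, if_neg hkc, smul_smul, mul_smul_mul, G.img_turn hab, if_neg hka,
      if_neg hkb, smul_smul, hsim]
    convert one_smul F _
    field_simp

/-- The semilinear map on alternating coordinates. -/
def twist (σ : F ≃+* F) (x : Fin 6 → F) : Fin 6 → F := fun i => σ (altDual x i)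

theorem twist_add (x y : Fin 6 → F) : twist σ (x + y) = twist σ x + twist σ y := by
  funext i; fin_cases i <;> simp [twist, altDual, add_comm]

theorem twist_smul (c : F) (x : Fin 6 → F) : twist σ (c • x) = σ c • twist σ x := by
  funext i; fin_cases i <;> simp [twist, altDual]

theorem altPf_twist (x : Fin 6 → F) : altPf (twist σ x) = σ (altPf x) := by
  simp [twist, altPf, altDual]
  ring

theorem twist_wedge (hinv : ∀ c, σ (σ c) = c) {A : M4} (hu : Aᵀ * A.map σ = 1) (hdet : A.det = 1)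
    (x : Fin 6 → F) : wedgeMat A (twist σ x) = twist σ (wedgeMat A x) := by
  have hmap : ∀ y : Fin 6 → F, (altMat y).map σ = altMat fun i => σ (y i) := fun y => by
    ext i j
    fin_cases i <;> fin_cases j <;> simp [altMat]
  have hu' : A.map σ * Aᵀ = 1 := mul_eq_one_comm.1 hu
  have hu'' : A * (A.map σ)ᵀ = 1 := by
    have := congrArg Matrix.transpose hu'
    rwa [Matrix.transpose_mul, Matrix.transpose_transpose, Matrix.transpose_one] at this
  have hσσ : (A.map σ).map σ = A := by ext i j; simp [hinv]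
  have key : altMat (twist σ (wedgeMat A x)) = altMat (wedgeMat A (twist σ x)) := by
    rw [show altMat (twist σ (wedgeMat A x)) = (altMat (altDual (wedgeMat A x))).map σ from (hmap _).symm]
    calc (altMat (altDual (wedgeMat A x))).map σ
        = ((A.map σ * Aᵀ) * altMat (altDual (wedgeMat A x)) * (A * (A.map σ)ᵀ)).map σ := by
          rw [hu', hu'', one_mul, mul_one]
      _ = (A.map σ * (Aᵀ * altMat (altDual (wedgeMat A x)) * A) * (A.map σ)ᵀ).map σ := by simp only [mul_assoc]
      _ = (A.map σ * altMat (altDual x) * (A.map σ)ᵀ).map σ := by rw [altDual_wedge, hdet, one_smul]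
      _ = A * altMat (twist σ x) * Aᵀ := by
          rw [Matrix.map_mul, Matrix.map_mul, hσσ, Matrix.transpose_map, hσσ, hmap]; rfl
      _ = _ := (altMat_wedge A _).symm
  have := congrArg altCoord key
  rwa [altCoord_altMat, altCoord_altMat, eq_comm] at this

variable [Fintype F]

/-- The unitary condition as a matrix identity. -/
theorem unitary_matrix {q : ℕ} (hσ : ∀ x, σ x = x ^ q) {g : G4} (hg : Iso (Cfsg.hermForm 4 F q) g) :
    (g : M4)ᵀ * (g : M4).map σ = 1 := by
  ext i j
  have h : Cfsg.hermForm 4 F q ((g : M4) *ᵥ Pi.single i 1) ((g : M4) *ᵥ Pi.single j 1) =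
      Cfsg.hermForm 4 F q (Pi.single i 1) (Pi.single j 1) := hg _ _
  rw [Matrix.mulVec_single_one, Matrix.mulVec_single_one] at h
  simp only [Cfsg.hermForm, ← hσ] at h
  rw [Matrix.mul_apply, Matrix.one_apply]
  refine Eq.trans (Eq.trans (Finset.sum_congr rfl fun k _ => ?_) h) ?_
  · simp [Matrix.col]
  · rw [Finset.sum_eq_single i] <;> simp +contextual [Pi.single_apply, apply_ite σ]

/-- The action of the special unitary group on the six coordinates is defined over the fixed field. -/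
theorem exists_descent {q : ℕ} (hσ : ∀ x, σ x = x ^ q) (hinv : ∀ x, σ (σ x) = x) (hne : σ ≠ RingEquiv.refl F)
    {F₀ : Subfield F} (hfix : ∀ a, σ a = a ↔ a ∈ F₀) (G : Gam Γ J E κ)
    (hiso : ∀ a b, a ≠ b → Iso (Cfsg.hermForm 4 F q) (bv Γ a b))
    (φ : Cfsg.Geo.specialLinear (Fin 4) F →* qAut (Frame.sq F 6))
    (hφ : ∀ g x, altMat (E ((φ g).1 x)) = ((g : G4) : M4) * altMat (E x) * ((g : G4) : M4)ᵀ) :
    ∃ ψ : ↥(Cfsg.GU 4 F q ⊓ Cfsg.Geo.specialLinear (Fin 4) F) →* qAut (Frame.sq F₀ 6), ∀ g x i,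
      ((ψ g).1 x i : F) = (φ (Subgroup.inclusion inf_le_right g)).1 (fun j => (x j : F)) i := by
  have hf := isUnitaryForm_hermForm (n := 4) hσ hinv hne
  have h2 := G.two
  obtain ⟨T, hT⟩ : ∃ T : (Fin 6 → F) → Fin 6 → F, ∀ x, T x = E.symm (twist σ (E x)) := ⟨_, fun _ => rfl⟩
  have hTadd : ∀ x y, T (x + y) = T x + T y := fun x y => by rw [hT, hT, hT, map_add, twist_add, map_add]
  have hTsmul : ∀ c x, T (c • x) = σ c • T x := fun c x => by rw [hT, hT, map_smul, twist_smul, map_smul]
  have hT0 : T 0 = 0 := by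
    have h := hTsmul 0 0
    rwa [map_zero, zero_smul, zero_smul] at h
  have hTpf : ∀ x, κ * (T x ⬝ᵥ T x) = σ κ * σ (x ⬝ᵥ x) := fun x => by
    rw [hT, ← G.pf, LinearEquiv.apply_symm_apply, altPf_twist, G.pf, map_mul]
  have hcomm : ∀ (g : Cfsg.Geo.specialLinear (Fin 4) F), Iso (Cfsg.hermForm 4 F q) (g : G4) → ∀ x,
      (φ g).1 (T x) = T ((φ g).1 x) := by
    intro g hg x
    have hE : ∀ y, E ((φ g).1 y) = wedgeMat ((g : G4) : M4) (E y) := fun y => by
      rw [← altCoord_altMat (E ((φ g).1 y)), hφ, wedgeMat]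
    have hdet : ((g : G4) : M4).det = 1 := (mem_specialLinear_iff _).1 g.2
    apply E.injective
    rw [hE, hT, hT, LinearEquiv.apply_symm_apply, LinearEquiv.apply_symm_apply, hE,
      twist_wedge hinv (unitary_matrix hσ hg) hdet]
  have hEinj : Function.Injective fun x => altMat (E x) := fun x y h => E.injective (by
    rw [← altCoord_altMat (E x), ← altCoord_altMat (E y)]; exact congrArg altCoord h)
  have hact : ∀ (g : Cfsg.Geo.specialLinear (Fin 4) F) k l (s : F),
      img Γ J ((g : G4) : M4) k = s • ((Γ l : M4) * J) → (φ g).1 (Frame.ax k) = s • Frame.ax l := by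
    intro g k l s h
    rw [← G.alt_smul, img, ← G.alt_ax, ← hφ] at h
    exact hEinj h
  -- the images of the axes
  have hdiag : ∀ a l, l ≠ a → T (Frame.ax a) l = 0 := by
    intro a l hla
    obtain ⟨b, hb⟩ : ∃ b : Fin 6, b ∉ ({a, l} : Finset (Fin 6)) := by
      obtain ⟨k, -, hk⟩ := Finset.exists_mem_notMem_of_card_lt_card (s := ({a, l} : Finset (Fin 6)))
        (t := Finset.univ) (lt_of_le_of_lt Finset.card_le_two (by simp))
      exact ⟨k, hk⟩
    simp only [Finset.mem_insert, Finset.mem_singleton, not_or] at hb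
    obtain ⟨hba, hbl⟩ := hb
    have hab := Ne.symm hba
    have hS : bv Γ a b ∈ Cfsg.Geo.specialLinear (Fin 4) F := by
      obtain ⟨k, hk⟩ : ∃ k : Fin 6, k ∉ ({a, b} : Finset (Fin 6)) := ⟨l, by simp [hla, Ne.symm hbl]⟩
      simp only [Finset.mem_insert, Finset.mem_singleton, not_or] at hk
      exact G.det_of_img (k := k) (l := k) (by rw [G.img_bv hab, if_neg (by simp [hk.1, hk.2]), one_smul])
    have him : ∀ i, (φ ⟨_, hS⟩).1 (Frame.ax i) = (if i = a ∨ i = b then (-1 : F) else 1) • Frame.ax i :=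
      fun i => hact ⟨_, hS⟩ i i _ (G.img_bv hab i)
    have h := congrFun (hcomm ⟨_, hS⟩ (hiso a b hab) (Frame.ax a)) l
    rw [him, if_pos (Or.inl rfl), hTsmul, map_neg, map_one, Frame.eq_sum_ax (T (Frame.ax a)), map_sum,
      Finset.sum_apply] at h
    rw [Finset.sum_eq_single l (fun i _ hil => by rw [map_smul, him, smul_smul, Pi.smul_apply, Frame.ax_ne (Ne.symm hil), smul_zero])
      (fun h => absurd (Finset.mem_univ l) h), map_smul, him, if_neg (by simp [hla, Ne.symm hbl]), one_smul,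
      Pi.smul_apply, Pi.smul_apply, ← Frame.eq_sum_ax (T (Frame.ax a)), Frame.ax_self, smul_eq_mul, smul_eq_mul,
      mul_one] at h
    exact (mul_eq_zero.1 (show (2 : F) * T (Frame.ax a) l = 0 by linear_combination h)).resolve_left h2
  have hTax : ∀ a, T (Frame.ax a) = T (Frame.ax a) a • Frame.ax a := fun a => funext fun l => by
    by_cases hla : l = a
    · subst hla; rw [Pi.smul_apply, Frame.ax_self, smul_eq_mul, mul_one]
    · rw [hdiag a l hla, Pi.smul_apply, Frame.ax_ne hla, smul_zero]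
  obtain ⟨t, ht⟩ : ∃ t, t = T (Frame.ax 0) 0 := ⟨_, rfl⟩
  have ht0 : t ≠ 0 := fun e => by
    have h := hTpf (Frame.ax 0)
    rw [hTax, ← ht, e, zero_smul, zero_dotProduct, mul_zero, Frame.ax_dot, Frame.ax_self, map_one, mul_one] at h
    exact G.ne ((map_eq_zero_iff _ σ.injective).1 h.symm)
  have hall : ∀ a, T (Frame.ax a) = t • Frame.ax a := by
    intro a
    by_cases ha : a = 0
    · subst ha; rw [hTax, ← ht]
    obtain ⟨c, hc⟩ : ∃ c : Fin 6, c ∉ ({0, a} : Finset (Fin 6)) := by
      obtain ⟨k, -, hk⟩ := Finset.exists_mem_notMem_of_card_lt_card (s := ({0, a} : Finset (Fin 6)))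
        (t := Finset.univ) (lt_of_le_of_lt Finset.card_le_two (by simp))
      exact ⟨k, hk⟩
    simp only [Finset.mem_insert, Finset.mem_singleton, not_or] at hc
    obtain ⟨w, hwi, w1, -⟩ := exists_cycle_iso hf G hiso (Ne.symm ha) (Ne.symm hc.2) (Ne.symm hc.1)
    have a1 : (φ ⟨w, G.det_of_img w1⟩).1 (Frame.ax 0) = Frame.ax a := by
      rw [hact _ 0 a 1 (by rw [one_smul]; exact w1), one_smul]
    rw [← a1, ← hcomm ⟨w, G.det_of_img w1⟩ hwi, hTax 0, ← ht, map_smul]
  have hTx : ∀ x, T x = t • fun i => σ (x i) := fun x => by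
    have hlin : ∀ s : Finset (Fin 6), T (∑ i ∈ s, x i • Frame.ax i) = ∑ i ∈ s, (t * σ (x i)) • Frame.ax i := by
      intro s
      induction s using Finset.induction with
      | empty => rw [Finset.sum_empty, Finset.sum_empty, hT0]
      | insert a s has ih => rw [Finset.sum_insert has, Finset.sum_insert has, hTadd, hTsmul, hall, ih, smul_smul, mul_comm]
    conv_lhs => rw [Frame.eq_sum_ax x]
    rw [hlin, Frame.eq_sum_ax (t • fun i => σ (x i))]
    exact Finset.sum_congr rfl fun i _ => by rw [Pi.smul_apply, smul_eq_mul]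
  -- rational vectors go to rational vectors
  have hrat : ∀ (g : ↥(Cfsg.GU 4 F q ⊓ Cfsg.Geo.specialLinear (Fin 4) F)) (x : Fin 6 → F₀) i,
      (φ (Subgroup.inclusion inf_le_right g)).1 (fun j => (x j : F)) i ∈ F₀ := by
    intro g x i
    refine (hfix _).1 (mul_left_cancel₀ ht0 ?_)
    have h := congrFun (hcomm (Subgroup.inclusion inf_le_right g) g.2.1 (fun j => (x j : F))) i
    rw [hTx, hTx, map_smul, Pi.smul_apply, Pi.smul_apply, smul_eq_mul, smul_eq_mul] at h
    rw [← h]
    exact congrArg (fun y => t * (φ (Subgroup.inclusion inf_le_right g)).1 y i)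
      (funext fun j => (hfix _).2 (x j).2)
  obtain ⟨R, hR⟩ : ∃ R : ↥(Cfsg.GU 4 F q ⊓ Cfsg.Geo.specialLinear (Fin 4) F) → (Fin 6 → F₀) →ₗ[F₀] (Fin 6 → F₀),
      ∀ g x i, (R g x i : F) = (φ (Subgroup.inclusion inf_le_right g)).1 (fun j => (x j : F)) i := by
    refine ⟨fun g =>
      { toFun := fun x i => ⟨_, hrat g x i⟩
        map_add' := fun x y => funext fun i => Subtype.ext ?_
        map_smul' := fun c x => funext fun i => Subtype.ext ?_ }, fun g x i => rfl⟩
    · show (φ _).1 (fun j => ((x + y) j : F)) i = (φ _).1 (fun j => (x j : F)) i + (φ _).1 (fun j => (y j : F)) i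
      rw [← Pi.add_apply, ← map_add]
      rfl
    · show (φ _).1 (fun j => ((c • x) j : F)) i = (c : F) * (φ _).1 (fun j => (x j : F)) i
      rw [← smul_eq_mul, ← Pi.smul_apply, ← map_smul]
      rfl
  have hmul : ∀ g h x, R g (R h x) = R (g * h) x := fun g h x => funext fun i => Subtype.ext (by
    rw [hR, hR, map_mul (Subgroup.inclusion _), map_mul φ, qAut_mul_apply]
    exact congrArg (fun y => (φ (Subgroup.inclusion inf_le_right g)).1 y i) (funext fun j => hR h x j))
  have hone : ∀ x, R 1 x = x := fun x => funext fun i => Subtype.ext (by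
    rw [hR, map_one (Subgroup.inclusion _), map_one φ]; rfl)
  refine ⟨{ toFun := fun g => ⟨LinearEquiv.ofLinearMap (R g) (R g⁻¹) (LinearMap.ext fun x => ?_)
              (LinearMap.ext fun x => ?_), fun x => ?_⟩
            map_one' := qAut_ext fun x => hone x
            map_mul' := fun g h => qAut_ext fun x => (hmul g h x).symm }, fun g x i => hR g x i⟩
  · change R g (R g⁻¹ x) = x
    rw [hmul, mul_inv_cancel, hone]
  · change R g⁻¹ (R g x) = x
    rw [hmul, inv_mul_cancel, hone]
  · change Frame.sq F₀ 6 (R g x) = Frame.sq F₀ 6 x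
    rw [Frame.sq_apply, Frame.sq_apply]
    refine Subtype.ext ?_
    have h := qAut_map (φ (Subgroup.inclusion inf_le_right g)) (fun j => (x j : F))
    rw [Frame.sq_apply, Frame.sq_apply] at h
    simp only [dotProduct, AddSubmonoidClass.coe_finset_sum, MulMemClass.coe_mul, hR]
    exact h

end CfsgLib.SUFour.SympTwist
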