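/-
`SU_4(p)`, `p ≡ 3 mod 4`: the normaliser of a group of symplectic type of order 64 is maximal.
-/
import Cfsg.Agent.Lib.Classical22.SLFour.SympType
import Cfsg.Agent.Lib.Classical22.UnitSubfieldMatrix
import Cfsg.Agent.Lib.Classical.UnitaryPSU
import Cfsg.Agent.Lib.SUFour.SympTwist
import Cfsg.Agent.Lib.SUFour.SixThree

set_option autoImplicit false

namespace CfsgLib.SUFour.SympTwist

open Matrix Cfsg CfsgLib.Classical CfsgLib.Classical.SmallIso CfsgLib.Classical22 CfsgLib.SLFour.SympType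
open CfsgLib.Transvec CfsgLib.Transvec.Unitary
open scoped MatrixGroups

variable {F : Type*} [Field F] [Fintype F]

local notation "M4" => Matrix (Fin 4) (Fin 4) F
local notation "G4" => GL (Fin 4) F

/-- An isotropic combination of two vectors. -/
theorem exists_iso_pair {σ : F ≃+* F} {f : (Fin 4 → F) → (Fin 4 → F) → F} (hf : Cfsg.Geo.IsUnitaryForm σ f)
    (a b : Fin 4 → F) : ∃ s t : F, (s ≠ 0 ∨ t ≠ 0) ∧ f (s • a + t • b) (s • a + t • b) = 0 := by
  by_cases ha : f a a = 0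
  · exact ⟨1, 0, Or.inl one_ne_zero, by rw [one_smul, zero_smul, add_zero, ha]⟩
  obtain ⟨d, hd⟩ : ∃ d, d = f b a / f a a := ⟨_, rfl⟩
  obtain ⟨b', hb'⟩ : ∃ b', b' = b - d • a := ⟨_, rfl⟩
  have hba : f b' a = 0 := by
    rw [hb', sub_left' hf, hf.smul_left, hd, div_mul_cancel₀ _ ha, sub_self]
  have hab : f a b' = 0 := (eq_zero_comm hf).1 hba
  by_cases hbb : f b' b' = 0
  · exact ⟨-d, 1, Or.inr one_ne_zero, by rw [show (-d) • a + (1 : F) • b = b' by rw [hb']; module]; exact hbb⟩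
  obtain ⟨s, hs⟩ := exists_norm_eq hf.ne_refl hf.involutive (b := -f b' b' / f a a)
    (by rw [map_div₀, map_neg, self_fixed hf, self_fixed hf])
  rw [eq_div_iff ha] at hs
  refine ⟨s - d, 1, Or.inr one_ne_zero, ?_⟩
  rw [show (s - d) • a + (1 : F) • b = s • a + b' by rw [hb']; module]
  simp only [hf.add_left, add_right' hf, hf.smul_left, smul_right' hf, hab, hba]
  linear_combination hs

/-- The special unitary group as a subgroup of matrices is perfect. -/
theorem commutator_eq_top {q : ℕ} (hF : Fintype.card F = q ^ 2) :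
    commutator ↥(Cfsg.GU 4 F q ⊓ Cfsg.Geo.specialLinear (Fin 4) F) = ⊤ := by
  obtain ⟨f, hf⟩ : ∃ f : Cfsg.SU 4 F q →* ↥(Cfsg.GU 4 F q ⊓ Cfsg.Geo.specialLinear (Fin 4) F),
      ∀ A, ((f A : G4) : M4) = A.1.1 :=
    ⟨MonoidHom.codRestrict (Matrix.SpecialLinearGroup.toGL.comp (Cfsg.SU 4 F q).subtype) _
      fun A => ⟨fun u v => A.2 u v, (mem_specialLinear_iff _).2 A.1.2⟩, fun _ => rfl⟩
  have hsurj : Function.Surjective f := fun g =>
    ⟨⟨⟨((g : G4) : M4), (mem_specialLinear_iff _).1 g.2.2⟩, g.2.1⟩, Subtype.ext (Units.ext (hf _))⟩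
  have hperf : commutator (Cfsg.SU 4 F q) = ⊤ := by
    refine eq_top_iff.2 ?_
    rw [← CfsgLib.Classical.Unitary.su_closure_transvections hF (n := 4) (by norm_num) (by norm_num),
      Subgroup.closure_le, commutator_eq_closure]
    rintro A ⟨v, t, hv, hA⟩
    exact Subgroup.subset_closure
      (CfsgLib.Classical.Unitary.su_transvection_mem_commutatorSet hF (by norm_num) A v t hv hA)
  rw [commutator_def, ← MonoidHom.range_eq_top.2 hsurj, MonoidHom.range_eq_map, ← Subgroup.map_commutator,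
    ← commutator_def, hperf]

set_option maxHeartbeats 1000000 in
/-- The normaliser of a group of symplectic type is maximal in `SU_4(p)`. -/
theorem sympType_maximal {p q : ℕ} (hF : Fintype.card F = q ^ 2) (hp : p.Prime) (hqp : q = p) (hp4 : p % 4 = 3)
    (R : Subgroup (GL (Fin 4) F)) (hR : Cfsg.Geo.IsSymplecticTypeGroup 2 R)
    (hirr : Cfsg.Geo.ActsAbsolutelyIrreducibly (Cfsg.Geo.matrixSet R)) (hRU : R ≤ Cfsg.GU 4 F q)
    (hZ4 : Nat.card (Subgroup.center R) = 4) :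
    Cfsg.Geo.IsMaximalIn (Cfsg.GU 4 F q ⊓ Cfsg.Geo.specialLinear (Fin 4) F)
      (Cfsg.Geo.subgroupNormalizer R ⊓ (Cfsg.GU 4 F q ⊓ Cfsg.Geo.specialLinear (Fin 4) F)) := by
  classical
  subst hqp
  obtain ⟨σ, hσ, hinv, hne⟩ := exists_frob hF
  have hf := isUnitaryForm_hermForm (n := 4) hσ hinv hne
  haveI : Fact q.Prime := ⟨hp⟩
  haveI : CharP F q := by
    obtain ⟨r, hr⟩ := CharP.exists F
    obtain ⟨n, hrp, hn⟩ := FiniteField.card F r
    rw [hF] at hn
    have : r = q := (Nat.prime_dvd_prime_iff_eq hrp hp).1 (hrp.dvd_of_dvd_pow (hn ▸ dvd_pow_self r n.ne_zero))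
    exact this ▸ hr
  have h2 : (2 : F) ≠ 0 := fun h => by
    have h' : q ∣ 2 := (CharP.cast_eq_zero_iff F q 2).1 (by exact_mod_cast h)
    have := Nat.le_of_dvd two_pos h'
    have := hp.two_le
    omega
  obtain ⟨F₀, hF₀⟩ : ∃ F₀ : Subfield F, Nat.card F₀ = q := ⟨(ZMod.castHom (dvd_refl q) F).fieldRange, by
    rw [← Nat.card_congr (RingEquiv.ofBijective (ZMod.castHom (dvd_refl q) F).rangeRestrictField
      ⟨fun a b h => (ZMod.castHom (dvd_refl q) F).injective (congrArg Subtype.val h),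
        (ZMod.castHom (dvd_refl q) F).rangeRestrictField_bijective.2⟩).toEquiv, Nat.card_zmod]⟩
  letI : Fintype F₀ := Fintype.ofFinite _
  have hF₀c : Fintype.card F₀ = q := by rw [← Nat.card_eq_fintype_card, hF₀]
  have hfix : ∀ a, σ a = a ↔ a ∈ F₀ := fun a =>
    ⟨fun h => CfsgLib.Classical22.UnitSubfield.mem_of_pow_card F₀ a (by rw [hF₀, ← hσ, h]), fun ha => by
      rw [hσ, ← hF₀c]
      exact congrArg Subtype.val (FiniteField.pow_card (⟨a, ha⟩ : F₀))⟩
  have h20 : (2 : F₀) ≠ 0 := fun h => h2 (by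
    have h' := congrArg F₀.subtype h
    rwa [map_ofNat, map_zero] at h')
  obtain ⟨c, z, e, P, J, E, κ, hc, hzR, hz, hS, hfr, he4, hBP, G⟩ := exists_gam_of h2 hR hirr hZ4
  obtain ⟨Γ, hΓ⟩ : ∃ Γ : Fin 6 → G4, Γ = ![e 0, e 1, e 2, e 3, e 4, z] := ⟨_, rfl⟩
  rw [← hΓ] at G
  have h2 := G.two
  have hzc := SympTypeFour.scalar_comm hz
  have hΓR : ∀ a, Γ a ∈ R := fun a => by
    rw [hΓ]
    fin_cases a <;> simp [hfr.mem, hzR]
  have hΓe : ∀ i : Fin 5, e i = Γ i.castSucc * (Γ 5)⁻¹ * z := fun i => by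
    rw [show Γ 5 = z by rw [hΓ]; rfl, inv_mul_cancel_right, hΓ]
    fin_cases i <;> rfl
  have hone : (1 : G4) ∈ R := one_mem R
  have hmz : (-1 : G4) * z ∈ R := mul_mem hS.neg hzR
  have hsc : ∀ (g : G4) (s : F), (g : M4) = s • 1 → s ^ 4 = 1 → g ∈ R := fun g s hg hs => by
    rcases mul_self_eq_one_iff.1 (show s ^ 2 * s ^ 2 = 1 by rw [← pow_add]; exact hs) with h | h
    · rcases sq_eq_one_iff.1 h with e' | e'
      · rw [show g = 1 from Units.ext (by rw [hg, e', one_smul, Units.val_one])]; exact hone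
      · rw [show g = -1 from Units.ext (by rw [hg, e', neg_one_smul, Units.val_neg, Units.val_one])]; exact hS.neg
    · rw [← hc, pow_two] at h
      rcases mul_self_eq_mul_self_iff.1 h with e' | e'
      · rw [show g = z from Units.ext (by rw [hg, e', hz])]; exact hzR
      · rw [show g = -1 * z from Units.ext (by rw [hg, e', neg_smul, neg_one_mul, Units.val_neg, hz])]; exact hmz
  -- elements moving the five involutions into the group normalise it
  have hnormal : ∀ g : G4, (∀ i, g * e i * g⁻¹ ∈ R) → g ∈ Cfsg.Geo.subgroupNormalizer R := by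
    intro g hg
    refine SympTypeFour.normalizer_of_le fun r hr => ?_
    obtain ⟨K, hK⟩ : ∃ K : Subgroup G4, K = R ⊓ R.comap (MulAut.conj g).toMonoidHom := ⟨_, rfl⟩
    have hKm : ∀ u, u ∈ K ↔ u ∈ R ∧ g * u * g⁻¹ ∈ R := fun u => by
      rw [hK, Subgroup.mem_inf, Subgroup.mem_comap]; rfl
    have heK : ∀ i, e i ∈ K := fun i => (hKm _).2 ⟨hfr.mem i, hg i⟩
    suffices hrK : r ∈ K from ((hKm r).1 hrK).2
    have step : ∀ (j : Fin 5), j ≠ 4 → ∀ u ∈ R, ∃ k ∈ K, (u * k) * e j = e j * (u * k) ∧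
        ∀ i, i ≠ j → i ≠ 4 → u * e i = e i * u → (u * k) * e i = e i * (u * k) := by
      intro j hj u hu
      rcases hS.comm u hu (e j) (hfr.mem j) with h | h
      · exact ⟨1, one_mem K, by rw [mul_one, h], fun i _ _ h' => by rw [mul_one, h']⟩
      refine ⟨e j * e 4, mul_mem (heK j) (heK 4), ?_, fun i hij hi h' => ?_⟩
      · have h1 : e j * e 4 * e j = -(e j * (e j * e 4)) := by
          rw [mul_assoc, hfr.anti 4 j (Ne.symm hj), mul_neg]
        rw [mul_assoc u, h1, mul_neg, ← mul_assoc u, h, neg_mul, neg_neg, mul_assoc]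
      · have h1 : e j * e 4 * e i = e i * (e j * e 4) := by
          rw [mul_assoc, hfr.anti 4 i (Ne.symm hi), mul_neg, ← mul_assoc, hfr.anti j i (Ne.symm hij), neg_mul, neg_neg,
            mul_assoc]
        rw [mul_assoc u, h1, ← mul_assoc, h', mul_assoc]
    obtain ⟨k0, hk0, c0, -⟩ := step 0 (by decide) r hr
    have hr0 := mul_mem hr ((hKm _).1 hk0).1
    obtain ⟨k1, hk1, c1, p1⟩ := step 1 (by decide) _ hr0
    have hr1 := mul_mem hr0 ((hKm _).1 hk1).1
    obtain ⟨k2, hk2, c2, p2⟩ := step 2 (by decide) _ hr1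
    have hr2 := mul_mem hr1 ((hKm _).1 hk2).1
    obtain ⟨k3, hk3, c3, p3⟩ := step 3 (by decide) _ hr2
    have hr3 := mul_mem hr2 ((hKm _).1 hk3).1
    obtain ⟨x, hx⟩ : ∃ x, x = r * k0 * k1 * k2 * k3 := ⟨_, rfl⟩
    rw [← hx] at c3 hr3
    have x0 : x * e 0 = e 0 * x :=
      hx ▸ p3 0 (by decide) (by decide) (p2 0 (by decide) (by decide) (p1 0 (by decide) (by decide) c0))
    have x1 : x * e 1 = e 1 * x := hx ▸ p3 1 (by decide) (by decide) (p2 1 (by decide) (by decide) c1)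
    have x2 : x * e 2 = e 2 * x := hx ▸ p3 2 (by decide) (by decide) c2
    have hall : ∀ i, x * e i = e i * x := fun i => by
      fin_cases i
      · exact x0
      · exact x1
      · exact x2
      · exact c3
      · show x * e 4 = e 4 * x
        rw [he4, mul_neg, neg_mul]
        congr 1
        simp only [mul_assoc]
        rw [← c3, ← mul_assoc (e 2) x, ← x2, mul_assoc x, ← mul_assoc (e 1) x, ← x1, mul_assoc x, ← mul_assoc (e 0) x,
          ← x0, mul_assoc x]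
    obtain ⟨s, -, hs⟩ := SympTypeFour.scalar_of_commute hS.irr fun a ha => hfr.gen a ha x hall
    have hxK : x ∈ K := (hKm x).2 ⟨hr3, by
      rw [show g * x * g⁻¹ = x by rw [← SympTypeFour.scalar_comm hs g, mul_inv_cancel_right]]; exact hr3⟩
    have : r = x * k3⁻¹ * k2⁻¹ * k1⁻¹ * k0⁻¹ := by rw [hx]; group
    rw [this]
    exact mul_mem (mul_mem (mul_mem (mul_mem hxK (inv_mem hk3)) (inv_mem hk2)) (inv_mem hk1)) (inv_mem hk0)
  obtain ⟨φ, hφ⟩ := G.exists_phi
  have hEinj : Function.Injective fun x => altMat (E x) := fun x y h => E.injective (by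
    rw [← altCoord_altMat (E x), ← altCoord_altMat (E y)]; exact congrArg altCoord h)
  have hact : ∀ (g : Cfsg.Geo.specialLinear (Fin 4) F) k l (s : F),
      img Γ J ((g : G4) : M4) k = s • ((Γ l : M4) * J) ↔ (φ g).1 (Frame.ax k) = s • Frame.ax l := fun g k l s => by
    rw [← G.alt_smul, img, ← G.alt_ax, ← hφ]
    exact ⟨fun h => hEinj h, fun h => by rw [h]⟩
  have hunit : ∀ a, IsUnit ((Γ a : M4) * J) := fun a => (Γ a).isUnit.mul G.unit
  -- the quotients of a permuted set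
  have hquot : ∀ (g : G4) (k l m n : Fin 6) (s t : F), s * s = 1 → t * t = 1 →
      img Γ J (g : M4) k = s • ((Γ m : M4) * J) → img Γ J (g : M4) l = t • ((Γ n : M4) * J) →
      ∃ σ : F, σ * σ = 1 ∧ ((g * (Γ k * (Γ l)⁻¹) * g⁻¹ : G4) : M4) = σ • ((Γ m * (Γ n)⁻¹ : G4) : M4) := by
    intro g k l m n s t hs ht hk hl
    obtain ⟨X, hX⟩ : ∃ X : G4, (X : M4) = J * (g : M4)ᵀ :=
      ⟨(G.unit.mul ((Matrix.isUnit_transpose _).2 g.isUnit)).unit, rfl⟩
    refine ⟨s * t, by linear_combination (t * t) * hs + ht, ?_⟩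
    obtain ⟨T, hT⟩ : ∃ T : G4, (T : M4) = (Γ n : M4) * J := ⟨(hunit n).unit, rfl⟩
    have el : ((g * Γ l * X : G4) : M4) = t • (T : M4) := by
      rw [hT, ← hl, img, Units.val_mul, Units.val_mul, hX]
      simp only [mul_assoc]
    have ek : ((g * Γ k * X : G4) : M4) = s • ((Γ m * (Γ n)⁻¹ * T : G4) : M4) := by
      rw [Units.val_mul (Γ m * (Γ n)⁻¹), hT, Units.val_mul (Γ m), mul_assoc (Γ m : M4), ← mul_assoc _ (Γ n : M4),
        Units.inv_mul, one_mul, ← hk, img, Units.val_mul, Units.val_mul, hX]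
      simp only [mul_assoc]
    have h1 : g * (Γ k * (Γ l)⁻¹) * g⁻¹ = g * Γ k * X * (g * Γ l * X)⁻¹ := by group
    have h3 : (((g * Γ l * X)⁻¹ : G4) : M4) = t • ((T⁻¹ : G4) : M4) := by
      have : ((g * Γ l * X : G4) : M4) * (t • ((T⁻¹ : G4) : M4)) = 1 := by
        rw [el, smul_mul_smul_comm, ht, one_smul, Units.mul_inv]
      rw [← mul_one (((g * Γ l * X)⁻¹ : G4) : M4), ← this, Units.inv_mul_cancel_left]
    rw [h1, Units.val_mul, ek, h3, smul_mul_smul_comm, ← Units.val_mul, mul_inv_cancel_right]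
  have hmono : ∀ g : Cfsg.Geo.specialLinear (Fin 4) F, Frame.Mono (φ g) → (g : G4) ∈ Cfsg.Geo.subgroupNormalizer R := by
    intro g hg
    refine hnormal _ fun i => ?_
    obtain ⟨m, s, hm⟩ := hg i.castSucc
    obtain ⟨n, t, hn⟩ := hg 5
    obtain ⟨σ, hσ, h⟩ := hquot _ i.castSucc 5 m n s t (Frame.mono_coeff hm) (Frame.mono_coeff hn)
      ((hact g _ _ _).2 hm) ((hact g _ _ _).2 hn)
    rw [hΓe, show (g : G4) * (Γ i.castSucc * (Γ 5)⁻¹ * z) * (g : G4)⁻¹ =
      (g : G4) * (Γ i.castSucc * (Γ 5)⁻¹) * (g : G4)⁻¹ * z by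
      simp only [mul_assoc]
      rw [hzc (g : G4)⁻¹]]
    refine mul_mem ?_ hzR
    rcases mul_self_eq_one_iff.1 hσ with rfl | rfl
    · rw [show (g : G4) * (Γ i.castSucc * (Γ 5)⁻¹) * (g : G4)⁻¹ = Γ m * (Γ n)⁻¹ from
        Units.ext (by rw [h, one_smul])]
      exact mul_mem (hΓR m) (inv_mem (hΓR n))
    · rw [show (g : G4) * (Γ i.castSucc * (Γ 5)⁻¹) * (g : G4)⁻¹ = -1 * (Γ m * (Γ n)⁻¹) from
        Units.ext (by rw [h, neg_one_smul, Units.val_mul (-1 : G4), Units.val_neg, Units.val_one, neg_one_mul])]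
      exact mul_mem hS.neg (mul_mem (hΓR m) (inv_mem (hΓR n)))
  have hker : ∀ g : Cfsg.Geo.specialLinear (Fin 4) F, φ g = 1 → (g : G4) ∈ R := by
    intro g hg
    have hfix : ∀ k, img Γ J ((g : G4) : M4) k = (1 : F) • ((Γ k : M4) * J) := fun k =>
      (hact g k k 1).2 (by rw [hg, one_smul]; rfl)
    have hcomm : ∀ i, (g : G4) * e i = e i * (g : G4) := fun i => by
      have h : (g : G4) * (Γ i.castSucc * (Γ 5)⁻¹) * (g : G4)⁻¹ = Γ i.castSucc * (Γ 5)⁻¹ := by
        obtain ⟨X, hX⟩ : ∃ X : G4, (X : M4) = J * ((g : G4) : M4)ᵀ :=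
          ⟨(G.unit.mul ((Matrix.isUnit_transpose _).2 (g : G4).isUnit)).unit, rfl⟩
        obtain ⟨U, hU⟩ : ∃ U : G4, (U : M4) = J := ⟨G.unit.unit, rfl⟩
        have e1 : ∀ k, (g : G4) * Γ k * X = Γ k * U := fun k => Units.ext (by
          rw [Units.val_mul, Units.val_mul, Units.val_mul, hX, hU, ← one_smul F ((Γ k : M4) * J), ← hfix, img]
          simp only [mul_assoc])
        calc (g : G4) * (Γ i.castSucc * (Γ 5)⁻¹) * (g : G4)⁻¹ =
            (g : G4) * Γ i.castSucc * X * ((g : G4) * Γ 5 * X)⁻¹ := by group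
          _ = _ := by rw [e1, e1]; group
      rw [hΓe, ← mul_assoc, mul_inv_eq_iff_eq_mul.1 h, mul_assoc _ (g : G4) z, ← hzc, ← mul_assoc]
    obtain ⟨s, -, hs⟩ := SympTypeFour.scalar_of_commute hS.irr fun a ha => hfr.gen a ha _ hcomm
    refine hsc _ s hs ?_
    have h := congrArg Units.val (MonoidHom.mem_ker.1 g.2)
    rw [Matrix.GeneralLinearGroup.val_det_apply, Units.val_one, hs, Matrix.det_smul, Matrix.det_one, mul_one,
      Fintype.card_fin] at h
    exact h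
  have hiso : ∀ a b, a ≠ b → Iso (Cfsg.hermForm 4 F q) (bv Γ a b) := fun a b _ =>
    hRU (mul_mem (hΓR a) (inv_mem (hΓR b)))
  obtain ⟨ψ, hψ⟩ := exists_descent hσ hinv hne hfix G hiso φ hφ
  have hψax : ∀ g k, (fun i => (((ψ g).1 (Frame.ax k)) i : F)) = (φ (Subgroup.inclusion inf_le_right g)).1 (Frame.ax k) := by
    intro g k
    funext i
    rw [hψ]
    refine congrArg (fun y => (φ (Subgroup.inclusion inf_le_right g)).1 y i) (funext fun j => ?_)
    by_cases hjk : j = k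
    · subst hjk; rw [Frame.ax_self, Frame.ax_self]; rfl
    · rw [Frame.ax_ne hjk, Frame.ax_ne hjk]; rfl
  have hψact : ∀ (g : ↥(Cfsg.GU 4 F q ⊓ Cfsg.Geo.specialLinear (Fin 4) F)) k l (s : F₀),
      img Γ J ((g : G4) : M4) k = (s : F) • ((Γ l : M4) * J) → (ψ g).1 (Frame.ax k) = s • Frame.ax l := by
    intro g k l s h
    have h' := ((hact (Subgroup.inclusion inf_le_right g) k l (s : F)).1 h)
    funext i
    refine Subtype.ext ?_
    rw [show (((ψ g).1 (Frame.ax k)) i : F) = _ from congrFun (hψax g k) i, h']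
    by_cases hil : i = l
    · subst hil; simp [Frame.ax_self]
    · simp [Frame.ax_ne hil]
  have hψmono : ∀ g, Frame.Mono (ψ g) → (g : G4) ∈ Cfsg.Geo.subgroupNormalizer R := by
    intro g hg
    refine hmono (Subgroup.inclusion inf_le_right g) fun k => ?_
    obtain ⟨l, s, hl⟩ := hg k
    refine ⟨l, (s : F), ?_⟩
    rw [← hψax, hl]
    funext i
    by_cases hil : i = l
    · subst hil; simp [Frame.ax_self]
    · simp [Frame.ax_ne hil]
  have hψker : ∀ g, ψ g = 1 → (g : G4) ∈ R := by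
    intro g hg
    refine hker (Subgroup.inclusion inf_le_right g) (Frame.qAut_ext_ax fun k => ?_)
    rw [← hψax, hg]
    funext i
    by_cases hik : i = k
    · subst hik; simp [Frame.ax_self]
    · simp [Frame.ax_ne hik]
  refine ⟨lt_of_le_not_ge inf_le_right fun hle => ?_, fun X hHX hXK => ?_⟩
  · -- a transvection does not normalise
    obtain ⟨col, hcol⟩ : ∃ col : Fin 4 → Fin 4 → F, ∀ k, col k = (P : M4) *ᵥ Pi.single k 1 := ⟨_, fun _ => rfl⟩
    have hB : ∀ k, k = 0 ∨ k = 1 → (e 1 : M4) *ᵥ col k = col k := by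
      intro k hk
      rw [hcol, Matrix.mulVec_mulVec, hBP, ← Matrix.mulVec_mulVec]
      congr 1
      funext i
      rcases hk with rfl | rfl <;> fin_cases i <;> simp [std, Matrix.mulVec, dotProduct, Fin.sum_univ_four]
    obtain ⟨s, t, hst, hvv⟩ := exists_iso_pair hf (col 0) (col 1)
    obtain ⟨v, hv⟩ : ∃ v, v = s • col 0 + t • col 1 := ⟨_, rfl⟩
    rw [← hv] at hvv
    have hv0 : v ≠ 0 := fun h => by
      have h' : (P : M4) *ᵥ (s • (Pi.single 0 1 : Fin 4 → F) + t • Pi.single 1 1) = (P : M4) *ᵥ 0 := by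
        rw [Matrix.mulVec_add, Matrix.mulVec_smul, Matrix.mulVec_smul, ← hcol, ← hcol, ← hv, h, Matrix.mulVec_zero]
      have h'' := mulVec_injective P h'
      rcases hst with hs | ht
      · exact hs (by simpa using congrFun h'' 0)
      · exact ht (by simpa using congrFun h'' 1)
    have hev : (e 1 : M4) *ᵥ v = v := by
      rw [hv, Matrix.mulVec_add, Matrix.mulVec_smul, Matrix.mulVec_smul, hB 0 (Or.inl rfl), hB 1 (Or.inr rfl)]
    obtain ⟨w, hw⟩ : ∃ w, w = (e 0 : M4) *ᵥ v := ⟨_, rfl⟩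
    have hew : (e 1 : M4) *ᵥ w = -w := by
      rw [hw, ← mul_mulVec, hfr.anti 1 0 (by decide), Units.val_neg, Matrix.neg_mulVec, mul_mulVec, hev]
    have hIe : ∀ i, Iso (Cfsg.hermForm 4 F q) (e i) := fun i => hRU (hfr.mem i)
    have hwv : Cfsg.hermForm 4 F q w v = 0 := by
      have h := hIe 1 w v
      rw [hew, hev, ← neg_one_smul F w, hf.smul_left] at h
      exact (mul_eq_zero.1 (show (2 : F) * Cfsg.hermForm 4 F q w v = 0 by linear_combination -h)).resolve_left h2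
    have hvw := (eq_zero_comm hf).1 hwv
    have hww : Cfsg.hermForm 4 F q w w = 0 := by rw [hw, hIe 0 v v, hvv]
    obtain ⟨c₁, hc₁0, hc₁⟩ := exists_skew hne hinv
    obtain ⟨T, hT⟩ : ∃ T : G4, T = uT (Cfsg.hermForm 4 F q) v c₁ := ⟨_, rfl⟩
    have hTU : T ∈ Cfsg.GU 4 F q ⊓ Cfsg.Geo.specialLinear (Fin 4) F := hT ▸ uT_mem_SU hσ hinv hne hvv hc₁
    have hTn := (hle hTU).1
    obtain ⟨u, hu⟩ : ∃ u, u = T * e 0 * T⁻¹ * (e 0)⁻¹ := ⟨_, rfl⟩
    have huR : u ∈ R := hu ▸ mul_mem (SympTypeFour.conj_mem_of_normalizer hTn _ (hfr.mem 0)) (inv_mem (hfr.mem 0))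
    have he0 : (e 0)⁻¹ = e 0 := inv_eq_of_mul_eq_one_right (hfr.sq 0)
    have hTi : T⁻¹ = uT (Cfsg.hermForm 4 F q) v (-c₁) := by
      refine inv_eq_of_mul_eq_one_right (gl_ext fun x => ?_)
      rw [hT, mul_mulVec, uT_mulVec hf hvv, uT_mulVec hf hvv, hf.add_left, hf.smul_left, hvv, Units.val_one,
        Matrix.one_mulVec]
      module
    have hux : ∀ x, (u : M4) *ᵥ x = x + (-c₁ * Cfsg.hermForm 4 F q x w) • w +
        (c₁ * Cfsg.hermForm 4 F q x v) • v := by
      intro x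
      have he0x : ∀ y, (e 0 : M4) *ᵥ ((e 0 : M4) *ᵥ y) = y := fun y => by
        rw [← mul_mulVec, hfr.sq 0, Units.val_one, Matrix.one_mulVec]
      have hfx : Cfsg.hermForm 4 F q ((e 0 : M4) *ᵥ x) v = Cfsg.hermForm 4 F q x w := by
        rw [hw, ← hIe 0 x ((e 0 : M4) *ᵥ v)]
        rw [he0x]
      rw [hu, mul_mulVec, mul_mulVec, mul_mulVec, he0, hTi, hT]
      simp only [uT_mulVec hf hvv, Matrix.mulVec_add, Matrix.mulVec_smul, he0x, hfx, ← hw, hf.add_left, hf.smul_left,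
        hwv]
      module
    have huv : (u : M4) *ᵥ v = v := by
      rw [hux, hvv, hvw]
      module
    have huu : u * u = 1 := by
      rcases hS.sq u huR with h | h
      · exact h
      exfalso
      have h' := congrArg (fun g : G4 => (g : M4) *ᵥ v) h
      simp only [mul_mulVec, huv, Units.val_neg, Units.val_one, Matrix.neg_mulVec, Matrix.one_mulVec] at h'
      have h'' : (2 : F) • v = 0 := by rw [two_smul]; nth_rewrite 1 [h']; rw [neg_add_cancel]
      exact hv0 ((smul_eq_zero.1 h'').resolve_left h2)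
    obtain ⟨x, hx⟩ := (hf.nondegenerate v hv0).1
    have h := congrArg (fun g : G4 => (g : M4) *ᵥ x) huu
    simp only [mul_mulVec, hux, Units.val_one, Matrix.one_mulVec, hf.add_left, hf.smul_left, hwv, hvw, hvv, hww,
      mul_zero, add_zero] at h
    have hk : ((2 : F) * c₁ * Cfsg.hermForm 4 F q x v) • v = (2 * c₁ * Cfsg.hermForm 4 F q x w) • w := by
      linear_combination (norm := module) h
    have hk' := congrArg (fun y => (e 1 : M4) *ᵥ y) hk
    simp only [Matrix.mulVec_smul, hev, hew] at hk'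
    have hk2 : ((2 : F) * (2 * c₁ * Cfsg.hermForm 4 F q x v)) • v = 0 := by
      linear_combination (norm := module) hk + hk'
    exact hv0 ((smul_eq_zero.1 hk2).resolve_left
      (mul_ne_zero h2 (mul_ne_zero (mul_ne_zero h2 hc₁0) hx)))
  obtain ⟨H, hH⟩ : ∃ H, H = (X.subgroupOf (Cfsg.GU 4 F q ⊓ Cfsg.Geo.specialLinear (Fin 4) F)).map ψ := ⟨_, rfl⟩
  have hsm : ∀ (g : G4) (hg : g ∈ Cfsg.GU 4 F q ⊓ Cfsg.Geo.specialLinear (Fin 4) F), g ∈ X → ψ ⟨g, hg⟩ ∈ H :=
    fun g hg hgX => hH ▸ ⟨⟨g, hg⟩, hgX, rfl⟩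
  have hprime : (Fintype.card F₀).Prime := hF₀c ▸ hp
  have B : Frame.Base H := by
    refine ⟨h20, hprime, by norm_num, fun i j hij => ?_, fun a b d hab hbd had => ?_⟩
    · obtain ⟨k, hk⟩ : ∃ k : Fin 6, k ≠ i ∧ k ≠ j := by
        obtain ⟨k, -, hk⟩ := Finset.exists_mem_notMem_of_card_lt_card (s := ({i, j} : Finset (Fin 6)))
          (t := Finset.univ) (lt_of_le_of_lt Finset.card_le_two (by simp))
        exact ⟨k, by simpa [not_or] using hk⟩
      have hbS : bv Γ i j ∈ Cfsg.Geo.specialLinear (Fin 4) F :=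
        G.det_of_img (k := k) (l := k) (by rw [G.img_bv hij, if_neg (by simp [hk.1, hk.2]), one_smul])
      have hbR : bv Γ i j ∈ R := mul_mem (hΓR i) (inv_mem (hΓR j))
      have hbK : bv Γ i j ∈ Cfsg.GU 4 F q ⊓ Cfsg.Geo.specialLinear (Fin 4) F := ⟨hiso i j hij, hbS⟩
      have h := hsm _ hbK (hHX ⟨Subgroup.le_normalizer hbR, hbK⟩)
      convert h using 1
      refine Frame.qAut_ext_ax fun l => ?_
      rw [hψact ⟨_, hbK⟩ l l (if l = i ∨ l = j then -1 else 1) (by
        rw [G.img_bv hij l]; congr 1; split_ifs <;> simp), qAut_mul_apply]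
      by_cases hli : l = i
      · subst hli
        rw [Frame.refl_ax_fix (Frame.ax_ne (Ne.symm hij)), Frame.refl_ax_self, if_pos (Or.inl rfl), neg_one_smul]
      by_cases hlj : l = j
      · subst hlj
        rw [Frame.refl_ax_self, map_neg, Frame.refl_ax_fix (Frame.ax_ne hij), if_pos (Or.inr rfl), neg_one_smul]
      rw [Frame.refl_ax_fix (Frame.ax_ne (Ne.symm hlj)), Frame.refl_ax_fix (Frame.ax_ne (Ne.symm hli)),
        if_neg (by simp [hli, hlj]), one_smul]
    · obtain ⟨w, hwi, w1, w2, w3, w4⟩ := exists_cycle_iso hf G hiso hab hbd had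
      have hwK : w ∈ Cfsg.GU 4 F q ⊓ Cfsg.Geo.specialLinear (Fin 4) F := ⟨hwi, G.det_of_img w1⟩
      have key : ∀ {k l : Fin 6}, img Γ J (w : M4) k = (Γ l : M4) * J →
          (ψ ⟨w, hwK⟩).1 (Frame.ax k) = Frame.ax l := fun {k l} h => by
        rw [hψact ⟨w, hwK⟩ k l 1 (by rw [OneMemClass.coe_one, one_smul]; exact h), one_smul]
      have heq : ψ ⟨w, hwK⟩ = Frame.swp h20 hab * Frame.swp h20 hbd := Frame.qAut_ext_ax fun k => by
        rw [qAut_mul_apply]
        by_cases k1 : k = a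
        · subst k1; rw [key w1, Frame.swp_other _ _ (Ne.symm hab) (Ne.symm had), Frame.swp_left]
        by_cases k2 : k = b
        · subst k2; rw [key w2, Frame.swp_left, Frame.swp_other _ _ had hbd]
        by_cases k3 : k = d
        · subst k3; rw [key w3, Frame.swp_right, Frame.swp_right]
        rw [key (w4 k k1 k2 k3), Frame.swp_other _ _ (Ne.symm k2) (Ne.symm k3),
          Frame.swp_other _ _ (Ne.symm k1) (Ne.symm k2)]
      have hwN : w ∈ Cfsg.Geo.subgroupNormalizer R := hψmono ⟨w, hwK⟩ (by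
        rw [heq]; exact CfsgLib.SLFour.Six.cy_mono hab hbd had)
      exact heq ▸ hsm w hwK (hHX ⟨hwN, hwK⟩)
  rcases B.even_dichotomy ⟨3, rfl⟩ with hstab | hfull
  · refine Or.inl (le_antisymm (le_inf (fun g hg => ?_) hXK) hHX)
    refine hψmono ⟨g, hXK hg⟩ ?_
    by_cases h3 : q = 3
    · refine SixThree.all_mono B hstab ?_ _ (hsm g (hXK hg) hg)
      haveI := charP_of_card_eq_prime hF₀c (hp := ⟨hp⟩)
      subst h3
      exact_mod_cast CharP.cast_eq_zero F₀ 3
    · exact (⟨B, hstab, by have := hp.two_le; omega⟩ : CfsgLib.SLFour.Six.Ctx H).all_mono _ (hsm g (hXK hg) hg)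
  right
  refine le_antisymm hXK fun g hg => ?_
  have hin : ψ ⟨g, hg⟩ ∈ H := by
    refine hfull ?_
    rw [eichGroup_eq_commutator _ (Frame.polarNondeg_sq h20) (by rw [Module.finrank_fin_fun]; norm_num)]
    have hm := Subgroup.mem_map_of_mem ψ
      (show (⟨g, hg⟩ : ↥(Cfsg.GU 4 F q ⊓ Cfsg.Geo.specialLinear (Fin 4) F)) ∈ commutator _ by
        rw [commutator_eq_top hF]; trivial)
    rw [commutator_def, Subgroup.map_commutator] at hm
    rw [commutator_def]
    exact Subgroup.commutator_mono le_top le_top hm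
  obtain ⟨m, hm, hmg⟩ := (hH ▸ hin :
    ψ ⟨g, hg⟩ ∈ (X.subgroupOf (Cfsg.GU 4 F q ⊓ Cfsg.Geo.specialLinear (Fin 4) F)).map ψ)
  obtain ⟨d, hd⟩ : ∃ d : ↥(Cfsg.GU 4 F q ⊓ Cfsg.Geo.specialLinear (Fin 4) F), d = m⁻¹ * ⟨g, hg⟩ := ⟨_, rfl⟩
  have hdR : (d : G4) ∈ R := hψker d (by rw [hd, map_mul, map_inv, hmg, inv_mul_cancel])
  have hdX : (d : G4) ∈ X := hHX ⟨Subgroup.le_normalizer hdR, d.2⟩
  rw [show g = (m : G4) * (d : G4) by rw [hd]; simp]
  exact mul_mem hm hdX

end CfsgLib.SUFour.SympTwist
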