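/-
Symplectic subfield groups are maximal in `SU_4(q)`.
-/
import Cfsg.Agent.Lib.SUFour.Basic
import Cfsg.Agent.S5660

set_option autoImplicit false

namespace CfsgLib.SUFour

open Matrix Cfsg CfsgLib.Transvec CfsgLib.Transvec.Unitary
open Cfsg.Agent.S5660 (rv rv_add rv_smul rv_zero gl_ext_rational iso_of_rational ratForm isSymplectic_ratForm)
open scoped MatrixGroups

/-- Symplectic subfield groups in unitary groups of even dimension at least four. -/
theorem isMaximalIn_symplectic {F : Type*} [Field F] [Fintype F] (n q : ℕ) (hF : Fintype.card F = q ^ 2) (hn : 4 ≤ n) (F₀ : Subfield F) (hcard : Fintype.card F = Nat.card F₀ ^ 2) (ζ : F) (hζ0 : ζ ≠ 0) (hζ : ζ + ζ ^ q = 0) (P : Matrix.GeneralLinearGroup (Fin n) F) (hP : Cfsg.Geo.IsFormRationalStructure (Cfsg.hermForm n F q) F₀ ζ P) (halt : ∀ u : Fin n → F, (∀ i, u i ∈ F₀) → Cfsg.hermForm n F q (Matrix.mulVec (P : Matrix (Fin n) (Fin n) F) u) (Matrix.mulVec (P : Matrix (Fin n) (Fin n) F) u) = 0) : Cfsg.Geo.IsMaximalIn (Cfsg.GU n F q ⊓ Cfsg.Geo.specialLinear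 (Fin n) F) (Cfsg.Geo.subfieldSubgroup F₀ P ⊓ (Cfsg.GU n F q ⊓ Cfsg.Geo.specialLinear (Fin n) F)) := by
  classical
  obtain ⟨σ, hσ, hinv, hne⟩ := exists_frob hF
  have hf := isUnitaryForm_hermForm (n := n) hσ hinv hne
  haveI : Fintype F₀ := Fintype.ofFinite F₀
  have hq : Fintype.card F₀ = q := by
    have := hcard.symm.trans hF
    rw [Nat.card_eq_fintype_card] at this
    exact Nat.pow_left_injective two_ne_zero this
  have hq1 : 1 < q := hq ▸ Fintype.one_lt_card
  have hmem : ∀ x ∈ F₀, σ x = x := fun x hx => by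
    have := congrArg Subtype.val (FiniteField.pow_card (⟨x, hx⟩ : F₀))
    rw [hq] at this
    rw [hσ]
    simpa using this
  have hfix : ∀ x, σ x = x ↔ x ∈ F₀ := by
    refine fun x => ⟨fun hx => ?_, hmem x⟩
    by_contra hx0
    obtain ⟨S, hS⟩ : ∃ S : Finset F, S = insert x (Finset.univ.image fun y : F₀ => (y : F)) := ⟨_, rfl⟩
    have h1 : S.card = q + 1 := by
      rw [hS, Finset.card_insert_of_notMem (by simpa using hx0),
        Finset.card_image_of_injective _ Subtype.val_injective, Finset.card_univ, hq]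
    have hroot : ∀ y ∈ S, σ y = y := by
      intro y hy
      rw [hS, Finset.mem_insert, Finset.mem_image] at hy
      rcases hy with rfl | ⟨z, -, rfl⟩
      · exact hx
      · exact hmem z z.2
    have h2 : S.card ≤ (Polynomial.X ^ q - Polynomial.X : Polynomial F).natDegree := by
      refine le_trans ((Finset.card_le_card fun y hy => ?_).trans (Multiset.toFinset_card_le _))
        (Polynomial.card_roots' _)
      rw [Multiset.mem_toFinset, Polynomial.mem_roots (FiniteField.X_pow_card_sub_X_ne_zero F hq1)]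
      have := hroot y hy
      rw [hσ] at this
      simp [this]
    rw [FiniteField.X_pow_card_sub_X_natDegree_eq F hq1] at h2
    omega
  have hζσ : ζ + σ ζ = 0 := by rw [hσ]; exact hζ
  have halt' : ∀ u : Fin n → F₀, Cfsg.hermForm n F q (rv P u) (rv P u) = 0 := fun u => halt _ fun i => (u i).2
  have hB := isSymplectic_ratForm hf hfix hζ0 hP halt'
  have hH : ∀ (v : Fin n → F₀) (c : F), c + σ c = 0 →
      uT (Cfsg.hermForm n F q) (rv P v) c ∈ Cfsg.Geo.subfieldSubgroup F₀ P ⊓
        (Cfsg.GU n F q ⊓ Cfsg.Geo.specialLinear (Fin n) F) := by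
    intro v c hc
    refine ⟨mem_subfieldSubgroup_of_lines _ fun u => ⟨1, u + (⟨c / ζ, (hfix _).mp ?_⟩ * ratForm ζ hP u v) • v, ?_⟩,
      uT_mem_SU hσ hinv hne (halt' v) hc⟩
    · rw [map_div₀, eq_neg_of_add_eq_zero_right hc, eq_neg_of_add_eq_zero_right hζσ, neg_div_neg_eq]
    · change (uT (Cfsg.hermForm n F q) (rv P v) c : Matrix _ _ F) *ᵥ rv P u = (1 : F) • rv P _
      rw [uT_mulVec hf (halt' v), one_smul, rv_add, rv_smul]
      congr 2
      simp only [ratForm, Subfield.coe_mul]
      field_simp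
  refine ⟨lt_of_le_not_ge inf_le_right fun hle => ?_, fun M hHM hMK => ?_⟩
  · obtain ⟨a, ha⟩ : ∃ a : Fin n → F₀, a ≠ 0 := ⟨Pi.single ⟨0, by omega⟩ 1, by simp⟩
    let φ := toBilin hB.bilinear a
    have hker : ¬ LinearMap.ker φ ≤ Submodule.span F₀ {a} := by
      intro hk
      have h1 := Submodule.finrank_mono hk
      have h2 : Module.finrank F₀ (Submodule.span F₀ ({a} : Set (Fin n → F₀))) = 1 := finrank_span_singleton ha
      have h3 := LinearMap.finrank_range_add_finrank_ker φ
      have h4 := Submodule.finrank_le (LinearMap.range φ)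
      rw [Module.finrank_fin_fun] at h3
      rw [Module.finrank_self] at h4
      omega
    obtain ⟨b, hb, hba⟩ := SetLike.not_le_iff_exists.mp hker
    have hab : ratForm ζ hP a b = 0 := LinearMap.mem_ker.mp hb
    have hab' : Cfsg.hermForm n F q (rv P a) (rv P b) = 0 :=
      (mul_eq_zero.mp (congrArg Subtype.val hab)).resolve_left hζ0
    obtain ⟨θ, hθ⟩ : ∃ θ : F, θ ∉ F₀ := by
      by_contra h
      simp only [not_exists, not_not] at h
      exact hne (RingEquiv.ext fun x => hmem x (h x))
    have hu : Cfsg.hermForm n F q (rv P a + θ • rv P b) (rv P a + θ • rv P b) = 0 := by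
      rw [hf.add_left, Unitary.add_right' hf, Unitary.add_right' hf, hf.smul_left, hf.smul_left,
        Unitary.smul_right' hf, Unitary.smul_right' hf, halt', halt', hab', (eq_zero_comm hf).mp hab']
      ring
    -- a rational vector orthogonal to b but not to a
    obtain ⟨x, hxb, hxa⟩ := exists_perp_ne hB (W := Submodule.span F₀ {b}) (v := a) (fun h => hba (by
      obtain ⟨j, hj⟩ := Submodule.mem_span_singleton.mp h
      have hj0 : j ≠ 0 := fun h0 => ha (by rw [← hj, h0, zero_smul])
      exact Submodule.mem_span_singleton.mpr ⟨j⁻¹, by rw [← hj, inv_smul_smul₀ hj0]⟩))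
    have hxb' : Cfsg.hermForm n F q (rv P x) (rv P b) = 0 :=
      (mul_eq_zero.mp (congrArg Subtype.val (hxb b (Submodule.mem_span_singleton_self b)))).resolve_left hζ0
    obtain ⟨l, r, hlr⟩ := lines_of_mem_subfieldSubgroup (hle (uT_mem_SU hσ hinv hne hu hζσ)).1 x
    change (uT (Cfsg.hermForm n F q) (rv P a + θ • rv P b) ζ : Matrix _ _ F) *ᵥ rv P x = l • rv P r at hlr
    obtain ⟨k, hk⟩ : ∃ k, k = ratForm ζ hP x a := ⟨_, rfl⟩
    have hk0 : k ≠ 0 := hk ▸ hxa
    have hkv : ζ * Cfsg.hermForm n F q (rv P x) (rv P a + θ • rv P b) = k := by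
      rw [Unitary.add_right' hf, Unitary.smul_right' hf, hxb', mul_zero, add_zero, hk]
      rfl
    rw [uT_mulVec hf hu, hkv, smul_add, smul_smul, ← add_assoc, ← rv_smul, ← rv_add, mul_comm, ← smul_smul,
      ← rv_smul] at hlr
    have hind : x + k • a ∉ Submodule.span F₀ {k • b} := fun hm => by
      obtain ⟨j, hj⟩ := Submodule.mem_span_singleton.mp hm
      have hx' : x = (j * k) • b - k • a := by rw [← smul_smul, hj, add_sub_cancel_right]
      refine hxa ?_
      rw [hx', CfsgLib.Transvec.sub_left' hB, CfsgLib.Transvec.smul_left' hB, CfsgLib.Transvec.smul_left' hB,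
        hB.skew b a, hab, hB.alternating]
      ring
    -- coordinates: (x + k a) + θ (k b) = l r
    have hkb : k • b ≠ 0 := smul_ne_zero hk0 fun h0 => hba (by rw [h0]; exact Submodule.zero_mem _)
    have hvec : coeVec F₀ (x + k • a) + θ • coeVec F₀ (k • b) = l • coeVec F₀ r := by
      refine mulVec_injective P ?_
      simp only [mulVec_add, mulVec_smul]
      exact hlr
    obtain ⟨i, hi⟩ := Function.ne_iff.mp hkb
    have hii := congrFun hvec i
    simp only [coeVec, Pi.add_apply, Pi.smul_apply, smul_eq_mul] at hii hi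
    have hri : (r i : F) ≠ 0 := by
      intro h0
      rw [h0, mul_zero] at hii
      refine hθ ?_
      have hb0 : ((k * b i : F₀) : F) ≠ 0 := fun h => hi (Subtype.ext h)
      have : θ = -((x i + k * a i : F₀) : F) / ((k * b i : F₀) : F) := by
        rw [eq_div_iff hb0]; linear_combination hii
      rw [this]
      exact div_mem (neg_mem (SetLike.coe_mem _)) (SetLike.coe_mem _)
    obtain ⟨A, hA⟩ : ∃ A : F₀, (A : F) = ((x i + k * a i : F₀) : F) / r i :=
      ⟨⟨_, div_mem (SetLike.coe_mem _) (r i).2⟩, rfl⟩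
    obtain ⟨C, hC⟩ : ∃ C : F₀, (C : F) = ((k * b i : F₀) : F) / r i :=
      ⟨⟨_, div_mem (SetLike.coe_mem _) (r i).2⟩, rfl⟩
    have hl : l = (A : F) + θ * C := by rw [hA, hC]; field_simp; linear_combination -hii
    have hsep : ∀ p s : F₀, (p : F) + θ * s = 0 → p = 0 ∧ s = 0 := by
      intro p s h
      by_cases hs : s = 0
      · rw [hs, ZeroMemClass.coe_zero, mul_zero, add_zero] at h
        exact ⟨Subtype.ext h, hs⟩
      · refine absurd ?_ hθ
        have hs' : (s : F) ≠ 0 := fun h0 => hs (Subtype.ext h0)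
        have : θ = -(p : F) / s := by rw [eq_div_iff hs']; linear_combination h
        rw [this]
        exact div_mem (neg_mem p.2) s.2
    have hcoord : ∀ j, x j + k * a j = A * r j ∧ k * b j = C * r j := by
      intro j
      have hj := congrFun hvec j
      simp only [coeVec, Pi.add_apply, Pi.smul_apply, smul_eq_mul, hl] at hj
      obtain ⟨h1, h2⟩ := hsep (x j + k * a j - A * r j) (k * b j - C * r j) (by
        push_cast at hj ⊢
        linear_combination hj)
      exact ⟨sub_eq_zero.mp h1, sub_eq_zero.mp h2⟩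
    have hC0 : C ≠ 0 := fun h0 => hkb (funext fun j => by simpa [h0] using (hcoord j).2)
    refine hind (Submodule.mem_span_singleton.mpr ⟨A / C, funext fun j => ?_⟩)
    simp only [Pi.smul_apply, Pi.add_apply, smul_eq_mul, (hcoord j).1, (hcoord j).2]
    field_simp
  by_cases hM : M ≤ Cfsg.Geo.subfieldSubgroup F₀ P
  · exact Or.inl (le_antisymm (le_inf hM hMK) hHM)
  right
  obtain ⟨g, hgM, hg⟩ := SetLike.not_le_iff_exists.mp hM
  refine le_antisymm hMK (su_le_of_transv hF hσ hinv hne hn fun v hv c hc => ?_)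
  exact (Cfsg.Agent.S5660.all_full hf hfix hζ0 hζσ hP halt' (fun u d hd => hHM (hH u d hd)) hgM (hMK hgM).1 hg v hv).2 c hc

end CfsgLib.SUFour
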